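import Cfsg.Agent.Fusion.Saturation

/-!
# Strongly closed subgroups

* `mem_of_stronglyClosed`: maps carry elements of a strongly closed `T` into `T`, and back.
* `conj_mem_stronglyClosed`: `T` is normalised by `S`.
* `range_inf_stronglyClosed`: `φ(P) ∩ T = φ(P ∩ T)`.
* `aut_preserves`: automorphisms in the system preserve `P ∩ T`.
* `mem_aut_range`: automizers of conjugates.
-/

set_option autoImplicit false

namespace CfsgLib.FusionClosed

open Cfsg Cfsg.FusionSystem CfsgLib.Fusion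

variable {Ω : Type*} [Group Ω] {S : Subgroup Ω} {F : FusionSystem S} {T P : Subgroup Ω}

theorem apply_mem_stronglyClosed (hT : F.StronglyClosed T) {φ : P →* Ω} (hφ : φ ∈ F.Hom P)
    {x : P} (hx : (x : Ω) ∈ T) : φ x ∈ T :=
  hT.2 (P ⊓ T) inf_le_right _ (restrict_mem hφ inf_le_left) ⟨x, x.2, hx⟩

theorem mem_stronglyClosed_iff (hT : F.StronglyClosed T) {φ : P →* Ω} (hφ : φ ∈ F.Hom P)
    {x : P} : φ x ∈ T ↔ (x : Ω) ∈ T := by
  refine ⟨fun h => ?_, apply_mem_stronglyClosed hT hφ⟩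
  obtain ⟨ψ, hψ, hψv⟩ := F.inv_mem hφ
  rw [← hψv x]
  exact apply_mem_stronglyClosed hT hψ h

theorem conj_mem_stronglyClosed (hT : F.StronglyClosed T) {g x : Ω} (hg : g ∈ S) (hx : x ∈ T) :
    g * x * g⁻¹ ∈ T :=
  hT.2 T le_rfl _ (F.conj_mem hT.1 hg) ⟨x, hx⟩

theorem mem_normalizer_stronglyClosed (hT : F.StronglyClosed T) {g : Ω} (hg : g ∈ S) :
    g ∈ Subgroup.normalizer (T : Set Ω) := by
  rw [Subgroup.mem_normalizer_iff]
  refine fun x => ⟨conj_mem_stronglyClosed hT hg, fun h => ?_⟩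
  have := conj_mem_stronglyClosed hT (inv_mem hg) h
  simpa [mul_assoc] using this

theorem imgHom_inf_stronglyClosed (hT : F.StronglyClosed T) {φ : P →* Ω} (hφ : φ ∈ F.Hom P) :
    φ.range ⊓ T = imgHom φ (P ⊓ T) := by
  ext y
  constructor
  · rintro ⟨⟨x, rfl⟩, hy⟩
    exact ⟨x, ⟨x.2, (mem_stronglyClosed_iff hT hφ).1 hy⟩, rfl⟩
  · rintro ⟨x, hx, rfl⟩
    exact ⟨⟨x, rfl⟩, apply_mem_stronglyClosed hT hφ hx.2⟩

theorem aut_mem_stronglyClosed_iff (hT : F.StronglyClosed T) (hP : P ≤ S) {α : MulAut P}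
    (hα : α ∈ F.autGroup P) {x : P} : ((α x : P) : Ω) ∈ T ↔ (x : Ω) ∈ T :=
  mem_stronglyClosed_iff hT ((mem_autGroup_iff hP).1 hα) (x := x)

end CfsgLib.FusionClosed
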