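import Mathlib.GroupTheory.PGroup
import Mathlib.GroupTheory.SemidirectProduct
import Mathlib.Algebra.Group.End
import Cfsg.Agent.OddOrder.BG1Stab

/-!
# Stabilisers of series in automorphism groups of finite p-groups

* `stab c n`: automorphisms `α` with `α x * x⁻¹ ∈ c i` for `x ∈ c (i+1)`, `i < n`.
* `fix_of_stab`: such an automorphism of order prime to `p` fixes `c n` pointwise.
* `isPGroup_of_fix`: a group of automorphisms in which every `p'`-element is trivial is a p-group.
* `eq_one_of_fix_prime_order`: `p` odd, a `p'`-automorphism fixing all elements of order `p` is `1`.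
-/

set_option autoImplicit false

namespace CfsgLib.FusionClosed

variable {X : Type*} [Group X]

/-- `α` stabilises the series `c 0 ≤ … ≤ c n` with trivial action on each factor. -/
def StabSeries (c : ℕ → Subgroup X) (n : ℕ) (α : MulAut X) : Prop :=
  ∀ i < n, ∀ x ∈ c (i + 1), α x * x⁻¹ ∈ c i

theorem StabSeries.invariant {c : ℕ → Subgroup X} {n : ℕ} {α : MulAut X} (h : StabSeries c n α)
    (hmono : Monotone c) (h0 : c 0 = ⊥) {i : ℕ} (hi : i ≤ n) {x : X} (hx : x ∈ c i) :
    α x ∈ c i := by
  rcases i with _ | j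
  · rw [h0, Subgroup.mem_bot] at hx ⊢
    rw [hx, map_one]
  · have h1 := hmono (Nat.le_succ j) (h j hi x hx)
    simpa using mul_mem h1 hx

/-- The stabiliser of a series, as a subgroup of the automorphism group. -/
def stab [Finite X] (c : ℕ → Subgroup X) (n : ℕ) (_hmono : Monotone c) (_h0 : c 0 = ⊥) :
    Subgroup (MulAut X) :=
  Subgroup.closure {α | StabSeries c n α}

theorem mem_stab [Finite X] {c : ℕ → Subgroup X} {n : ℕ} (hmono : Monotone c) (h0 : c 0 = ⊥)
    {α : MulAut X} : α ∈ stab c n hmono h0 ↔ StabSeries c n α := by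
  refine ⟨fun h => ?_, fun h => Subgroup.subset_closure h⟩
  have : Finite (MulAut X) := Finite.of_injective (fun α => (α : X → X))
    DFunLike.coe_injective
  rw [stab, ← Subgroup.mem_toSubmonoid, Subgroup.closure_toSubmonoid_of_finite] at h
  induction h using Submonoid.closure_induction with
  | mem x hx => exact hx
  | one => intro i _ x _; simp
  | mul a b _ _ ha hb =>
    intro i hi x hx
    have h1 : b x ∈ c (i + 1) := hb.invariant hmono h0 hi hx
    have h2 := mul_mem (ha i hi _ h1) (hb i hi x hx)
    simpa [mul_assoc] using h2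

/-- An automorphism of order prime to `p` stabilising a series of a `p`-group fixes it pointwise. -/
theorem fix_of_stab {p : ℕ} [Fact p.Prime] (hX : IsPGroup p X) {c : ℕ → Subgroup X} {n : ℕ}
    (h0 : c 0 = ⊥) {α : MulAut X} (h : StabSeries c n α) (hα : (orderOf α).Coprime p) :
    ∀ i ≤ n, ∀ x ∈ c i, α x = x := by
  intro i
  induction i with
  | zero => intro _ x hx; rw [h0, Subgroup.mem_bot] at hx; rw [hx, map_one]
  | succ j ih =>
    intro hj x hx
    obtain ⟨d, hd⟩ : ∃ d, d = α x * x⁻¹ := ⟨_, rfl⟩
    have hfix : α d = d := ih (Nat.le_of_succ_le hj) d (hd ▸ h j hj x hx)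
    have hax : α x = d * x := by rw [hd, inv_mul_cancel_right]
    have hpow : ∀ k : ℕ, (α ^ k) x = d ^ k * x := by
      intro k
      induction k with
      | zero => simp
      | succ k ihk =>
        rw [pow_succ', MulAut.mul_apply, ihk, map_mul, map_pow, hfix, hax, pow_succ, mul_assoc]
    have h1 : d ^ orderOf α = 1 := by
      have := hpow (orderOf α)
      rw [pow_orderOf_eq_one, MulAut.one_apply] at this
      simpa using this.symm
    obtain ⟨k, hk⟩ := hX d
    have h2 : d = 1 := by
      have h3 : orderOf d ∣ Nat.gcd (orderOf α) (p ^ k) :=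
        Nat.dvd_gcd (orderOf_dvd_of_pow_eq_one h1) (orderOf_dvd_of_pow_eq_one hk)
      rw [(hα.pow_right k).gcd_eq_one] at h3
      exact orderOf_eq_one_iff.mp (Nat.eq_one_of_dvd_one h3)
    rw [hax, h2, one_mul]

/-- A finite group of automorphisms in which the elements of order prime to `p` are trivial. -/
theorem isPGroup_of_coprime_trivial {G : Type*} [Group G] [Finite G] {p : ℕ} [Fact p.Prime]
    {K : Subgroup G} (h : ∀ g ∈ K, (orderOf g).Coprime p → g = 1) : IsPGroup p K := by
  intro g
  obtain ⟨k, m, hm, hkm⟩ : ∃ k m, ¬ p ∣ m ∧ orderOf (g : G) = p ^ k * m :=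
    Nat.exists_eq_pow_mul_and_not_dvd (orderOf_pos _).ne' p (Fact.out : p.Prime).ne_one
  refine ⟨k, Subtype.ext ?_⟩
  rw [SubgroupClass.coe_pow, OneMemClass.coe_one]
  refine h _ (pow_mem g.2 _) ?_
  rw [orderOf_pow' _ (pow_ne_zero _ (Fact.out : p.Prime).ne_zero), hkm, Nat.gcd_mul_right_left,
    Nat.mul_div_cancel_left _ (pow_pos (Fact.out : p.Prime).pos k)]
  exact ((Fact.out : p.Prime).coprime_iff_not_dvd.mpr hm).symm

/-- `p` odd: a `p'`-automorphism of a finite `p`-group fixing the elements of order `p` is trivial. -/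
theorem eq_one_of_fix_prime_order [Finite X] {p : ℕ} [Fact p.Prime] (hp : p ≠ 2)
    (hX : IsPGroup p X) {α : MulAut X} (hα : (orderOf α).Coprime p)
    (hfix : ∀ x : X, x ^ p = 1 → α x = x) : α = 1 := by
  have : Finite (MulAut X) := Finite.of_injective (fun α => (α : X → X))
    DFunLike.coe_injective
  have : Finite (X ⋊[MonoidHom.id (MulAut X)] MulAut X) :=
    Finite.of_equiv _ SemidirectProduct.equivProd.symm
  set P : Subgroup (X ⋊[MonoidHom.id (MulAut X)] MulAut X) :=
    (SemidirectProduct.inl (φ := MonoidHom.id (MulAut X))).range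
  set a : X ⋊[MonoidHom.id (MulAut X)] MulAut X := SemidirectProduct.inr α
  have hconj : ∀ x : X, a * SemidirectProduct.inl x * a⁻¹ =
      SemidirectProduct.inl (α x) := fun x => by
    rw [← map_inv]
    exact (SemidirectProduct.inl_aut (φ := MonoidHom.id (MulAut X)) α x).symm
  have hP : IsPGroup p P := fun y => by
    obtain ⟨x, hx⟩ := y.2
    obtain ⟨k, hk⟩ := hX x
    exact ⟨k, Subtype.ext (by rw [SubgroupClass.coe_pow, ← hx, ← map_pow, hk, map_one]; rfl)⟩
  have hcomm := CfsgLib.OddOrder.Stab.commute_of_fix_prime_order hp hP (a := a)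
    (by rwa [orderOf_injective _ SemidirectProduct.inr_injective]) (by
      rw [Subgroup.mem_normalizer_iff]
      intro z
      constructor
      · rintro ⟨x, rfl⟩
        exact ⟨α x, (hconj x).symm⟩
      · rintro ⟨x, hx⟩
        refine ⟨α.symm x, ?_⟩
        have h3 := hconj (α.symm x)
        rw [MulEquiv.apply_symm_apply, hx] at h3
        exact mul_left_cancel (mul_right_cancel h3)) (by
      rintro _ ⟨x, rfl⟩ hx
      have h4 : x ^ p = 1 := SemidirectProduct.inl_injective (by rw [map_pow, hx, map_one])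
      have h5 := hconj x
      rw [hfix x h4, mul_inv_eq_iff_eq_mul] at h5
      exact h5)
  ext x
  apply SemidirectProduct.inl_injective (φ := MonoidHom.id (MulAut X))
  have h6 := hcomm _ ⟨x, rfl⟩
  rw [← hconj x, h6.eq, mul_inv_cancel_right]
  rfl

/-- `p` odd: a `p'`-automorphism preserving `Y` and fixing its elements of order `p` fixes `Y`. -/
theorem fix_of_fix_prime_order [Finite X] {p : ℕ} [Fact p.Prime] (hp : p ≠ 2) {Y : Subgroup X}
    (hY : IsPGroup p Y) {α : MulAut X} (hinv : ∀ x : X, α x ∈ Y ↔ x ∈ Y)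
    (hα : (orderOf α).Coprime p) (hfix : ∀ x ∈ Y, x ^ p = 1 → α x = x) : ∀ x ∈ Y, α x = x := by
  have : Finite (MulAut X) := Finite.of_injective (fun α => (α : X → X))
    DFunLike.coe_injective
  have : Finite (X ⋊[MonoidHom.id (MulAut X)] MulAut X) :=
    Finite.of_equiv _ SemidirectProduct.equivProd.symm
  set a : X ⋊[MonoidHom.id (MulAut X)] MulAut X := SemidirectProduct.inr α
  have hconj : ∀ x : X, a * SemidirectProduct.inl x * a⁻¹ =
      SemidirectProduct.inl (α x) := fun x => by
    rw [← map_inv]
    exact (SemidirectProduct.inl_aut (φ := MonoidHom.id (MulAut X)) α x).symm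
  have hcomm := CfsgLib.OddOrder.Stab.commute_of_fix_prime_order hp
    (hY.map (SemidirectProduct.inl (φ := MonoidHom.id (MulAut X)))) (a := a)
    (by rwa [orderOf_injective _ SemidirectProduct.inr_injective]) (by
      rw [Subgroup.mem_normalizer_iff]
      intro z
      constructor
      · rintro ⟨x, hx, rfl⟩
        exact ⟨α x, (hinv x).2 hx, (hconj x).symm⟩
      · rintro ⟨x, hx, hxz⟩
        refine ⟨α.symm x, (hinv _).1 (by rwa [MulEquiv.apply_symm_apply]), ?_⟩
        have h3 := hconj (α.symm x)
        rw [MulEquiv.apply_symm_apply, hxz] at h3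
        exact mul_left_cancel (mul_right_cancel h3)) (by
      rintro _ ⟨x, hx, rfl⟩ hxp
      have h4 : x ^ p = 1 := SemidirectProduct.inl_injective (by rw [map_pow, hxp, map_one])
      have h5 := hconj x
      rw [hfix x hx h4, mul_inv_eq_iff_eq_mul] at h5
      exact h5)
  intro x hx
  apply SemidirectProduct.inl_injective (φ := MonoidHom.id (MulAut X))
  rw [← hconj x, (hcomm _ ⟨x, hx, rfl⟩).eq, mul_inv_cancel_right]


end CfsgLib.FusionClosed
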