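import Cfsg.Agent.Fusion.Alperin
import Cfsg.Agent.Fusion.Systems
import Cfsg.Agent.FusionClosed.StronglyClosed
import Cfsg.Agent.FusionClosed.Stabilizer
import Cfsg.Agent.FusionPStable.Basic

/-!
# Strongly closed subgroups inside every essential subgroup

* `isNormal_of_le_essential`: a strongly closed subgroup contained in every essential subgroup is
  normal in the system.
* `le_of_normal_pSubgroup`: the trick showing that `P` lies in a radical centric `R`.
-/

set_option autoImplicit false

namespace CfsgLib.FusionClosed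

open Cfsg Cfsg.FusionSystem CfsgLib.Fusion

variable {Ω : Type*} [Group Ω] {S : Subgroup Ω} {F : FusionSystem S} {T : Subgroup Ω} {p : ℕ}

theorem isNormal_of_le_essential [Finite S] [Fact p.Prime] (hS : IsPGroup p S)
    (hF : F.IsSaturated p) (hT : F.StronglyClosed T)
    (h : ∀ P : Subgroup Ω, F.IsEssential p P → T ≤ P) : F.IsNormal T := by
  have hN : S = kNormalizer S T ⊤ := by
    rw [kNormalizer_top, normalizerIn, eq_comm, inf_eq_left]
    exact fun g hg => mem_normalizer_stronglyClosed hT hg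
  let E := kSystem F hT.1 ⊤ hN
  have hle : F ≤ E := by
    refine le_of_essential hS hF fun P hP α hα => ?_
    have hPS : P ≤ S := by
      rcases hP with rfl | hP
      · exact le_rfl
      · exact hP.1.1
    have hTP : T ≤ P := by
      rcases hP with rfl | hP
      · exact hT.1
      · exact h P hP
    have hI := (mem_autGroup_iff hPS).1 hα
    have hsup : P ⊔ T = P := sup_eq_left.2 hTP
    refine Subgroup.subset_closure ⟨hI, hPS, fun x => hPS (α x).2,
      (P.subtype.comp α.toMonoidHom).comp (Subgroup.inclusion hsup.le), ?_, fun x => rfl, ?_⟩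
    · exact mem_of_eq hsup hI fun x hx => rfl
    · refine (exists_aut_iff (mem_of_eq hsup hI fun x hx => rfl) le_sup_right).2 ?_
      ext y
      constructor
      · rintro ⟨x, hx, rfl⟩
        exact apply_mem_stronglyClosed hT hI (x := ⟨x, hsup.le x.2⟩) hx
      · intro hy
        obtain ⟨z, hz⟩ := α.surjective ⟨y, hTP hy⟩
        exact ⟨⟨z, Subgroup.mem_sup_left z.2⟩,
          (aut_mem_stronglyClosed_iff hT hPS hα).1 (by rw [hz]; exact hy),
          congrArg Subtype.val hz⟩
  refine ⟨hT.1, fun P φ hφ => ?_⟩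
  obtain ⟨-, -, -, ψ, hψ, hψv, hψT⟩ := hle P hφ
  exact ⟨ψ, hψ, hψv, (exists_aut_iff hψ le_sup_right).1 hψT⟩

/-- If the strongly closed `T` is not contained in the radical centric `R`, some `x ∈ T \ R`
normalises `R`. -/
theorem exists_mem_normalizer_not_mem_of_not_le [Finite S] [Fact p.Prime] (hS : IsPGroup p S)
    (hT : F.StronglyClosed T) {R : Subgroup Ω} (hR : R ≤ S) (h : ¬ T ≤ R) :
    ∃ x ∈ T, x ∈ normalizerIn S R ∧ x ∉ R := by
  set M := R ⊔ T
  have hMS : M ≤ S := sup_le hR hT.1
  have := finite_of_le hMS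
  have hlt : R < M := lt_of_le_of_ne le_sup_left fun e => h (e ▸ le_sup_right)
  obtain ⟨m, hm, hmR⟩ := SetLike.exists_of_lt (lt_normalizerIn (hS.to_le hMS) hlt)
  have hmM : m ∈ (M : Set Ω) := hm.1
  rw [Subgroup.coe_mul_of_left_le_normalizer_right R T
    (fun r hr => mem_normalizer_stronglyClosed hT (hR hr))] at hmM
  obtain ⟨u, hu, c, hc, rfl⟩ := hmM
  refine ⟨c, hc, Subgroup.mem_inf.2 ⟨hT.1 hc, ?_⟩, fun hcR => hmR (mul_mem hu hcR)⟩
  simpa using mul_mem (inv_mem (Subgroup.le_normalizer hu)) hm.2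

/-- An element of `N_S(R)` whose action lies in a normal `p`-subgroup of `Aut_F(R)` lies in `R`
when `R` is centric and radical. -/
theorem mem_of_normal_pSubgroup [Finite S] [Fact p.Prime] {R : Subgroup Ω}
    (hc : F.IsCentric R) (hrad : F.IsRadical p R) {K : Subgroup (F.autGroup R)} (hK : K.Normal)
    (hKp : IsPGroup p K) {x : Ω} (hx : x ∈ normalizerIn S R) {α : F.autGroup R} (hα : α ∈ K)
    (hv : ∀ y : R, ((α : MulAut R) y : Ω) = x * y * x⁻¹) : x ∈ R := by
  by_contra hxR
  have h1 : (α : MulAut R) ∈ (pCore p (F.autGroup R)).map (F.autGroup R).subtype :=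
    ⟨α, CfsgLib.FusionPStable.le_pCore hK hKp hα, rfl⟩
  rw [hrad.2] at h1
  exact not_mem_Inn_of_not_mem hc hx hxR hv h1

end CfsgLib.FusionClosed
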