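import Cfsg.Agent.FusionClosed.Stabilizer

/-!
# Groups of automorphisms with two transvections and small Sylow subgroups

For an abelian `X` and `A ≤ Aut X` whose `p`-subgroups have order at most `p`, two transvections
`σ`, `τ` of `A` generating different subgroups form a pair: `X = ⟨z, z'⟩ × (fix σ ⊓ fix τ)`.

* `exists_pair`, `Pair.decomp`, `Pair.centre_fix`.
* `Pair.neg`: the central involution `-1` of `⟨z, z'⟩`.
* `Pair.third`: for `p = 2` any further transvection of `A` is `στσ`.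
-/

set_option autoImplicit false

namespace CfsgLib.FusionClosed

variable {X : Type*} [CommGroup X]

/-- The displacement `y ↦ α y * y⁻¹`. -/
def disp (α : MulAut X) : X →* X where
  toFun y := α y * y⁻¹
  map_one' := by simp
  map_mul' a b := by rw [map_mul, mul_inv, mul_mul_mul_comm]

/-- The fixed subgroup. -/
def fixSub (α : MulAut X) : Subgroup X := (disp α).ker

theorem mem_fixSub {α : MulAut X} {y : X} : y ∈ fixSub α ↔ α y = y :=
  show α y * y⁻¹ = 1 ↔ α y = y from mul_inv_eq_one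

theorem apply_eq_disp (α : MulAut X) (y : X) : α y = disp α y * y :=
  (inv_mul_cancel_right _ _).symm

theorem disp_conj (g α : MulAut X) (y : X) : disp (g * α * g⁻¹) (g y) = g (disp α y) := by
  show g (α (g⁻¹ (g y))) * (g y)⁻¹ = g (α y * y⁻¹)
  rw [MulAut.inv_apply_self, map_mul, map_inv]

theorem fixSub_conj (g α : MulAut X) : fixSub (g * α * g⁻¹) = (fixSub α).map g.toMonoidHom := by
  ext y
  obtain ⟨x, rfl⟩ := g.surjective y
  rw [fixSub, MonoidHom.mem_ker, disp_conj, map_eq_one_iff g g.injective]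
  exact ⟨fun h => ⟨x, h, rfl⟩, fun ⟨x', h, he⟩ => g.injective he ▸ h⟩

/-- A transvection: order `p`, fixed hyperplane, displacement inside it. -/
structure IsTransvection (p : ℕ) (σ : MulAut X) : Prop where
  order : orderOf σ = p
  index : (fixSub σ).index = p
  sq : ∀ y, σ (disp σ y) = disp σ y

variable {p : ℕ} {σ τ : MulAut X}

theorem IsTransvection.pow_apply (h : IsTransvection p σ) (j : ℕ) (y : X) :
    (σ ^ j) y = disp σ y ^ j * y := by
  induction j with
  | zero => simp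
  | succ j ih =>
    rw [pow_succ', MulAut.mul_apply, ih, map_mul, map_pow, h.sq, pow_succ, mul_assoc,
      ← apply_eq_disp σ y]

theorem IsTransvection.disp_pow (h : IsTransvection p σ) (j : ℕ) (y : X) :
    disp (σ ^ j) y = disp σ y ^ j := by
  show (σ ^ j) y * y⁻¹ = _
  rw [h.pow_apply, mul_inv_cancel_right]

theorem IsTransvection.conj (h : IsTransvection p σ) (g : MulAut X) :
    IsTransvection p (g * σ * g⁻¹) := by
  refine ⟨?_, ?_, fun y => ?_⟩
  · rw [← h.order]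
    exact MulEquiv.orderOf_eq (MulAut.conj g) σ
  · rw [fixSub_conj, ← h.index]
    exact Subgroup.index_map_of_bijective g.bijective _
  · obtain ⟨x, rfl⟩ := g.surjective y
    rw [disp_conj, MulAut.mul_apply, MulAut.mul_apply, MulAut.inv_apply_self, h.sq]

variable [Fact p.Prime]

theorem IsTransvection.card_range (h : IsTransvection p σ) : Nat.card (disp σ).range = p := by
  rw [← Subgroup.index_ker]
  exact h.index

theorem IsTransvection.range_eq (h : IsTransvection p σ) {z : X} (hz : z ∈ (disp σ).range)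
    (hz1 : z ≠ 1) : (disp σ).range = Subgroup.zpowers z := by
  have : Finite (disp σ).range :=
    Nat.finite_of_card_ne_zero (h.card_range.symm ▸ (Fact.out : p.Prime).ne_zero)
  refine (Subgroup.eq_of_le_of_card_ge (Subgroup.zpowers_le.2 hz) ?_).symm
  rw [h.card_range, Nat.card_zpowers]
  have h1 : orderOf (⟨z, hz⟩ : (disp σ).range) ∣ p := h.card_range ▸ orderOf_dvd_natCard _
  rw [Subgroup.orderOf_mk] at h1
  rcases (Nat.dvd_prime (Fact.out : p.Prime)).1 h1 with h2 | h2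
  · exact absurd (orderOf_eq_one_iff.1 h2) hz1
  · exact h2.ge

theorem IsTransvection.range_pow (h : IsTransvection p σ) {z : X} (hz : z ∈ (disp σ).range) :
    z ^ p = 1 := by
  have := pow_card_eq_one' (x := (⟨z, hz⟩ : (disp σ).range))
  rw [h.card_range] at this
  exact congrArg Subtype.val this

theorem eq_of_two [Finite X] (hX : IsPGroup p X) {A : Subgroup (MulAut X)}
    (hA : ∀ M ≤ A, IsPGroup p M → Nat.card M ≤ p) (hσA : σ ∈ A) (hτA : τ ∈ A)
    (hσo : orderOf σ = p) {c : ℕ → Subgroup X} {n : ℕ} (h0 : c 0 = ⊥) (hn : c n = ⊤)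
    (hmono : Monotone c) (hσ : StabSeries c n σ) (hτ : StabSeries c n τ) :
    τ ∈ Subgroup.zpowers σ := by
  have : Finite (MulAut X) := Finite.of_injective (fun α => (α : X → X)) DFunLike.coe_injective
  set M := Subgroup.closure ({σ, τ} : Set (MulAut X))
  have hM : M ≤ A := (Subgroup.closure_le _).2 (by rintro x (rfl | rfl) <;> assumption)
  have hle : M ≤ stab c n hmono h0 :=
    Subgroup.closure_mono (by rintro x (rfl | rfl) <;> assumption)
  have hp' : IsPGroup p M := isPGroup_of_coprime_trivial fun g hg hco => MulEquiv.ext fun x =>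
    fix_of_stab hX h0 ((mem_stab hmono h0).1 (hle hg)) hco n le_rfl x (hn ▸ Subgroup.mem_top x)
  have hσM : Subgroup.zpowers σ ≤ M :=
    Subgroup.zpowers_le.2 (Subgroup.subset_closure (Or.inl rfl))
  have he := Subgroup.eq_of_le_of_card_ge hσM (by
    rw [Nat.card_zpowers, hσo]
    exact hA M hM hp')
  exact he ▸ Subgroup.subset_closure (Or.inr rfl)

/-- The displacement of one member of a pair is not fixed by the other. -/
theorem not_range_le_fix [Finite X] (hX : IsPGroup p X) {A : Subgroup (MulAut X)}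
    (hA : ∀ M ≤ A, IsPGroup p M → Nat.card M ≤ p) (hσA : σ ∈ A) (hτA : τ ∈ A)
    (hσ : IsTransvection p σ) (hτ : IsTransvection p τ) (hne : τ ∉ Subgroup.zpowers σ) :
    ¬ (disp σ).range ≤ fixSub τ := by
  intro hle
  let c : ℕ → Subgroup X := fun i =>
    if i = 0 then ⊥ else if i = 1 then (disp σ).range
      else if i = 2 then (disp σ).range ⊔ (disp τ).range else ⊤
  have hmono : Monotone c := monotone_nat_of_le_succ fun i => by
    rcases i with _ | _ | _ | i <;> simp [c]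
  refine hne (eq_of_two hX hA hσA hτA hσ.order (n := 3) (c := c) rfl rfl hmono ?_ ?_)
  · intro i hi x hx
    interval_cases i
    · obtain ⟨y, rfl⟩ : x ∈ (disp σ).range := hx
      show σ (disp σ y) * (disp σ y)⁻¹ ∈ (⊥ : Subgroup X)
      rw [hσ.sq, mul_inv_cancel]
      exact one_mem _
    · exact ⟨x, rfl⟩
    · exact Subgroup.mem_sup_left ⟨x, rfl⟩
  · intro i hi x hx
    interval_cases i
    · have h1 := mem_fixSub.1 (hle (show x ∈ (disp σ).range from hx))
      show τ x * x⁻¹ ∈ (⊥ : Subgroup X)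
      rw [h1, mul_inv_cancel]
      exact one_mem _
    · obtain ⟨u, hu, v, ⟨w, rfl⟩, rfl⟩ :=
        Subgroup.mem_sup.1 (show x ∈ (disp σ).range ⊔ (disp τ).range from hx)
      show disp τ (u * disp τ w) ∈ (disp σ).range
      have h1 : disp τ u = 1 := hle hu
      have h2 : disp τ (disp τ w) = 1 := mem_fixSub.2 (hτ.sq w)
      rw [map_mul, h1, h2, one_mul]
      exact one_mem _
    · exact Subgroup.mem_sup_right ⟨x, rfl⟩

/-- A normalised pair of transvections. -/
structure Pair (p : ℕ) (σ τ : MulAut X) (z z' : X) : Prop where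
  left : IsTransvection p σ
  right : IsTransvection p τ
  z_range : (disp σ).range = Subgroup.zpowers z
  z'_range : (disp τ).range = Subgroup.zpowers z'
  z_ne : z ≠ 1
  z'_ne : z' ≠ 1
  left_apply : disp σ z' = z
  right_apply : disp τ z = z'

theorem exists_pair [Finite X] (hX : IsPGroup p X) {A : Subgroup (MulAut X)}
    (hA : ∀ M ≤ A, IsPGroup p M → Nat.card M ≤ p) (hσA : σ ∈ A) (hτA : τ ∈ A)
    (hσ : IsTransvection p σ) (hτ : IsTransvection p τ) (hne : τ ∉ Subgroup.zpowers σ) :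
    ∃ (τ' : MulAut X) (z z' : X), τ' ∈ A ∧ Pair p σ τ' z z' ∧ τ' ∈ Subgroup.zpowers τ ∧
      fixSub τ' = fixSub τ := by
  have hne' : σ ∉ Subgroup.zpowers τ := by
    intro h
    have : Finite (MulAut X) := Finite.of_injective (fun α => (α : X → X)) DFunLike.coe_injective
    refine hne ?_
    rw [Subgroup.eq_of_le_of_card_ge (Subgroup.zpowers_le.2 h)
      (by rw [Nat.card_zpowers, Nat.card_zpowers, hσ.order, hτ.order])]
    exact Subgroup.mem_zpowers τ
  obtain ⟨z', hz', hz'σ⟩ := SetLike.not_le_iff_exists.1 (not_range_le_fix hX hA hτA hσA hτ hσ hne')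
  have hz'1 : z' ≠ 1 := fun h => hz'σ (h ▸ one_mem _)
  set z := disp σ z' with hz
  have hz1 : z ≠ 1 := hz'σ
  have hzr := hσ.range_eq (z := z) ⟨z', rfl⟩ hz1
  have hzτ : disp τ z ≠ 1 := fun h => not_range_le_fix hX hA hσA hτA hσ hτ hne
    (hzr ▸ Subgroup.zpowers_le.2 h)
  have hmem : z' ∈ Subgroup.zpowers (disp τ z) := hτ.range_eq ⟨z, rfl⟩ hzτ ▸ hz'
  have hpow : z' ∈ Submonoid.powers (disp τ z) := mem_powers_iff_mem_zpowers.2 hmem
  obtain ⟨j, hj⟩ := hpow
  simp only at hj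
  have hτj : IsTransvection p (τ ^ j) := by
    have hj' : j.Coprime p := by
      refine ((Fact.out : p.Prime).coprime_iff_not_dvd.2 fun hd => hz'1 ?_).symm
      obtain ⟨m, rfl⟩ := hd
      rw [← hj, pow_mul, hτ.range_pow ⟨z, rfl⟩, one_pow]
    have hfix : fixSub (τ ^ j) = fixSub τ := by
      ext y
      rw [fixSub, fixSub, MonoidHom.mem_ker, MonoidHom.mem_ker, hτ.disp_pow]
      refine ⟨fun h => ?_, fun h => by rw [h, one_pow]⟩
      have h1 : disp τ y ^ p = 1 := hτ.range_pow ⟨y, rfl⟩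
      have h2 : orderOf (disp τ y) ∣ Nat.gcd j p :=
        Nat.dvd_gcd (orderOf_dvd_of_pow_eq_one h) (orderOf_dvd_of_pow_eq_one h1)
      rw [hj'.gcd_eq_one] at h2
      exact orderOf_eq_one_iff.1 (Nat.eq_one_of_dvd_one h2)
    refine ⟨?_, hfix ▸ hτ.index, fun y => ?_⟩
    · rw [Nat.Coprime.orderOf_pow (by rw [hτ.order]; exact hj'.symm), hτ.order]
    · rw [hτ.disp_pow, map_pow, hτ.pow_apply,
        show disp τ (disp τ y) = 1 from mem_fixSub.2 (hτ.sq y), one_pow, one_mul]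
  have hz'r : (disp (τ ^ j)).range = Subgroup.zpowers z' :=
    hτj.range_eq ⟨z, by rw [hτ.disp_pow]; exact hj⟩ hz'1
  refine ⟨τ ^ j, z, z', pow_mem hτA j, ⟨hσ, hτj, hzr, hz'r, hz1, hz'1, hz.symm, ?_⟩,
    Subgroup.npow_mem_zpowers τ j, ?_⟩
  · rw [hτ.disp_pow]
    exact hj
  · ext y
    rw [fixSub, fixSub, MonoidHom.mem_ker, MonoidHom.mem_ker, hτ.disp_pow]
    refine ⟨fun h => ?_, fun h => by rw [h, one_pow]⟩
    by_contra hy
    have h3 : z' ∈ Subgroup.zpowers (disp τ y) := hτ.range_eq ⟨y, rfl⟩ hy ▸ hz'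
    obtain ⟨b, hb⟩ := h3
    apply hz'1
    have h4 : disp (τ ^ j) z ∈ (disp (τ ^ j)).range := ⟨z, rfl⟩
    rw [hτ.disp_pow] at h4
    have h5 : disp τ z ∈ Subgroup.zpowers (disp τ y) := hτ.range_eq ⟨y, rfl⟩ hy ▸ ⟨z, rfl⟩
    obtain ⟨e, he⟩ := h5
    rw [← hj, ← he, ← zpow_natCast, ← zpow_mul, mul_comm, zpow_mul, zpow_natCast, h, one_zpow]

namespace Pair

variable {z z' : X}

theorem z_pow (P : Pair p σ τ z z') : z ^ p = 1 :=
  P.left.range_pow (P.z_range ▸ Subgroup.mem_zpowers z)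

theorem z'_pow (P : Pair p σ τ z z') : z' ^ p = 1 :=
  P.right.range_pow (P.z'_range ▸ Subgroup.mem_zpowers z')

theorem disp_left_z (P : Pair p σ τ z z') : disp σ z = 1 := by
  obtain ⟨y, hy⟩ : z ∈ (disp σ).range := P.z_range ▸ Subgroup.mem_zpowers z
  exact mem_fixSub.2 (hy ▸ P.left.sq y)

theorem disp_right_z' (P : Pair p σ τ z z') : disp τ z' = 1 := by
  obtain ⟨y, hy⟩ : z' ∈ (disp τ).range := P.z'_range ▸ Subgroup.mem_zpowers z'
  exact mem_fixSub.2 (hy ▸ P.right.sq y)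

/-- `X = ⟨z⟩ ⟨z'⟩ (fix σ ⊓ fix τ)`. -/
theorem decomp (P : Pair p σ τ z z') (y : X) :
    ∃ (a b : ℤ) (c : X), c ∈ fixSub σ ⊓ fixSub τ ∧ y = z ^ a * z' ^ b * c ∧
      disp σ y = z ^ b ∧ disp τ y = z' ^ a := by
  obtain ⟨b, hb⟩ : disp σ y ∈ Subgroup.zpowers z := P.z_range ▸ ⟨y, rfl⟩
  obtain ⟨a, ha⟩ : disp τ y ∈ Subgroup.zpowers z' := P.z'_range ▸ ⟨y, rfl⟩
  simp only at ha hb
  refine ⟨a, b, (z ^ a * z' ^ b)⁻¹ * y, Subgroup.mem_inf.2 ⟨?_, ?_⟩,
    (mul_inv_cancel_left _ _).symm, hb.symm, ha.symm⟩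
  · show disp σ _ = 1
    rw [map_mul, map_inv, map_mul, map_zpow, map_zpow, P.disp_left_z, P.left_apply, one_zpow,
      one_mul, hb, inv_mul_cancel]
  · show disp τ _ = 1
    rw [map_mul, map_inv, map_mul, map_zpow, map_zpow, P.disp_right_z', P.right_apply, one_zpow,
      mul_one, ha, inv_mul_cancel]

theorem zpow_mul_mem_fix (P : Pair p σ τ z z') {a b : ℤ}
    (h : z ^ a * z' ^ b ∈ fixSub σ ⊓ fixSub τ) : z ^ a * z' ^ b = 1 := by
  have h1 : disp σ (z ^ a * z' ^ b) = 1 := (Subgroup.mem_inf.1 h).1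
  have h2 : disp τ (z ^ a * z' ^ b) = 1 := (Subgroup.mem_inf.1 h).2
  rw [map_mul, map_zpow, map_zpow, P.disp_left_z, P.left_apply, one_zpow, one_mul] at h1
  rw [map_mul, map_zpow, map_zpow, P.disp_right_z', P.right_apply, one_zpow, mul_one] at h2
  have hz : orderOf z = p := orderOf_eq_prime P.z_pow P.z_ne
  have hz' : orderOf z' = p := orderOf_eq_prime P.z'_pow P.z'_ne
  have h3 := orderOf_dvd_iff_zpow_eq_one.2 h2
  have h4 := orderOf_dvd_iff_zpow_eq_one.2 h1
  rw [hz'] at h3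
  rw [hz] at h4
  rw [orderOf_dvd_iff_zpow_eq_one.1 (hz ▸ h3), orderOf_dvd_iff_zpow_eq_one.1 (hz' ▸ h4), one_mul]

/-- The fixed hyperplane of `σ` is `⟨z⟩ (fix σ ⊓ fix τ)`. -/
theorem fix_left (P : Pair p σ τ z z') {y : X} (hy : σ y = y) :
    ∃ (a : ℤ) (c : X), c ∈ fixSub σ ⊓ fixSub τ ∧ y = z ^ a * c := by
  obtain ⟨a, b, c, hc, rfl, h1, -⟩ := P.decomp y
  refine ⟨a, c, hc, ?_⟩
  rw [show disp σ _ = 1 from mem_fixSub.2 hy] at h1
  have hb : ((p : ℤ)) ∣ b := by
    rw [← orderOf_eq_prime P.z_pow P.z_ne]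
    exact orderOf_dvd_iff_zpow_eq_one.2 h1.symm
  obtain ⟨e, rfl⟩ := hb
  rw [zpow_mul, zpow_natCast, P.z'_pow, one_zpow, mul_one]

/-- The element `-1` of `SL₂` on `⟨z, z'⟩`. -/
theorem neg (P : Pair p σ τ z z') : ∃ t ∈ Subgroup.closure ({σ, τ} : Set (MulAut X)),
    t z = z⁻¹ ∧ t z' = z'⁻¹ ∧ (∀ c ∈ fixSub σ ⊓ fixSub τ, t c = c) ∧ t * σ = σ * t := by
  set w : MulAut X := σ * τ⁻¹ * σ
  have hσz : σ z = z := mem_fixSub.1 P.disp_left_z
  have hσz' : σ z' = z * z' := by rw [apply_eq_disp σ z', P.left_apply]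
  have hτz' : τ⁻¹ z' = z' := by
    rw [MulAut.inv_apply, MulEquiv.symm_apply_eq]; exact (mem_fixSub.1 P.disp_right_z').symm
  have hτz : τ⁻¹ z = z * z'⁻¹ := by
    rw [MulAut.inv_apply, MulEquiv.symm_apply_eq, map_mul, map_inv,
      mem_fixSub.1 P.disp_right_z', apply_eq_disp τ z, P.right_apply, mul_comm z' z,
      mul_inv_cancel_right]
  have hwz : w z = z'⁻¹ := by
    show σ (τ⁻¹ (σ z)) = _
    rw [hσz, hτz, map_mul, map_inv, hσz, hσz', mul_inv, ← mul_assoc, mul_inv_cancel, one_mul]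
  have hwz' : w z' = z := by
    show σ (τ⁻¹ (σ z')) = _
    rw [hσz', map_mul, hτz, hτz', inv_mul_cancel_right, hσz]
  have hwc : ∀ c ∈ fixSub σ ⊓ fixSub τ, w c = c := by
    intro c hc
    have h1 := mem_fixSub.1 (Subgroup.mem_inf.1 hc).1
    have h2 : τ⁻¹ c = c := by
      rw [MulAut.inv_apply, MulEquiv.symm_apply_eq]
      exact (mem_fixSub.1 (Subgroup.mem_inf.1 hc).2).symm
    show σ (τ⁻¹ (σ c)) = c
    rw [h1, h2, h1]
  have htz : (w * w) z = z⁻¹ := by rw [MulAut.mul_apply, hwz, map_inv, hwz']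
  have htz' : (w * w) z' = z'⁻¹ := by rw [MulAut.mul_apply, hwz', hwz]
  have htc : ∀ c ∈ fixSub σ ⊓ fixSub τ, (w * w) c = c := fun c hc => by
    rw [MulAut.mul_apply, hwc c hc, hwc c hc]
  refine ⟨w * w, ?_, htz, htz', htc, MulEquiv.ext fun y => ?_⟩
  · have hs : σ ∈ Subgroup.closure ({σ, τ} : Set (MulAut X)) := Subgroup.subset_closure (Or.inl rfl)
    have ht : τ ∈ Subgroup.closure ({σ, τ} : Set (MulAut X)) := Subgroup.subset_closure (Or.inr rfl)
    exact mul_mem (mul_mem (mul_mem hs (inv_mem ht)) hs) (mul_mem (mul_mem hs (inv_mem ht)) hs)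
  · obtain ⟨a, b, c, hc, rfl, -, -⟩ := P.decomp y
    show (w * w) (σ (z ^ a * z' ^ b * c)) = σ ((w * w) (z ^ a * z' ^ b * c))
    simp only [map_mul, map_zpow, hσz, hσz', mem_fixSub.1 (Subgroup.mem_inf.1 hc).1, htz, htz',
      htc c hc, map_inv, mul_inv]

end Pair

/-- For `p = 2` there is only one further transvection. -/
theorem Pair.third [Finite X] {σ τ : MulAut X} {z z' : X} (P : Pair 2 σ τ z z')
    (hX : IsPGroup 2 X) {A : Subgroup (MulAut X)} (hA : ∀ M ≤ A, IsPGroup 2 M → Nat.card M ≤ 2)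
    (hσA : σ ∈ A) (hτA : τ ∈ A) {ρ : MulAut X} (hρA : ρ ∈ A) (hρ : IsTransvection 2 ρ)
    (hρσ : ρ ≠ σ) (hρτ : ρ ≠ τ) : ρ = σ * τ * σ := by
  have hinv : ∀ {α : MulAut X}, IsTransvection 2 α → ∀ β, β ≠ α → orderOf β = 2 →
      β ∉ Subgroup.zpowers α := by
    intro α hα β hne hβ hmem
    have : Finite (MulAut X) := Finite.of_injective (fun α => (α : X → X)) DFunLike.coe_injective
    obtain ⟨e, he⟩ := mem_powers_iff_mem_zpowers.2 hmem
    simp only at he
    rw [← pow_mod_orderOf, hα.order] at he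
    rcases Nat.mod_two_eq_zero_or_one e with h | h
    · rw [h, pow_zero] at he
      rw [← he, orderOf_one] at hβ
      omega
    · rw [h, pow_one] at he
      exact hne he.symm
  obtain ⟨w, hw⟩ : ∃ w, w ∈ (disp ρ).range ∧ w ≠ 1 := by
    by_contra h
    push Not at h
    have h1 : (disp ρ).range = ⊥ := eq_bot_iff.2 fun x hx => h x hx
    have h2 := hρ.card_range
    rw [h1, Subgroup.card_bot] at h2
    omega
  have hwr := hρ.range_eq hw.1 hw.2
  have h2 : ∀ {y u : X}, u ^ 2 = 1 → y ∈ Subgroup.zpowers u → y ≠ 1 → y = u := by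
    intro y u hu hy hy1
    obtain ⟨e, rfl⟩ := hy
    rcases Int.even_or_odd e with ⟨f, rfl⟩ | ⟨f, rfl⟩
    · exact absurd (show u ^ (f + f) = 1 by
        rw [← two_mul, zpow_mul, show u ^ (2 : ℤ) = 1 from mod_cast hu, one_zpow]) hy1
    · show u ^ (2 * f + 1) = u
      rw [zpow_add, zpow_mul, show u ^ (2 : ℤ) = 1 from mod_cast hu, one_zpow, one_mul, zpow_one]
  have hρσ' := hinv P.left ρ hρσ hρ.order
  have hρτ' := hinv P.right ρ hρτ hρ.order
  have hσρ := hinv hρ σ (Ne.symm hρσ) P.left.order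
  have hτρ := hinv hρ τ (Ne.symm hρτ) P.right.order
  have hρz : disp ρ z = w := h2 (hρ.range_pow hw.1) (hwr ▸ ⟨z, rfl⟩) fun h =>
    not_range_le_fix hX hA hσA hρA P.left hρ hρσ' (P.z_range ▸ Subgroup.zpowers_le.2 h)
  have hρz' : disp ρ z' = w := h2 (hρ.range_pow hw.1) (hwr ▸ ⟨z', rfl⟩) fun h =>
    not_range_le_fix hX hA hτA hρA P.right hρ hρτ' (P.z'_range ▸ Subgroup.zpowers_le.2 h)
  have hσw : disp σ w = z := h2 P.z_pow (P.z_range ▸ ⟨w, rfl⟩) fun h =>
    not_range_le_fix hX hA hρA hσA hρ P.left hσρ (hwr ▸ Subgroup.zpowers_le.2 h)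
  have hτw : disp τ w = z' := h2 P.z'_pow (P.z'_range ▸ ⟨w, rfl⟩) fun h =>
    not_range_le_fix hX hA hρA hτA hρ P.right hτρ (hwr ▸ Subgroup.zpowers_le.2 h)
  set μ := σ * τ * σ with hμ
  have hσσ : σ * σ = 1 := by
    have := pow_orderOf_eq_one σ
    rwa [P.left.order, pow_two] at this
  have hμt : IsTransvection 2 μ := by
    have h3 := P.right.conj σ
    rwa [inv_eq_of_mul_eq_one_right hσσ, ← hμ] at h3
  have hz2 : z * z = 1 := by rw [← pow_two]; exact P.z_pow
  have hz'2 : z' * z' = 1 := by rw [← pow_two]; exact P.z'_pow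
  have hw2 : w * w = 1 := by rw [← pow_two]; exact hρ.range_pow hw.1
  have hσz : σ z = z := mem_fixSub.1 P.disp_left_z
  have hσz' : σ z' = z * z' := by rw [apply_eq_disp σ z', P.left_apply]
  have hσw' : σ w = z * w := by rw [apply_eq_disp σ w, hσw]
  have hμv : ∀ y, disp μ (σ y) = σ (disp τ y) := fun y => by
    have := disp_conj σ τ y
    rwa [inv_eq_of_mul_eq_one_right hσσ] at this
  set n := z * z' * w with hn
  have hμz : disp μ z = z * z' := by
    have := hμv z
    rwa [hσz, P.right_apply, hσz'] at this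
  have hμz' : disp μ z' = z * z' := by
    have := hμv (z * z')
    rwa [map_mul σ, hσz, hσz', ← mul_assoc, hz2, one_mul, map_mul (disp τ), P.right_apply,
      P.disp_right_z', mul_one, hσz'] at this
  have hμw : disp μ w = 1 := by
    have := hμv (z * w)
    rwa [map_mul σ, hσz, hσw', ← mul_assoc, hz2, one_mul, map_mul (disp τ), P.right_apply, hτw,
      hz'2, map_one] at this
  have hρw : disp ρ w = 1 := by
    obtain ⟨y, hy⟩ := hw.1
    exact mem_fixSub.2 (hy ▸ hρ.sq y)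
  set W := Subgroup.closure ({z, z', w} : Set X)
  let c : ℕ → Subgroup X := fun i =>
    if i = 0 then ⊥ else if i = 1 then Subgroup.zpowers n else if i = 2 then W else ⊤
  have hmem : z ∈ W ∧ z' ∈ W ∧ w ∈ W :=
    ⟨Subgroup.subset_closure (by simp), Subgroup.subset_closure (by simp),
      Subgroup.subset_closure (by simp)⟩
  have hnW : n ∈ W := mul_mem (mul_mem hmem.1 hmem.2.1) hmem.2.2
  have hmono : Monotone c := monotone_nat_of_le_succ fun i => by
    rcases i with _ | _ | _ | i <;> simp [c, hnW]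
  have hμμ : μ * μ = 1 := by
    have h4 := pow_orderOf_eq_one μ
    rwa [hμt.order, pow_two] at h4
  have hρρ : ρ * ρ = 1 := by
    have h4 := pow_orderOf_eq_one ρ
    rwa [hρ.order, pow_two] at h4
  have hμi : μ⁻¹ = μ := inv_eq_of_mul_eq_one_right hμμ
  have key : ∀ y ∈ W, (μ⁻¹ * ρ) y * y⁻¹ ∈ Subgroup.zpowers n := by
    have hd : ∀ y, (μ⁻¹ * ρ) y * y⁻¹ = disp μ (disp ρ y) * disp ρ y * disp μ y := fun y => by
      rw [hμi, MulAut.mul_apply, apply_eq_disp ρ y, map_mul μ, apply_eq_disp μ y,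
        apply_eq_disp μ (disp ρ y)]
      simp [mul_assoc]
    intro y hy
    induction hy using Subgroup.closure_induction with
    | mem y hy =>
      rcases hy with rfl | rfl | rfl
      · rw [hd, hρz, hμw, one_mul, hμz, mul_comm w, ← hn]
        exact Subgroup.mem_zpowers n
      · rw [hd, hρz', hμw, one_mul, hμz', mul_comm w, ← hn]
        exact Subgroup.mem_zpowers n
      · rw [hd, hρw, map_one, one_mul, one_mul, hμw]
        exact one_mem _
    | one => simp
    | mul a b _ _ ha hb =>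
      rw [map_mul, mul_inv, mul_mul_mul_comm]
      exact mul_mem ha hb
    | inv a _ ha =>
      rw [map_inv, ← mul_inv]
      exact inv_mem ha
  have hstab : ∀ α ∈ ({μ, ρ} : Set (MulAut X)), ∀ y ∈ Subgroup.zpowers n, α y = y := by
    rintro α hα _ ⟨e, rfl⟩
    have h1 : α n = n := by
      rcases hα with rfl | rfl
      · apply mem_fixSub.1
        show disp μ n = 1
        rw [hn, map_mul, map_mul, hμz, hμz', hμw, mul_one, mul_mul_mul_comm, hz2, hz'2, one_mul]
      · apply mem_fixSub.1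
        show disp α n = 1
        rw [hn, map_mul, map_mul, hρz, hρz', hρw, mul_one, hw2]
    show α (n ^ e) = n ^ e
    rw [map_zpow, h1]
  have : Finite (MulAut X) := Finite.of_injective (fun α => (α : X → X)) DFunLike.coe_injective
  have hst : StabSeries c 3 (μ⁻¹ * ρ) := by
    intro i hi y hy
    interval_cases i
    · show (μ⁻¹ * ρ) y * y⁻¹ ∈ (⊥ : Subgroup X)
      have h1 := hstab μ (Or.inl rfl) y hy
      have h2 := hstab ρ (Or.inr rfl) y hy
      rw [MulAut.mul_apply, h2, MulAut.inv_apply, (MulEquiv.symm_apply_eq μ).2 h1.symm, mul_inv_cancel]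
      exact one_mem _
    · exact key y hy
    · show (μ⁻¹ * ρ) y * y⁻¹ ∈ W
      obtain ⟨a, b, e, he, rfl, h5, h6⟩ := P.decomp y
      have hr : ∀ u : X, disp ρ u ∈ W := fun u => by
        obtain ⟨f, hf⟩ : disp ρ u ∈ Subgroup.zpowers w := hwr ▸ ⟨u, rfl⟩
        exact hf ▸ zpow_mem hmem.2.2 f
      have hm : ∀ u : X, disp μ u ∈ W := fun u => by
        obtain ⟨f, hf⟩ : disp μ u ∈ Subgroup.zpowers (z * z') :=
          hμt.range_eq ⟨z, hμz⟩ (fun h => P.z_ne (by
            have h7 : z = z' := by rw [← mul_one z, ← hz'2, ← mul_assoc, h, one_mul]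
            rw [← P.left_apply, ← h7, P.disp_left_z])) ▸ ⟨u, rfl⟩
        exact hf ▸ zpow_mem (mul_mem hmem.1 hmem.2.1) f
      set u := z ^ a * z' ^ b * e
      have h1 : (μ⁻¹ * ρ) u * u⁻¹ = disp μ (ρ u) * disp ρ u := by
        show (μ⁻¹ * ρ) u * u⁻¹ = μ (ρ u) * (ρ u)⁻¹ * (ρ u * u⁻¹)
        rw [hμi, MulAut.mul_apply, mul_assoc, inv_mul_cancel_left]
      rw [h1]
      exact mul_mem (hm _) (hr _)
  -- `μ` and `ρ` generate a `2`-group
  set M := Subgroup.closure ({μ, ρ} : Set (MulAut X))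
  have hμA : μ ∈ A := mul_mem (mul_mem hσA hτA) hσA
  have hM : M ≤ A := (Subgroup.closure_le _).2 (by rintro x (rfl | rfl) <;> assumption)
  have hq : IsPGroup 2 (Subgroup.zpowers (μ⁻¹ * ρ)) := isPGroup_of_coprime_trivial fun g hg hco => by
    refine MulEquiv.ext fun x => fix_of_stab (c := c) hX rfl ?_ hco 3 le_rfl x (Subgroup.mem_top x)
    exact (mem_stab hmono rfl).1 ((Subgroup.zpowers_le.2 (Subgroup.subset_closure hst)) hg)
  have hnorm : Subgroup.zpowers μ ≤
      Subgroup.normalizer (Subgroup.zpowers (μ⁻¹ * ρ) : Set (MulAut X)) := by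
    rw [Subgroup.zpowers_le, Subgroup.mem_normalizer_iff_map_conj_eq, MonoidHom.map_zpowers,
      ← Subgroup.zpowers_inv (g := μ⁻¹ * ρ)]
    congr 1
    show μ * (μ⁻¹ * ρ) * μ⁻¹ = (μ⁻¹ * ρ)⁻¹
    rw [mul_inv_cancel_left, eq_inv_iff_mul_eq_one, hμi, mul_assoc, ← mul_assoc μ, hμμ,
      one_mul, hρρ]
  have hM2 : IsPGroup 2 (Subgroup.zpowers μ ⊔ Subgroup.zpowers (μ⁻¹ * ρ) : Subgroup (MulAut X)) :=
    IsPGroup.to_sup_of_normal_right' (IsPGroup.of_card (n := 1) (by
      rw [Nat.card_zpowers, hμt.order, pow_one])) hq hnorm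
  have hcard := hA _ (sup_le (Subgroup.zpowers_le.2 hμA)
    (Subgroup.zpowers_le.2 (mul_mem (inv_mem hμA) hρA))) hM2
  have heq := Subgroup.eq_of_le_of_card_ge
    (le_sup_left (a := Subgroup.zpowers μ) (b := Subgroup.zpowers (μ⁻¹ * ρ)))
    (by rw [Nat.card_zpowers, hμt.order]; exact hcard)
  have hρμ : ρ ∈ Subgroup.zpowers μ := by
    have h7 : μ⁻¹ * ρ ∈ Subgroup.zpowers μ :=
      heq ▸ Subgroup.mem_sup_right (Subgroup.mem_zpowers _)
    simpa using mul_mem (Subgroup.mem_zpowers μ) h7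
  by_contra hne
  exact hinv hμt ρ hne hρ.order hρμ

end CfsgLib.FusionClosed
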