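import Cfsg.Agent.Fusion.Alperin
import Cfsg.Agent.FusionClosed.Transvection
import Cfsg.Agent.FusionPStable.Basic

/-!
# Abelian subgroups of index `p` in their normaliser

For `P ≤ S` abelian, self-centralising, fully normalised, with `y ∈ N_S(P) \ P` centralising a
subgroup of index `p` and `|N_S(P) : P| = p`:
* `exists_transvection`: conjugation by `y` is a transvection generating `Aut_S(P)`, and
  `p`-subgroups of `Aut_F(P)` have order at most `p`;
* `exists_map_of_commute`: automorphisms commuting with it extend to `N_S(P)`;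
* `exists_conj_not_mem`: for essential `P` some conjugate of it generates another subgroup.
-/

set_option autoImplicit false

namespace CfsgLib.FusionClosed

open Cfsg Cfsg.FusionSystem CfsgLib.Fusion

/-- The commutative group structure of an abelian subgroup. -/
abbrev commGroupOf {Ω : Type*} [Group Ω] (P : Subgroup Ω) [IsMulCommutative P] : CommGroup P :=
  { (inferInstance : Group P) with mul_comm := fun a b => mul_comm' a b }

attribute [local instance] commGroupOf

variable {Ω : Type*} [Group Ω] {S : Subgroup Ω} {F : FusionSystem S} {p : ℕ} [Fact p.Prime]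

theorem IsTransvection.of_order {X : Type*} [CommGroup X] {σ : MulAut X} (ho : orderOf σ = p)
    (hi : (fixSub σ).index = p) : IsTransvection p σ := by
  refine ⟨ho, hi, fun y => ?_⟩
  have hcard : Nat.card (disp σ).range = p := by rw [← Subgroup.index_ker]; exact hi
  obtain ⟨w, hw⟩ : ∃ w, w = disp σ y := ⟨_, rfl⟩
  have hwr : w ∈ (disp σ).range := hw ▸ ⟨y, rfl⟩
  rw [← hw]
  by_cases hw1 : w = 1
  · rw [hw1, map_one]
  have hwp : w ^ p = 1 := by
    have := pow_card_eq_one' (x := (⟨w, hwr⟩ : (disp σ).range))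
    rw [hcard] at this
    exact congrArg Subtype.val this
  have hσw : σ w ∈ (disp σ).range := ⟨σ y, by
    show σ (σ y) * (σ y)⁻¹ = σ w
    rw [hw]
    show σ (σ y) * (σ y)⁻¹ = σ (σ y * y⁻¹)
    rw [map_mul, map_inv]⟩
  obtain ⟨a, ha⟩ := mem_powers_of_prime_card (g := (⟨w, hwr⟩ : (disp σ).range))
    (g' := ⟨σ w, hσw⟩) hcard (fun h => hw1 (congrArg Subtype.val h))
  have ha' : σ w = w ^ a := (congrArg Subtype.val ha).symm
  have hpow : ∀ k : ℕ, (σ ^ k) w = w ^ (a ^ k) := by
    intro k
    induction k with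
    | zero => simp
    | succ k ih => rw [pow_succ', MulAut.mul_apply, ih, map_pow, ha', ← pow_mul, pow_succ']
  have h1 := hpow p
  rw [← ho, pow_orderOf_eq_one, MulAut.one_apply, ho] at h1
  have h2 : ((a : ℕ) : ZMod p) = 1 := by
    have h3 : w ^ (a ^ p) = w ^ 1 := by rw [pow_one]; exact h1.symm
    have h4 := (ZMod.natCast_eq_natCast_iff _ _ _).2
      ((pow_eq_pow_iff_modEq.1 h3).of_dvd (orderOf_eq_prime hwp hw1).symm.dvd)
    rwa [Nat.cast_pow, ZMod.pow_card, Nat.cast_one] at h4
  rw [ha', ← pow_one w, ← pow_mul, one_mul, pow_eq_pow_iff_modEq, orderOf_eq_prime hwp hw1,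
    ← ZMod.natCast_eq_natCast_iff, h2, Nat.cast_one]

theorem exists_transvection [Finite S] (hS : IsPGroup p S) (hF : F.IsSaturated p) {P : Subgroup Ω}
    [IsMulCommutative P] (hn : F.IsFullyNormalized P) (hC : centralizerIn S P ≤ P)
    (hidx : P.relIndex (normalizerIn S P) = p) {y : Ω} (hy : y ∈ normalizerIn S P) (hyP : y ∉ P)
    (hfix : (P ⊓ Subgroup.centralizer {y}).relIndex P = p) :
    ∃ σ : MulAut P, σ ∈ autInducedBy S P ∧ (∀ x : P, (σ x : Ω) = y * x * y⁻¹) ∧
      IsTransvection p σ ∧ autInducedBy S P = Subgroup.zpowers σ ∧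
      ∀ M : Subgroup (MulAut P), M ≤ F.autGroup P → IsPGroup p M → Nat.card M ≤ p := by
  have hp : p.Prime := Fact.out
  have := finite_of_le hn.1
  have := finite_of_le (normalizerIn_le S P)
  have : Finite (MulAut P) := Finite.of_injective (fun α => (α : P → P)) DFunLike.coe_injective
  have hN : normalizerIn S P ≤ Subgroup.normalizer (P : Set Ω) := inf_le_right
  let f : normalizerIn S P →* MulAut P :=
    P.normalizerMonoidHom.comp (Subgroup.inclusion hN)
  have hrange : f.range = autInducedBy S P := by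
    ext a
    rw [mem_autInducedBy_iff]
    constructor
    · rintro ⟨g, rfl⟩
      exact ⟨g, g.2.1, hN g.2, fun _ => rfl⟩
    · rintro ⟨g, hg, hgn, hv⟩
      exact ⟨⟨g, hg, hgn⟩, MulEquiv.ext fun x => Subtype.ext (hv x).symm⟩
  have hker : P.subgroupOf (normalizerIn S P) ≤ f.ker := fun g hg =>
    MulEquiv.ext fun x => Subtype.ext (by
      show (g : Ω) * x * (g : Ω)⁻¹ = x
      rw [show (g : Ω) * x = x * g from congrArg Subtype.val (mul_comm' (⟨g, hg⟩ : P) x),
        mul_inv_cancel_right])
  have hcard : Nat.card (autInducedBy S P) ∣ p := by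
    rw [← hrange, ← Subgroup.index_ker, ← hidx]
    exact Subgroup.index_dvd_of_le hker
  refine ⟨f ⟨y, hy⟩, hrange ▸ ⟨_, rfl⟩, fun x => rfl, ?_⟩
  set σ := f ⟨y, hy⟩ with hσ
  have hne : σ ≠ 1 := fun h => hyP (hC (mem_centralizerIn'.2 ⟨hy.1, fun x hx => by
    have h1 : y * x * y⁻¹ = x := congrArg Subtype.val (MulEquiv.congr_fun h ⟨x, hx⟩)
    exact h1⟩))
  have hσm : σ ∈ autInducedBy S P := hrange ▸ ⟨_, rfl⟩
  have hord : orderOf σ = p := by
    have h1 := (Subgroup.orderOf_dvd_natCard _ hσm).trans hcard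
    rcases (Nat.dvd_prime hp).1 h1 with h2 | h2
    · exact absurd (orderOf_eq_one_iff.1 h2) hne
    · exact h2
  have hfixeq : fixSub σ = (P ⊓ Subgroup.centralizer {y}).subgroupOf P := by
    ext x
    rw [mem_fixSub, Subgroup.mem_subgroupOf, Subgroup.mem_inf, Subgroup.mem_centralizer_iff]
    constructor
    · intro h
      refine ⟨x.2, fun h' hh' => ?_⟩
      rw [Set.mem_singleton_iff.1 hh']
      exact mul_inv_eq_iff_eq_mul.1 (congrArg Subtype.val h)
    · rintro ⟨-, h⟩
      exact Subtype.ext (mul_inv_eq_iff_eq_mul.2 (h y rfl))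
  refine ⟨IsTransvection.of_order hord (by rw [hfixeq]; exact hfix), ?_, fun M hM hMp => ?_⟩
  · refine (Subgroup.eq_of_le_of_card_ge (Subgroup.zpowers_le.2 hσm) ?_).symm
    rw [Nat.card_zpowers, hord]
    exact Nat.le_of_dvd hp.pos hcard
  · obtain ⟨T, hT⟩ := (automized_receptive hS hF hn).1.2
    obtain ⟨R, hR⟩ := (hMp.comap_of_injective _ (F.autGroup P).subtype_injective :
      IsPGroup p (M.comap (F.autGroup P).subtype)).exists_le_sylow
    have h1 : Nat.card (M.comap (F.autGroup P).subtype) ≤ Nat.card (T : Subgroup (F.autGroup P)) :=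
      (Subgroup.card_le_of_le hR).trans (R.card_eq_multiplicity.trans T.card_eq_multiplicity.symm).le
    rw [hT] at h1
    rw [← Subgroup.map_subgroupOf_eq_of_le hM,
      Subgroup.card_map_of_injective (F.autGroup P).subtype_injective]
    refine h1.trans (le_trans ?_ (Nat.le_of_dvd hp.pos hcard))
    rw [← Subgroup.card_map_of_injective (F.autGroup P).subtype_injective]
    exact Subgroup.card_le_of_le (Subgroup.map_le_iff_le_comap.2 le_rfl)

/-- Automorphisms commuting with the generator of `Aut_S(P)` extend to `N_S(P)`. -/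
theorem exists_map_of_commute [Finite S] (hS : IsPGroup p S) (hF : F.IsSaturated p)
    {P : Subgroup Ω} (hn : F.IsFullyNormalized P) {σ α : MulAut P}
    (hσ : autInducedBy S P = Subgroup.zpowers σ) (hα : α ∈ F.autGroup P)
    (hcomm : α * σ = σ * α) :
    ∃ ψ ∈ F.Hom (normalizerIn S P), ∀ (x : P) (hx : (x : Ω) ∈ normalizerIn S P),
      ψ ⟨x, hx⟩ = α x := by
  have hPr := (automized_receptive hS hF hn).2
  have hI : IsIso F α := (mem_autGroup_iff hn.1).1 hα
  have hle : normalizerIn S P ≤ extender S P (P.subtype.comp α.toMonoidHom) := by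
    intro g hg
    have hgN : g ∈ Subgroup.normalizer (P : Set Ω) := hg.2
    set β : MulAut P := P.normalizerMonoidHom ⟨g, hgN⟩
    have hβ : β ∈ autInducedBy S P := mem_autInducedBy_iff.2 ⟨g, hg.1, hgN, fun _ => rfl⟩
    refine mem_extender_of_congr hg (α := β) (fun x => rfl) ?_
    rw [congr_self_eq]
    rw [hσ] at hβ ⊢
    obtain ⟨e, he⟩ := hβ
    rw [← he, show α * σ ^ e = σ ^ e * α from (Commute.zpow_right hcomm e), mul_inv_cancel_right]
    exact zpow_mem (Subgroup.mem_zpowers σ) e
  obtain ⟨ψ, hψ, hψx⟩ := exists_extension hPr hI le_rfl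
  exact ⟨_, restrict_mem hψ hle, fun x hx => hψx x (hle hx)⟩

/-- For an essential subgroup some conjugate of `σ` generates another subgroup. -/
theorem exists_conj_not_mem [Finite S] (hS : IsPGroup p S)
    {P : Subgroup Ω} [IsMulCommutative P] (hP : F.IsEssential p P) {σ : MulAut P}
    (hσ : autInducedBy S P = Subgroup.zpowers σ) (hne : σ ≠ 1) :
    ∃ g ∈ F.autGroup P, g * σ * g⁻¹ ∉ Subgroup.zpowers σ := by
  have hPS := hP.1.1
  have := finite_of_le hPS
  have : Finite (MulAut P) := Finite.of_injective (fun α => (α : P → P)) DFunLike.coe_injective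
  by_contra hc
  push Not at hc
  have hσA : σ ∈ F.autGroup P :=
    autInducedBy_le_autGroup hPS (hσ ▸ Subgroup.mem_zpowers σ)
  have hn : ((Subgroup.zpowers σ).subgroupOf (F.autGroup P)).Normal := ⟨fun n hn g => by
    obtain ⟨e, he⟩ := Subgroup.mem_subgroupOf.1 hn
    rw [Subgroup.mem_subgroupOf, Subgroup.coe_mul, Subgroup.coe_mul, Subgroup.coe_inv, ← he,
      ← conj_zpow]
    exact zpow_mem (hc g g.2) e⟩
  have hp : IsPGroup p ((Subgroup.zpowers σ).subgroupOf (F.autGroup P)) :=
    (hσ ▸ isPGroup_autInducedBy hS P : IsPGroup p (Subgroup.zpowers σ)).comap_of_injective _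
      (F.autGroup P).subtype_injective
  have h1 : σ ∈ (pCore p (F.autGroup P)).map (F.autGroup P).subtype :=
    ⟨⟨σ, hσA⟩, CfsgLib.FusionPStable.le_pCore hn hp (Subgroup.mem_subgroupOf.2 (Subgroup.mem_zpowers σ)),
      rfl⟩
  rw [(isRadical_of_essential hS hP).2] at h1
  obtain ⟨x, rfl⟩ := h1
  exact hne (MulEquiv.ext fun z => by
    show x * z * x⁻¹ = z
    rw [mul_comm' x z, mul_inv_cancel_right])

end CfsgLib.FusionClosed
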