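import Cfsg.Agent.FusionClosed.CentreIndexBasic
import Mathlib.GroupTheory.Nilpotent

/-!
# A nonabelian `p`-group with a unique abelian subgroup of index `p`

`AIdx S A p`; for `x ∈ S \ A` the hom `h.dA x : A →* A`, `a ↦ ⁅x, a⁆`, with kernel `Z(S)` and
image `[S, S]`; the subgroups `h.kD x j` of elements killed by its `j`-th power; `card_kD_le`.
-/

set_option autoImplicit false

namespace CfsgLib.FusionClosed

open Cfsg Cfsg.FusionSystem CfsgLib.Fusion
open scoped commutatorElement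

attribute [local instance] commGroupOf

variable {Ω : Type*} [Group Ω] {S A : Subgroup Ω} {p : ℕ}

/-- The second centre of `S`. -/
def z2S (S : Subgroup Ω) : Subgroup Ω := (Subgroup.upperCentralSeries S 2).map S.subtype

theorem mem_z2S {s : Ω} : s ∈ z2S S ↔ s ∈ S ∧ ∀ t ∈ S, ⁅s, t⁆ ∈ zS S := by
  constructor
  · rintro ⟨⟨s, hs⟩, h, rfl⟩
    refine ⟨hs, fun t ht => ?_⟩
    have h1 := Subgroup.mem_upperCentralSeries_succ_iff.1 h ⟨t, ht⟩
    rw [Subgroup.upperCentralSeries_one] at h1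
    exact Subgroup.mem_map_of_mem S.subtype h1
  · rintro ⟨hs, h⟩
    refine ⟨⟨s, hs⟩, Subgroup.mem_upperCentralSeries_succ_iff.2 fun t => ?_, rfl⟩
    rw [Subgroup.upperCentralSeries_one]
    obtain ⟨w, hw, hwe⟩ := h t t.2
    obtain rfl : w = ⁅(⟨s, hs⟩ : S), t⁆ := Subtype.ext hwe
    exact hw

/-- An order count for preimages. -/
theorem card_comap_eq {G G' : Type*} [Group G] [Group G'] [Finite G] (f : G →* G')
    (K : Subgroup G') :
    Nat.card (K.comap f) = Nat.card f.ker * Nat.card (K ⊓ f.range : Subgroup G') := by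
  have hle : f.ker ≤ K.comap f := fun x hx => by
    rw [Subgroup.mem_comap, hx]
    exact one_mem K
  have h1 := Subgroup.card_mul_index (f.ker.subgroupOf (K.comap f))
  rw [← Nat.card_congr (Subgroup.subgroupOfEquivOfLe hle).toEquiv, ← h1]
  congr 1
  have hk : (f.comp (K.comap f).subtype).ker = f.ker.subgroupOf (K.comap f) := rfl
  rw [← hk, Subgroup.index_ker, MonoidHom.range_comp, Subgroup.range_subtype,
    Subgroup.map_comap_eq, inf_comm]

/-- `A` is the unique abelian subgroup of index `p` of the nonabelian `S`. -/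
structure AIdx (S A : Subgroup Ω) (p : ℕ) : Prop where
  le : A ≤ S
  comm : IsMulCommutative A
  index : A.relIndex S = p
  uniq : ∀ B : Subgroup Ω, B ≤ S → IsMulCommutative B → B.relIndex S = p → B = A
  ncomm : ¬ IsMulCommutative S
  isP : IsPGroup p S

variable [Finite S] [Fact p.Prime]

namespace AIdx

theorem conj_mem (h : AIdx S A p) {s a : Ω} (hs : s ∈ S) (ha : a ∈ A) : s * a * s⁻¹ ∈ A := by
  have h1 : s ∈ normalizerIn S A :=
    (normalizerIn_eq_of_relIndex h.isP h.le h.index).symm ▸ hs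
  exact (Subgroup.mem_normalizer_iff.1 h1.2 a).1 ha

theorem commute (h : AIdx S A p) {a b : Ω} (ha : a ∈ A) (hb : b ∈ A) : a * b = b * a := by
  have := h.comm
  exact congrArg Subtype.val (mul_comm' (⟨a, ha⟩ : A) ⟨b, hb⟩)

theorem pow_prime_mem (h : AIdx S A p) {s : Ω} (hs : s ∈ S) : s ^ p ∈ A := by
  have hn : (A.subgroupOf S).Normal := ⟨fun n hn g => h.conj_mem g.2 hn⟩
  have h1 := Subgroup.pow_index_mem (A.subgroupOf S) (⟨s, hs⟩ : S)
  rw [← Subgroup.relIndex, h.index] at h1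
  exact h1

theorem zS_le (h : AIdx S A p) : zS S ≤ A := by
  intro z hz
  by_contra hzA
  refine h.ncomm ?_
  have hle : S ≤ Subgroup.centralizer (A : Set Ω) := by
    refine (sup_zpowers_eq h.le h.index (CfsgLib.FusionClosed.zS_le hz) hzA).ge.trans
      (sup_le (fun a ha => ?_) (Subgroup.zpowers_le.2 ?_)) <;> rw [Subgroup.mem_centralizer_iff]
    · exact fun b hb => h.commute hb ha
    · exact fun b hb => (mem_zS.1 hz).2 b (h.le hb)
  refine ⟨⟨fun a b => Subtype.ext ?_⟩⟩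
  have hle2 : S ≤ Subgroup.centralizer ({(a : Ω)} : Set Ω) := by
    refine (sup_zpowers_eq h.le h.index (CfsgLib.FusionClosed.zS_le hz) hzA).ge.trans
      (sup_le (fun c hc => ?_) (Subgroup.zpowers_le.2 ?_)) <;>
      rw [Subgroup.mem_centralizer_iff] <;> (intro h' hh'; rw [Set.mem_singleton_iff.1 hh'])
    · exact (Subgroup.mem_centralizer_iff.1 (hle a.2) c hc).symm
    · exact (mem_zS.1 hz).2 a a.2
  exact Subgroup.mem_centralizer_iff.1 (hle2 b.2) a rfl

theorem exists_not_mem (h : AIdx S A p) : ∃ x ∈ S, x ∉ A := by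
  by_contra hc
  push Not at hc
  have h1 := h.index
  rw [Subgroup.relIndex_eq_one.2 hc] at h1
  exact (Fact.out : p.Prime).one_lt.ne h1

variable {x : Ω}

/-- Elements of `A` commuting with `x ∉ A` are central. -/
theorem fix (h : AIdx S A p) (hx : x ∈ S) (hxA : x ∉ A) {a : Ω} (ha : a ∈ A)
    (hax : x * a = a * x) : a ∈ zS S := by
  refine mem_zS.2 ⟨h.le ha, fun s hs => ?_⟩
  have hle : S ≤ Subgroup.centralizer ({a} : Set Ω) := by
    refine (sup_zpowers_eq h.le h.index hx hxA).ge.trans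
      (sup_le (fun c hc => ?_) (Subgroup.zpowers_le.2 ?_)) <;>
      rw [Subgroup.mem_centralizer_iff] <;> (intro h' hh'; rw [Set.mem_singleton_iff.1 hh'])
    · exact h.commute ha hc
    · exact hax.symm
  exact (Subgroup.mem_centralizer_iff.1 (hle hs) a rfl).symm

theorem pow_mem_zS (h : AIdx S A p) (hx : x ∈ S) (hxA : x ∉ A) : x ^ p ∈ zS S :=
  h.fix hx hxA (h.pow_prime_mem hx) ((Commute.refl x).pow_right p)

/-- Elements of `S` are `a x^i`. -/
theorem decomp (h : AIdx S A p) (hx : x ∈ S) (hxA : x ∉ A) {s : Ω} (hs : s ∈ S) :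
    ∃ a ∈ A, ∃ i : ℤ, s = a * x ^ i := by
  have hn : Subgroup.zpowers x ≤ Subgroup.normalizer (A : Set Ω) :=
    Subgroup.zpowers_le.2
      ((normalizerIn_eq_of_relIndex h.isP h.le h.index).symm ▸ hx : x ∈ normalizerIn S A).2
  rw [← sup_zpowers_eq h.le h.index hx hxA, ← SetLike.mem_coe,
    Subgroup.coe_mul_of_right_le_normalizer_left _ _ hn] at hs
  obtain ⟨a, ha, v, ⟨i, rfl⟩, rfl⟩ := hs
  exact ⟨a, ha, i, rfl⟩

theorem commutator_mem (h : AIdx S A p) (hx : x ∈ S) {a : Ω} (ha : a ∈ A) : ⁅x, a⁆ ∈ A := by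
  rw [commutatorElement_def]
  exact mul_mem (h.conj_mem hx ha) (inv_mem ha)

/-- `a ↦ ⁅x, a⁆` on `A`. -/
def dA (h : AIdx S A p) (hx : x ∈ S) : A →* A where
  toFun a := ⟨⁅x, (a : Ω)⁆, h.commutator_mem hx a.2⟩
  map_one' := Subtype.ext (by simp)
  map_mul' a b := Subtype.ext (by
    show ⁅x, (a : Ω) * b⁆ = ⁅x, (a : Ω)⁆ * ⁅x, (b : Ω)⁆
    have h1 : (a : Ω) * ⁅x, (b : Ω)⁆ = ⁅x, (b : Ω)⁆ * a :=
      h.commute a.2 (h.commutator_mem hx b.2)
    rw [show ⁅x, (a : Ω) * b⁆ = ⁅x, (a : Ω)⁆ * ((a : Ω) * ⁅x, (b : Ω)⁆ * (a : Ω)⁻¹) by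
      simp only [commutatorElement_def]; group, h1, mul_inv_cancel_right])

theorem dA_apply (h : AIdx S A p) (hx : x ∈ S) (a : A) :
    ((h.dA hx a : A) : Ω) = ⁅x, (a : Ω)⁆ := rfl

theorem dA_ker (h : AIdx S A p) (hx : x ∈ S) (hxA : x ∉ A) :
    (h.dA hx).ker = (zS S).subgroupOf A := by
  ext a
  rw [MonoidHom.mem_ker, Subgroup.mem_subgroupOf, Subtype.ext_iff, dA_apply, OneMemClass.coe_one,
    commutatorElement_eq_one_iff_mul_comm]
  exact ⟨fun e => h.fix hx hxA a.2 e, fun e => (mem_zS.1 e).2 x hx⟩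

theorem dA_range (h : AIdx S A p) (hx : x ∈ S) (hxA : x ∉ A) :
    ((h.dA hx).range).map A.subtype = ⁅S, S⁆ := by
  set R := ((h.dA hx).range).map A.subtype with hR
  have hRA : R ≤ A := Subgroup.map_subtype_le _
  refine le_antisymm (fun r hr => ?_) ?_
  · obtain ⟨_, ⟨a, rfl⟩, rfl⟩ := hr
    exact Subgroup.commutator_mem_commutator hx (h.le a.2)
  have hRS : R ≤ S := hRA.trans h.le
  have hxR : ∀ r ∈ R, x * r * x⁻¹ ∈ R := by
    rintro _ ⟨_, ⟨a, rfl⟩, rfl⟩
    exact ⟨_, ⟨⟨x * a * x⁻¹, h.conj_mem hx a.2⟩, rfl⟩, by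
      show ⁅x, x * (a : Ω) * x⁻¹⁆ = x * ⁅x, (a : Ω)⁆ * x⁻¹
      simp only [commutatorElement_def]
      group⟩
  have hnorm : S ≤ Subgroup.normalizer (R : Set Ω) := by
    refine (sup_zpowers_eq h.le h.index hx hxA).ge.trans
      (sup_le (fun a ha => ?_) (Subgroup.zpowers_le.2 ?_)) <;>
      rw [Subgroup.mem_normalizer_iff] <;> intro r
    · constructor
      · intro hr
        rwa [h.commute ha (hRA hr), mul_inv_cancel_right]
      · intro hr
        have h1 : a * r * a⁻¹ ∈ A := hRA hr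
        have h2 : r ∈ A := by
          have := mul_mem (mul_mem (inv_mem ha) h1) ha
          simpa [mul_assoc] using this
        rwa [h.commute ha h2, mul_inv_cancel_right] at hr
    · refine ⟨hxR r, fun hr => ?_⟩
      have hfin : Finite R := finite_of_le hRS
      let f : R → R := fun w => ⟨x * w * x⁻¹, hxR w w.2⟩
      have hf : Function.Surjective f := Finite.surjective_of_injective fun a b hab =>
        Subtype.ext (mul_left_cancel (mul_right_cancel (congrArg Subtype.val hab :)))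
      obtain ⟨w, hw⟩ := hf ⟨_, hr⟩
      have hw' : x * (w : Ω) * x⁻¹ = x * r * x⁻¹ := congrArg Subtype.val hw
      rw [← mul_left_cancel (mul_right_cancel hw')]
      exact w.2
  have : (R.subgroupOf S).Normal := ⟨fun n hn s =>
    (Subgroup.mem_normalizer_iff.1 (hnorm s.2) n).1 hn⟩
  let q := QuotientGroup.mk' (R.subgroupOf S)
  have hker : ∀ s : S, q s = 1 ↔ (s : Ω) ∈ R := fun s =>
    QuotientGroup.eq_one_iff (N := R.subgroupOf S) s
  refine Subgroup.commutator_le.2 fun s hs t ht => ?_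
  obtain ⟨a, ha, i, rfl⟩ := h.decomp hx hxA hs
  obtain ⟨b, hb, j, rfl⟩ := h.decomp hx hxA ht
  have hxS : ∀ n : ℤ, x ^ n ∈ S := fun n => zpow_mem hx n
  have hqa : ∀ c (hc : c ∈ A), Commute (q ⟨x, hx⟩) (q ⟨c, h.le hc⟩) := fun c hc => by
    refine commutatorElement_eq_one_iff_mul_comm.1 ?_
    rw [← map_commutatorElement, hker]
    exact ⟨_, ⟨⟨c, hc⟩, rfl⟩, rfl⟩
  have hab : Commute (q ⟨a, h.le ha⟩) (q ⟨b, h.le hb⟩) :=
    (show Commute (⟨a, h.le ha⟩ : S) ⟨b, h.le hb⟩ from Subtype.ext (h.commute ha hb)).map q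
  have h1 : Commute (q ⟨a, h.le ha⟩ * q ⟨x, hx⟩ ^ i) (q ⟨b, h.le hb⟩ * q ⟨x, hx⟩ ^ j) :=
    Commute.mul_left (hab.mul_right ((hqa a ha).symm.zpow_right j))
      (((hqa b hb).zpow_left i).mul_right ((Commute.refl _).zpow_zpow i j))
  have h2 := commutatorElement_eq_one_iff_mul_comm.2 h1
  rw [← map_zpow, ← map_zpow, ← map_mul, ← map_mul, ← map_commutatorElement, hker] at h2
  exact h2

theorem commutator_le_A (h : AIdx S A p) : ⁅S, S⁆ ≤ A := by
  obtain ⟨x, hx, hxA⟩ := h.exists_not_mem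
  rw [← h.dA_range hx hxA]
  exact Subgroup.map_subtype_le _

theorem range_eq (h : AIdx S A p) (hx : x ∈ S) (hxA : x ∉ A) :
    (h.dA hx).range = ⁅S, S⁆.subgroupOf A := by
  rw [← h.dA_range hx hxA, Subgroup.subgroupOf,
    Subgroup.comap_map_eq_self_of_injective A.subtype_injective]

theorem card_ker (h : AIdx S A p) (hx : x ∈ S) (hxA : x ∉ A) :
    Nat.card (h.dA hx).ker = Nat.card (zS S) := by
  rw [h.dA_ker hx hxA]
  exact Nat.card_congr (Subgroup.subgroupOfEquivOfLe h.zS_le).toEquiv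

theorem card_eq (h : AIdx S A p) :
    Nat.card A = Nat.card (zS S) * Nat.card (⁅S, S⁆ : Subgroup Ω) := by
  obtain ⟨x, hx, hxA⟩ := h.exists_not_mem
  rw [← (h.dA hx).ker.card_mul_index, Subgroup.index_ker, h.card_ker hx hxA, ← h.dA_range hx hxA,
    Subgroup.card_map_of_injective A.subtype_injective]

/-- `A ∩ Z₂(S)` is the preimage of the centre under `⁅x, ·⁆`. -/
theorem mem_z2S_iff (h : AIdx S A p) (hx : x ∈ S) (hxA : x ∉ A) {a : Ω} (ha : a ∈ A) :
    a ∈ z2S S ↔ ⁅x, a⁆ ∈ zS S := by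
  constructor
  · intro e
    have h1 := inv_mem ((mem_z2S.1 e).2 x hx)
    rwa [commutatorElement_inv] at h1
  · intro e
    refine mem_z2S.2 ⟨h.le ha, fun t ht => ?_⟩
    let q := QuotientGroup.mk' (Subgroup.center S)
    have hq : ∀ s : S, q s = 1 ↔ (s : Ω) ∈ zS S := fun s =>
      (QuotientGroup.eq_one_iff (N := Subgroup.center S) s).trans
        ⟨fun hs => Subgroup.mem_map_of_mem S.subtype hs, fun ⟨w, hw, hwe⟩ => by
          obtain rfl : w = s := Subtype.ext hwe
          exact hw⟩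
    obtain ⟨b, hb, i, rfl⟩ := h.decomp hx hxA ht
    have h1 : Commute (q ⟨a, h.le ha⟩) (q ⟨b, h.le hb⟩) :=
      (show Commute (⟨a, h.le ha⟩ : S) ⟨b, h.le hb⟩ from Subtype.ext (h.commute ha hb)).map q
    have h2 : Commute (q ⟨a, h.le ha⟩) (q ⟨x, hx⟩) := by
      refine (commutatorElement_eq_one_iff_mul_comm.1 ?_ : Commute _ _).symm
      rw [← map_commutatorElement, hq]
      exact e
    have h3 := commutatorElement_eq_one_iff_mul_comm.2 (h1.mul_right (h2.zpow_right i)).eq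
    rw [← map_zpow, ← map_mul, ← map_commutatorElement, hq] at h3
    exact h3

/-- The elements of `A` killed by the `j`-th power of `⁅x, ·⁆`. -/
def kD (h : AIdx S A p) (hx : x ∈ S) : ℕ → Subgroup A
  | 0 => ⊥
  | j + 1 => (h.kD hx j).comap (h.dA hx)

theorem mem_kD (h : AIdx S A p) (hx : x ∈ S) :
    ∀ (j : ℕ) (a : A), a ∈ h.kD hx j ↔ (h.dA hx)^[j] a = 1
  | 0, a => Iff.rfl
  | j + 1, a => by
    rw [kD, Subgroup.mem_comap, mem_kD h hx j, Function.iterate_succ_apply]

theorem card_kD_le (h : AIdx S A p) (hx : x ∈ S) (hxA : x ∉ A)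
    (hR : Nat.card (zS S ⊓ ⁅S, S⁆ : Subgroup Ω) = p) (j : ℕ) :
    Nat.card (h.kD hx (j + 1)) ≤ Nat.card (zS S) * p ^ j := by
  have := finite_of_le h.le
  have hker : ((h.dA hx).ker ⊓ (h.dA hx).range : Subgroup A) =
      (zS S ⊓ ⁅S, S⁆).subgroupOf A := by
    rw [h.dA_ker hx hxA, h.range_eq hx hxA]
    rfl
  have hcard : ∀ j, Nat.card (h.kD hx j ⊓ (h.dA hx).range : Subgroup A) ≤ p ^ j := by
    intro j
    induction j with
    | zero => simp [kD]
    | succ j ih =>
      rw [kD]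
      set R := (h.dA hx).range with hRdef
      let f := (h.dA hx).comp R.subtype
      have h1 : ((h.kD hx j).comap (h.dA hx) ⊓ R : Subgroup A) =
          (((h.kD hx j).comap f)).map R.subtype := by
        ext a
        constructor
        · rintro ⟨h1, h2⟩
          exact ⟨⟨a, h2⟩, h1, rfl⟩
        · rintro ⟨⟨a, h2⟩, h1, rfl⟩
          exact ⟨h1, h2⟩
      rw [h1, Subgroup.card_map_of_injective R.subtype_injective, card_comap_eq]
      have hk : Nat.card f.ker = p := by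
        rw [← Subgroup.card_map_of_injective (K := f.ker) R.subtype_injective]
        rw [show f.ker.map R.subtype = (h.dA hx).ker ⊓ R from
          Subgroup.subgroupOf_map_subtype (h.dA hx).ker R, hker,
          Nat.card_congr (Subgroup.subgroupOfEquivOfLe
            (inf_le_left.trans h.zS_le : zS S ⊓ ⁅S, S⁆ ≤ A)).toEquiv, hR]
      rw [hk, pow_succ']
      refine Nat.mul_le_mul_left _ (le_trans (Subgroup.card_le_of_le (le_inf inf_le_left ?_)) ih)
      exact inf_le_right.trans (by rintro _ ⟨w, rfl⟩; exact ⟨w, rfl⟩)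
  rw [kD, card_comap_eq, h.card_ker hx hxA]
  exact Nat.mul_le_mul_left _ (hcard j)

theorem iterate_mem_lowerCentralSeries (h : AIdx S A p) (hx : x ∈ S) :
    ∀ (j : ℕ) (a : A), (((h.dA hx)^[j] a : A) : Ω) ∈ Subgroup.lowerCentralSeries S j
  | 0, a => h.le a.2
  | j + 1, a => by
    rw [Function.iterate_succ_apply', dA_apply, Subgroup.lowerCentralSeries_succ,
      Subgroup.commutator_comm]
    exact Subgroup.commutator_mem_commutator hx (iterate_mem_lowerCentralSeries h hx j a)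

end AIdx

end CfsgLib.FusionClosed
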