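import Cfsg.Agent.FusionClosed.AbelianIndexEssential

/-!
# Forms of the centre, the derived subgroup and the second centre used in the statements
-/

set_option autoImplicit false

namespace CfsgLib.FusionClosed

open Cfsg

variable {Ω : Type*} [Group Ω] {S : Subgroup Ω}

theorem inf_centralizer_eq_zS : S ⊓ Subgroup.centralizer (S : Set Ω) = zS S := by
  ext x
  rw [mem_zS, Subgroup.mem_inf, Subgroup.mem_centralizer_iff]
  rfl

theorem map_subtype_commutator_self : (commutator S).map S.subtype = ⁅S, S⁆ := by
  rw [commutator_def, Subgroup.map_commutator, ← MonoidHom.range_eq_map, Subgroup.range_subtype]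

end CfsgLib.FusionClosed
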