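import Mathlib.Algebra.Module.ZMod
import Mathlib.FieldTheory.Finite.Basic
import Mathlib.GroupTheory.PGroup
import Mathlib.Algebra.Group.End

/-!
# Common eigenvectors of commuting automorphisms of exponent dividing `p - 1`

`exists_common_power`: on a nontrivial invariant elementary abelian subgroup, finitely many
commuting automorphisms each fixed by the `(p-1)`-st power act as powers on some `z ≠ 1`.
-/

set_option autoImplicit false

namespace CfsgLib.FusionClosed

theorem exists_eigen_zmod {p : ℕ} [Fact p.Prime] {W : Type*} [AddCommGroup W] [Module (ZMod p) W]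
    (f : W →+ W) (hf : ∀ w, f^[p - 1] w = w) {z : W} (hz : z ≠ 0) :
    ∃ (a : ZMod p) (v : W), v ≠ 0 ∧ f v = a • v := by
  have hp : p.Prime := Fact.out
  let v : (ZMod p)ˣ → W := fun b => ∑ j ∈ Finset.range (p - 1), (b : ZMod p) ^ j • f^[j] z
  have hv : ∀ b, f (v b) = ((b⁻¹ : (ZMod p)ˣ) : ZMod p) • v b := by
    intro b
    let g : ℕ → W := fun j => (b : ZMod p) ^ j • f^[j] z
    have hg : g (p - 1) = g 0 := by
      simp only [g, hf, ← Units.val_pow_eq_pow_val, ZMod.units_pow_card_sub_one_eq_one,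
        Units.val_one, pow_zero, Function.iterate_zero_apply]
    have h2 : ∑ j ∈ Finset.range (p - 1), g (j + 1) = ∑ j ∈ Finset.range (p - 1), g j := by
      have h3 := Finset.sum_range_succ' g (p - 1)
      rw [Finset.sum_range_succ, hg] at h3
      exact (add_right_cancel h3).symm
    show f (∑ j ∈ Finset.range (p - 1), g j) = _
    rw [show v b = ∑ j ∈ Finset.range (p - 1), g j from rfl, map_sum]
    conv_rhs => rw [← h2]
    rw [Finset.smul_sum]
    refine Finset.sum_congr rfl fun j _ => ?_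
    show f ((b : ZMod p) ^ j • f^[j] z) = _ • ((b : ZMod p) ^ (j + 1) • f^[j + 1] z)
    rw [smul_smul, pow_succ', ← mul_assoc, ← Units.val_mul, inv_mul_cancel, Units.val_one, one_mul,
      Function.iterate_succ_apply', ← ZMod.map_smul]
  by_contra hcon
  push Not at hcon
  have hzero : ∀ b, v b = 0 := fun b => by
    by_contra h
    exact hcon _ _ h (hv b)
  have hsum : ∀ j ∈ Finset.range (p - 1),
      (∑ b : (ZMod p)ˣ, (b : ZMod p) ^ j • f^[j] z) = if j = 0 then -z else 0 := by
    intro j hj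
    rw [← Finset.sum_smul]
    have h1 : (∑ b : (ZMod p)ˣ, (b : ZMod p) ^ j) =
        if Fintype.card (ZMod p) - 1 ∣ j then -1 else 0 := FiniteField.sum_pow_units (ZMod p) j
    rw [h1, ZMod.card]
    rcases eq_or_ne j 0 with rfl | h0
    · simp
    · have hnd : ¬ (p - 1 ∣ j) := fun h =>
        absurd (Nat.le_of_dvd (Nat.pos_of_ne_zero h0) h) (not_le.2 (Finset.mem_range.1 hj))
      rw [if_neg hnd, if_neg h0, zero_smul]
  have h4 : (∑ b : (ZMod p)ˣ, v b) = -z := by
    rw [Finset.sum_comm, Finset.sum_congr rfl hsum, Finset.sum_ite_eq']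
    rw [if_pos (Finset.mem_range.2 (by have := hp.one_lt; omega))]
  rw [Finset.sum_eq_zero (fun b _ => hzero b), eq_comm, neg_eq_zero] at h4
  exact hz h4

variable {X : Type*} [Group X] {p : ℕ} [Fact p.Prime]

/-- One automorphism. -/
theorem exists_power (α : MulAut X) (W : Subgroup X) (hW : ∀ a ∈ W, ∀ b ∈ W, a * b = b * a)
    (hexp : ∀ a ∈ W, a ^ p = 1) (hinv : ∀ a ∈ W, α a ∈ W)
    (hpow : ∀ a ∈ W, (α ^ (p - 1)) a = a) (hne : W ≠ ⊥) :
    ∃ (a : ℕ) (z : X), z ∈ W ∧ z ≠ 1 ∧ α z = z ^ a := by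
  let _ : CommGroup W := { (inferInstance : Group W) with
    mul_comm := fun a b => Subtype.ext (hW a a.2 b b.2) }
  let _ : Module (ZMod p) (Additive W) := AddCommGroup.zmodModule (fun w => by
    apply Additive.toMul.injective
    simp only [toMul_nsmul, toMul_zero]
    exact Subtype.ext (by simpa using hexp w.toMul w.toMul.2))
  let f : Additive W →+ Additive W := MonoidHom.toAdditive
    ((α.toMonoidHom.comp W.subtype).codRestrict W (fun a => hinv a a.2))
  have hf : ∀ (k : ℕ) (w : Additive W), ((f^[k] w).toMul : X) = (α ^ k) (w.toMul : X) := by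
    intro k
    induction k with
    | zero => intro w; rfl
    | succ k ih =>
      intro w
      rw [Function.iterate_succ_apply', pow_succ', MulAut.mul_apply, ← ih]
      rfl
  obtain ⟨⟨z, hz⟩, hz1⟩ : ∃ z : W, z ≠ 1 := by
    obtain ⟨z, hz, hz1⟩ := (Subgroup.bot_or_exists_ne_one W).resolve_left hne
    exact ⟨⟨z, hz⟩, fun h => hz1 (congrArg Subtype.val h)⟩
  obtain ⟨a, v, hv, hfv⟩ := exists_eigen_zmod f (fun w => Additive.toMul.injective
      (Subtype.ext ((hf (p - 1) w).trans (hpow _ w.toMul.2))))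
    (z := Additive.ofMul (⟨z, hz⟩ : W)) (fun h => hz1 (congrArg Additive.toMul h))
  refine ⟨a.val, (v.toMul : X), v.toMul.2, fun h => hv (Additive.toMul.injective (Subtype.ext h)), ?_⟩
  have h1 : f v = a.val • v := by rw [hfv, ← Nat.cast_smul_eq_nsmul (ZMod p), ZMod.natCast_zmod_val]
  have h2 := congrArg (fun w : Additive W => ((w.toMul : W) : X)) h1
  simp only [toMul_nsmul, SubgroupClass.coe_pow] at h2
  exact h2

/-- Finitely many commuting automorphisms. -/
theorem exists_common_power (s : Finset (MulAut X)) (hcomm : ∀ a ∈ s, ∀ b ∈ s, a * b = b * a)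
    (W : Subgroup X) (hW : ∀ a ∈ W, ∀ b ∈ W, a * b = b * a) (hexp : ∀ a ∈ W, a ^ p = 1)
    (hinv : ∀ α ∈ s, ∀ a ∈ W, α a ∈ W) (hpow : ∀ α ∈ s, ∀ a ∈ W, (α ^ (p - 1)) a = a)
    (hne : W ≠ ⊥) : ∃ z ∈ W, z ≠ 1 ∧ ∀ α ∈ s, ∃ a : ℕ, α z = z ^ a := by
  classical
  induction s using Finset.induction generalizing W with
  | empty =>
    obtain ⟨z, hz, hz1⟩ := (Subgroup.bot_or_exists_ne_one W).resolve_left hne
    exact ⟨z, hz, hz1, by simp⟩
  | insert β s hβ ih =>
    obtain ⟨a, z, hz, hz1, hza⟩ := exists_power β W hW hexp (hinv β (Finset.mem_insert_self β s))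
      (hpow β (Finset.mem_insert_self β s)) hne
    let W' : Subgroup X :=
      { carrier := {x | x ∈ W ∧ β x = x ^ a}
        one_mem' := ⟨one_mem W, by simp⟩
        mul_mem' := fun {x y} hx hy => ⟨mul_mem hx.1 hy.1, by
          rw [map_mul, hx.2, hy.2, Commute.mul_pow (hW x hx.1 y hy.1)]⟩
        inv_mem' := fun {x} hx => ⟨inv_mem hx.1, by rw [map_inv, hx.2, inv_pow]⟩ }
    obtain ⟨w, hw, hw1, hwa⟩ := ih
      (fun x hx y hy => hcomm x (Finset.mem_insert_of_mem hx) y (Finset.mem_insert_of_mem hy)) W'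
      (fun x hx y hy => hW x hx.1 y hy.1) (fun x hx => hexp x hx.1)
      (fun α hα x hx => ⟨hinv α (Finset.mem_insert_of_mem hα) x hx.1, by
        rw [← MulAut.mul_apply,
          ← hcomm α (Finset.mem_insert_of_mem hα) β (Finset.mem_insert_self β s),
          MulAut.mul_apply, hx.2, map_pow]⟩)
      (fun α hα x hx => hpow α (Finset.mem_insert_of_mem hα) x hx.1)
      (fun h => hz1 ((Subgroup.mem_bot).1 (h ▸ (show z ∈ W' from ⟨hz, hza⟩))))
    refine ⟨w, hw.1, hw1, fun α hα => ?_⟩
    rcases Finset.mem_insert.1 hα with rfl | hα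
    · exact ⟨a, hw.2⟩
    · exact hwa α hα

end CfsgLib.FusionClosed
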