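import Cfsg.Agent.Fusion.Realized
import Mathlib.GroupTheory.SemidirectProduct

/-!
# Fusion systems pulled back along an embedding, and the systems of `T ⋊ H`

* `pullbackSystem T ι hι`: the system over `T` realized by the injective `ι : T →* G`.
* `semidirectSystem T H`: the system of `T ⋊ H` on `T`, for `H ≤ Aut T`; `mem_semidirectSystem_iff`,
  `isSaturated_semidirectSystem`, `autGroup_semidirectSystem`, `semidirectSystem_le`.
-/

set_option autoImplicit false

namespace CfsgLib.FusionClosed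

open Cfsg Cfsg.FusionSystem CfsgLib.Fusion

variable {Ω : Type*} [Group Ω]

/-- The fusion system on `T` induced by an embedding of `T` into a group `G`. -/
def pullbackSystem (T : Subgroup Ω) {G : Type*} [Group G] (ι : T →* G)
    (hι : Function.Injective ι) : FusionSystem T where
  Hom P := {φ | ∃ (hP : P ≤ T) (hφ : ∀ x : P, φ x ∈ T),
    ∃ g : G, ∀ x : P, ι ⟨φ x, hφ x⟩ = g * ι ⟨x, hP x.2⟩ * g⁻¹}
  le_of_mem := fun ⟨hP, hφ, _⟩ => ⟨hP, hφ⟩
  injective_of_mem := by
    rintro P φ ⟨hP, hφ, g, hg⟩ a b hab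
    have h1 : ι ⟨φ a, hφ a⟩ = ι ⟨φ b, hφ b⟩ := congrArg ι (Subtype.ext hab)
    rw [hg, hg] at h1
    exact Subtype.ext (congrArg Subtype.val (hι (mul_left_cancel (mul_right_cancel h1))) :)
  conj_mem := by
    intro P g hP hg
    refine ⟨hP, fun x => T.mul_mem (T.mul_mem hg (hP x.2)) (T.inv_mem hg), ι ⟨g, hg⟩, fun x => ?_⟩
    rw [← map_inv, ← map_mul, ← map_mul]
    rfl
  comp_mem := by
    rintro P Q φ ψ ⟨hP, hφ, g, hg⟩ ⟨hQ, hψ, k, hk⟩ h
    refine ⟨hP, fun x => hψ _, k * g, fun x => ?_⟩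
    refine Eq.trans (hk ⟨φ x, h x⟩) ?_
    rw [show (⟨((⟨φ x, h x⟩ : Q) : Ω), hQ (h x)⟩ : T) = ⟨φ x, hφ x⟩ from rfl, hg, mul_inv_rev]
    simp [mul_assoc]
  inv_mem := by
    rintro P φ ⟨hP, hφ, g, hg⟩
    have hinj : Function.Injective φ := fun a b hab => by
      have h1 : ι ⟨φ a, hφ a⟩ = ι ⟨φ b, hφ b⟩ := congrArg ι (Subtype.ext hab)
      rw [hg, hg] at h1
      exact Subtype.ext (congrArg Subtype.val (hι (mul_left_cancel (mul_right_cancel h1))) :)
    refine ⟨P.subtype.comp (MonoidHom.ofInjective hinj).symm.toMonoidHom,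
      ⟨by rintro _ ⟨x, rfl⟩; exact hφ x, fun y => hP ((MonoidHom.ofInjective hinj).symm y).2, g⁻¹,
        fun y => ?_⟩, fun x => ?_⟩
    · obtain ⟨x, rfl⟩ := (MonoidHom.ofInjective hinj).surjective y
      simp only [MonoidHom.coe_comp, MulEquiv.coe_toMonoidHom, Subgroup.coe_subtype,
        Function.comp_apply, MulEquiv.symm_apply_apply, MonoidHom.ofInjective_apply]
      rw [hg x]
      simp [mul_assoc]
    · exact congrArg Subtype.val ((MonoidHom.ofInjective hinj).symm_apply_apply x)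

theorem pullbackSystem_isRealizedBy (T : Subgroup Ω) {G : Type*} [Group G] (ι : T →* G)
    (hι : Function.Injective ι) : (pullbackSystem T ι hι).IsRealizedBy ι :=
  ⟨hι, fun _ hP _ hφ => ⟨fun ⟨_, _, h⟩ => h, fun h => ⟨hP, hφ, h⟩⟩⟩

/-- The fusion system of `T ⋊ H` on `T`. -/
def semidirectSystem (T : Subgroup Ω) (H : Subgroup (MulAut T)) : FusionSystem T :=
  pullbackSystem T (SemidirectProduct.inl (φ := H.subtype)) SemidirectProduct.inl_injective

variable {T : Subgroup Ω} {H : Subgroup (MulAut T)}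

theorem conj_inl (k : T ⋊[H.subtype] H) (t : T) :
    k * SemidirectProduct.inl t * k⁻¹ =
      SemidirectProduct.inl (k.left * (k.right : MulAut T) t * k.left⁻¹) := by
  rw [map_mul, map_mul, map_inv,
    show (k.right : MulAut T) t = H.subtype k.right t from rfl, SemidirectProduct.inl_aut, map_inv]
  obtain ⟨a, b⟩ := k
  rw [show (⟨a, b⟩ : T ⋊[H.subtype] H) = SemidirectProduct.inl a * SemidirectProduct.inr b from
    SemidirectProduct.ext (by simp) (by simp)]
  simp [mul_assoc]

theorem mem_semidirectSystem_iff {P : Subgroup Ω} {φ : P →* Ω} :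
    φ ∈ (semidirectSystem T H).Hom P ↔ ∃ hP : P ≤ T, ∃ g : T, ∃ h ∈ H, ∀ x : P,
      φ x = ((g * h ⟨x, hP x.2⟩ * g⁻¹ : T) : Ω) := by
  constructor
  · rintro ⟨hP, hφ, k, hk⟩
    refine ⟨hP, k.left, k.right, k.right.2, fun x => ?_⟩
    have h1 := (hk x).trans (conj_inl k ⟨x, hP x.2⟩)
    exact congrArg Subtype.val (SemidirectProduct.inl_injective h1)
  · rintro ⟨hP, g, h, hh, hv⟩
    refine ⟨hP, fun x => hv x ▸ (g * h ⟨x, hP x.2⟩ * g⁻¹).2, ⟨g, ⟨h, hh⟩⟩, fun x => ?_⟩
    rw [conj_inl]
    exact congrArg _ (Subtype.ext (hv x))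

theorem mem_autGroup_semidirectSystem_of_mem {α : MulAut T} (hα : α ∈ H) :
    α ∈ (semidirectSystem T H).autGroup T :=
  Subgroup.subset_closure (mem_semidirectSystem_iff.2 ⟨le_rfl, 1, α, hα, fun x => by simp⟩)

theorem autGroup_semidirectSystem :
    (semidirectSystem T H).autGroup T = Inn T ⊔ H := by
  apply le_antisymm
  · intro α hα
    obtain ⟨_, g, h, hh, hv⟩ := mem_semidirectSystem_iff.1 ((mem_autGroup_iff le_rfl).1 hα)
    have : α = MulAut.conj g * h := MulEquiv.ext fun x => Subtype.ext (hv x)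
    rw [this]
    exact mul_mem (Subgroup.mem_sup_left ⟨g, rfl⟩) (Subgroup.mem_sup_right hh)
  · exact sup_le (Inn_le_autGroup le_rfl) fun α hα => mem_autGroup_semidirectSystem_of_mem hα

theorem finite_semidirect [Finite T] : Finite (T ⋊[H.subtype] H) := by
  have : Finite (MulAut T) := Finite.of_injective (fun α => (α : T → T)) DFunLike.coe_injective
  exact Finite.of_equiv _ SemidirectProduct.equivProd.symm

theorem isSaturated_semidirectSystem [Finite T] {p : ℕ} [Fact p.Prime] (hT : IsPGroup p T)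
    (hH : (Nat.card H).Coprime p) : (semidirectSystem T H).IsSaturated p := by
  have := finite_semidirect (T := T) (H := H)
  have hidx : (SemidirectProduct.inl (φ := H.subtype)).range.index = Nat.card H := by
    rw [SemidirectProduct.range_inl_eq_ker_rightHom, Subgroup.index_ker,
      MonoidHom.range_eq_top.2 SemidirectProduct.rightHom_surjective, Subgroup.card_top]
  let R : Sylow p (T ⋊[H.subtype] H) :=
    (hT.of_equiv (MonoidHom.ofInjective SemidirectProduct.inl_injective)).toSylow (by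
      rw [hidx]
      exact fun h => (Fact.out : p.Prime).coprime_iff_not_dvd.1 hH.symm h)
  exact isSaturated_of_realized (pullbackSystem_isRealizedBy T _ _) R rfl

theorem semidirectSystem_le {S : Subgroup Ω} {F : FusionSystem S} (hT : T ≤ S)
    (hH : H ≤ F.autGroup T) : (semidirectSystem T H).IsSubsystemOf F := by
  intro P φ hφ
  obtain ⟨hP, g, h, hh, hv⟩ := mem_semidirectSystem_iff.1 hφ
  have h1 : MulAut.conj g * h ∈ F.autGroup T := mul_mem (Inn_le_autGroup hT ⟨g, rfl⟩) (hH hh)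
  refine mem_of_agree ((mem_autGroup_iff hT).1 h1) hP fun x => ?_
  exact hv x

end CfsgLib.FusionClosed
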