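import Cfsg.Agent.FusionClosed.FineChain
import Cfsg.Agent.FusionClosed.Semidirect
import Cfsg.Agent.FusionClosed.Eigen
import Mathlib.GroupTheory.SchurZassenhaus

/-!
# Supersoluble saturated fusion systems

* `Supersoluble F`: a chain of strongly closed subgroups up to `S` with cyclic steps.
* `supersoluble_of_complement`: `S` normal and `Aut_F(S) = Inn S ⊔ K` with `K` abelian of exponent
  dividing `p - 1` give supersolubility.
* `exists_complement`: such a `K` of order prime to `p` always exists for a saturated system.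
-/

set_option autoImplicit false

namespace CfsgLib.FusionClosed

open Cfsg Cfsg.FusionSystem CfsgLib.Fusion

variable {Ω : Type*} [Group Ω] {S : Subgroup Ω} {F : FusionSystem S} {p : ℕ}

/-- A chain of strongly closed subgroups from `⊥` to `c` with cyclic steps. -/
def CycReach (F : FusionSystem S) (c : Subgroup Ω) : Prop :=
  ∃ (m : ℕ) (C : Fin (m + 1) → Subgroup Ω), C 0 = ⊥ ∧ C (Fin.last m) = c ∧
    (∀ i : Fin (m + 1), F.StronglyClosed (C i)) ∧
    ∀ i : Fin m, C i.castSucc ≤ C i.succ ∧ ∃ x ∈ S, C i.succ = C i.castSucc ⊔ Subgroup.zpowers x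

theorem cycReach_bot (F : FusionSystem S) : CycReach F ⊥ :=
  ⟨0, fun _ => ⊥, rfl, rfl, fun _ => stronglyClosed_bot F, fun i => i.elim0⟩

theorem CycReach.step {c c' : Subgroup Ω} (h : CycReach F c) {x : Ω} (hx : x ∈ S)
    (he : c' = c ⊔ Subgroup.zpowers x) (hc' : F.StronglyClosed c') : CycReach F c' := by
  obtain ⟨m, C, h0, hm, hsc, hstep⟩ := h
  refine ⟨m + 1, Fin.snoc C c', ?_, by simp, ?_, ?_⟩
  · rw [show (0 : Fin (m + 1 + 1)) = Fin.castSucc 0 from rfl, Fin.snoc_castSucc, h0]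
  · intro i
    induction i using Fin.lastCases with
    | last => simpa using hc'
    | cast i => simpa using hsc i
  · intro i
    induction i using Fin.lastCases with
    | last =>
      rw [Fin.succ_last, Fin.snoc_last, Fin.snoc_castSucc, hm]
      exact ⟨he ▸ le_sup_left, x, hx, he⟩
    | cast i =>
      rw [Fin.succ_castSucc, Fin.snoc_castSucc, Fin.snoc_castSucc]
      exact hstep i

/-- With `S` normal, an `Aut_F(S)`-invariant subgroup of `S` is strongly closed. -/
theorem stronglyClosed_of_aut_invariant [Finite S] (hN : F.IsNormal S) {c : Subgroup Ω}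
    (hc : c ≤ S) (hinv : ∀ α ∈ F.autGroup S, ∀ x : S, (x : Ω) ∈ c → ((α x : S) : Ω) ∈ c) :
    F.StronglyClosed c := by
  refine ⟨hc, fun R hR φ hφ x => ?_⟩
  obtain ⟨ψ, hψ, hψv, -⟩ := hN.2 R φ hφ
  have hψ' := restrict_mem hψ (le_sup_right : S ≤ R ⊔ S)
  obtain ⟨e, he, hev⟩ := exists_iso hψ' (eq_S_of_isConj ⟨_, hψ', rfl⟩)
  have h1 := hinv e ((mem_autGroup_iff le_rfl).2 he) ⟨x, hc (hR x.2)⟩ (hR x.2)
  rw [hev] at h1
  rw [← hψv x]
  exact h1

/-- A complement to `Inn S` in `Aut_F(S)` of order prime to `p`. -/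
theorem exists_complement [Finite S] [Fact p.Prime] (hS : IsPGroup p S) (hF : F.IsSaturated p) :
    ∃ K : Subgroup (MulAut S), K ≤ F.autGroup S ∧ (Nat.card K).Coprime p ∧
      F.autGroup S = Inn S ⊔ K := by
  obtain ⟨⟨-, R, hR⟩, -⟩ := automized_receptive hS hF (isFullyNormalized_self (F := F))
  rw [← Inn_eq] at hR
  have : Finite (MulAut S) := Finite.of_injective (fun α => (α : S → S)) DFunLike.coe_injective
  have := Inn_normal S
  have hn : ((Inn S).subgroupOf (F.autGroup S)).Normal := Subgroup.normal_subgroupOf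
  have hco : (Nat.card ((Inn S).subgroupOf (F.autGroup S))).Coprime
      ((Inn S).subgroupOf (F.autGroup S)).index := hR ▸ R.card_coprime_index
  obtain ⟨H, hH⟩ := Subgroup.exists_left_complement'_of_coprime hco
  refine ⟨H.map (F.autGroup S).subtype, Subgroup.map_subtype_le H, ?_, ?_⟩
  · rw [Subgroup.card_map_of_injective (F.autGroup S).subtype_injective, Nat.coprime_comm,
      (Fact.out : p.Prime).coprime_iff_not_dvd, ← hH.index_eq_card, ← hR]
    exact R.not_dvd_index
  · have h1 := congrArg (Subgroup.map (F.autGroup S).subtype) hH.sup_eq_top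
    rw [Subgroup.map_sup, ← MonoidHom.range_eq_map, Subgroup.range_subtype,
      Subgroup.map_subgroupOf_eq_of_le (Inn_le_autGroup le_rfl)] at h1
    exact h1.symm.trans (sup_comm _ _)

/-- The greedy construction of the chain. -/
theorem supersoluble_of_complement [Finite S] [Fact p.Prime] (hS : IsPGroup p S)
    (hN : F.IsNormal S) (K : Subgroup (MulAut S)) (hA : F.autGroup S = Inn S ⊔ K)
    (hcomm : ∀ a ∈ K, ∀ b ∈ K, a * b = b * a) (hpow : ∀ a ∈ K, a ^ (p - 1) = 1) :
    CycReach F S := by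
  classical
  have : Finite (MulAut S) := Finite.of_injective (fun α => (α : S → S)) DFunLike.coe_injective
  have hfin : {c : Subgroup Ω | CycReach F c}.Finite :=
    (finite_subgroups (S := S)).subset fun c ⟨m, C, _, hm, hsc, _⟩ => hm ▸ (hsc _).1
  obtain ⟨c, hc, hmax⟩ := hfin.exists_maximal ⟨⊥, cycReach_bot F⟩
  obtain ⟨m, C, h0, hm, hsc, hstep⟩ := id (hc : CycReach F c)
  have hcsc : F.StronglyClosed c := hm ▸ hsc _
  rcases eq_or_lt_of_le hcsc.1 with h | hlt
  · exact h ▸ hc
  exfalso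
  have hnorm : (c.subgroupOf S).Normal :=
    ⟨fun n hn g => conj_mem_stronglyClosed hcsc g.2 hn⟩
  set q := QuotientGroup.mk' (c.subgroupOf S) with hq
  have hKA : K ≤ F.autGroup S := hA ▸ le_sup_right
  have hmap : ∀ α : K, (c.subgroupOf S).map ((α : MulAut S) : S →* S) = c.subgroupOf S := by
    intro α
    ext y
    constructor
    · rintro ⟨z, hz, rfl⟩
      exact (aut_mem_stronglyClosed_iff hcsc le_rfl (hKA α.2)).2 hz
    · intro hy
      obtain ⟨z, rfl⟩ := (α : MulAut S).surjective y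
      exact ⟨z, (aut_mem_stronglyClosed_iff hcsc le_rfl (hKA α.2)).1 hy, rfl⟩
  let φ : K →* MulAut (S ⧸ c.subgroupOf S) :=
    MonoidHom.mk' (fun α => QuotientGroup.congr _ _ (α : MulAut S) (hmap α)) fun a b => by
      refine MulEquiv.ext fun y => ?_
      obtain ⟨s, rfl⟩ := QuotientGroup.mk'_surjective _ y
      rfl
  have hφq : ∀ (α : K) (s : S), φ α (q s) = q ((α : MulAut S) s) := fun α s => rfl
  have hQ : IsPGroup p (S ⧸ c.subgroupOf S) := hS.to_quotient _
  have : Nontrivial (S ⧸ c.subgroupOf S) := by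
    obtain ⟨s, hs, hsc'⟩ := SetLike.exists_of_lt hlt
    exact ⟨⟨q ⟨s, hs⟩, 1, fun h => hsc' ((QuotientGroup.eq_one_iff
      (N := c.subgroupOf S) (⟨s, hs⟩ : S)).1 h)⟩⟩
  let W : Subgroup (S ⧸ c.subgroupOf S) :=
    { carrier := {w | w ∈ Subgroup.center (S ⧸ c.subgroupOf S) ∧ w ^ p = 1}
      one_mem' := ⟨one_mem _, one_pow p⟩
      mul_mem' := fun {x y} hx hy => ⟨mul_mem hx.1 hy.1, by
        rw [Commute.mul_pow (Subgroup.mem_center_iff.1 hy.1 x), hx.2, hy.2, one_mul]⟩
      inv_mem' := fun {x} hx => ⟨inv_mem hx.1, by rw [inv_pow, hx.2, inv_one]⟩ }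
  have hWne : W ≠ ⊥ := by
    have hnt := hQ.center_nontrivial
    obtain ⟨k, hk0, hk⟩ := (hQ.to_subgroup (Subgroup.center _)).nontrivial_iff_card.1 hnt
    obtain ⟨z, hz⟩ := exists_prime_orderOf_dvd_card'
      (G := Subgroup.center (S ⧸ c.subgroupOf S)) p (hk ▸ dvd_pow_self p hk0.ne')
    intro h
    have h1 : ((z : S ⧸ c.subgroupOf S)) ∈ W := ⟨z.2, by
      rw [← Subgroup.orderOf_coe] at hz
      rw [← hz, pow_orderOf_eq_one]⟩
    rw [h, Subgroup.mem_bot, OneMemClass.coe_eq_one] at h1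
    rw [h1, orderOf_one] at hz
    exact (Fact.out : p.Prime).one_lt.ne hz
  have : Fintype K := Fintype.ofFinite K
  obtain ⟨z, hzW, hz1, hza⟩ := exists_common_power (p := p) (Finset.univ.image φ)
    (by
      intro a ha b hb
      obtain ⟨α, -, rfl⟩ := Finset.mem_image.1 ha
      obtain ⟨β, -, rfl⟩ := Finset.mem_image.1 hb
      rw [← map_mul, ← map_mul]
      exact congrArg φ (Subtype.ext (hcomm α α.2 β β.2)))
    W (fun a ha b _ => (Subgroup.mem_center_iff.1 ha.1 b).symm) (fun a ha => ha.2)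
    (fun α _ a ha => ⟨(MulEquivClass.apply_mem_center_iff α).2 ha.1, by
      rw [← map_pow, ha.2, map_one]⟩)
    (fun α hα a _ => by
      obtain ⟨β, -, rfl⟩ := Finset.mem_image.1 hα
      rw [← map_pow, show β ^ (p - 1) = 1 from Subtype.ext (hpow β β.2), map_one,
        MulAut.one_apply]) hWne
  obtain ⟨x, rfl⟩ := QuotientGroup.mk'_surjective (c.subgroupOf S) z
  let c' : Subgroup Ω := ((Subgroup.zpowers (q x)).comap q).map S.subtype
  have he : c' = c ⊔ Subgroup.zpowers (x : Ω) := by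
    simp only [c']
    rw [← MonoidHom.map_zpowers, Subgroup.comap_map_eq, hq, QuotientGroup.ker_mk',
      Subgroup.map_sup, Subgroup.map_subgroupOf_eq_of_le hcsc.1, MonoidHom.map_zpowers, sup_comm]
    rfl
  have hc' : F.StronglyClosed c' := by
    refine stronglyClosed_of_aut_invariant hN (Subgroup.map_subtype_le _) fun α hα y hy => ?_
    obtain ⟨y', hy', hye⟩ := hy
    obtain rfl : y' = y := Subtype.ext hye
    refine ⟨α y', ?_, rfl⟩
    obtain ⟨b, hb⟩ := hy'
    rw [hA] at hα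
    have := Inn_normal S
    obtain ⟨g, ⟨s, rfl⟩, k, hk, rfl⟩ := Subgroup.mem_sup_of_normal_left.1 hα
    obtain ⟨a, ha⟩ := hza (φ ⟨k, hk⟩) (Finset.mem_image_of_mem φ (Finset.mem_univ _))
    refine ⟨(a : ℤ) * b, ?_⟩
    show q x ^ ((a : ℤ) * b) = q (MulAut.conj s (k y'))
    rw [MulAut.conj_apply, map_mul, map_mul, ← hφq ⟨k, hk⟩]
    have hb' : q x ^ b = q y' := hb
    rw [← hb', map_zpow, show φ ⟨k, hk⟩ (q x) = q x ^ a from ha, ← zpow_natCast (q x) a, ← zpow_mul,
      Subgroup.mem_center_iff.1 (zpow_mem hzW.1 _) (q s), mul_assoc, ← map_mul, mul_inv_cancel,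
      map_one, mul_one]
  have hxc : (x : Ω) ∉ c := fun h => hz1 ((QuotientGroup.eq_one_iff (N := c.subgroupOf S) x).2 h)
  have h2 : c' ≤ c :=
    hmax (show c' ∈ {c | CycReach F c} from CycReach.step hc x.2 he hc') (he ▸ le_sup_left)
  exact hxc (h2 (he ▸ Subgroup.mem_sup_right (Subgroup.mem_zpowers _)))

end CfsgLib.FusionClosed
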