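import Cfsg.Agent.FusionClosed.CentreIndexBasic
import Cfsg.Agent.FusionClosed.Supersoluble
import Cfsg.Agent.FusionEssential.PPowHom
import Cfsg.Agent.FusionEssential.OrderCube
import Cfsg.Agent.Small.Dihedral

/-!
# Saturated systems over groups whose centre has index `p²`

* `HasCommonFix`: all data have the same common fixed subgroup; `hasCommonFix_odd`,
  `hasCommonFix_two` (the latter when the focal subgroup is `S`).
* `eq_bot_of_common`: that subgroup is normal in the system, hence trivial when `O_p(F) = 1`.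
* `card_and_exponent`, `dihedral_of_two`: the resulting structure of `S`.
-/

set_option autoImplicit false

namespace CfsgLib.FusionClosed

open Cfsg Cfsg.FusionSystem CfsgLib.Fusion
open scoped commutatorElement Pointwise

attribute [local instance] commGroupOf

variable {Ω : Type*} [Group Ω] {S : Subgroup Ω} {F : FusionSystem S} {p : ℕ}

/-- All data have the same common fixed subgroup `C`. -/
def HasCommonFix (F : FusionSystem S) (p : ℕ) (C : Subgroup Ω) : Prop :=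
  ∀ (P : Subgroup Ω) (σ g : MulAut P), Datum F p P σ g → cFix σ (g * σ * g⁻¹) = C

theorem eq_one_or_eq_of_sq {G : Type*} [Group G] {a x : G} (ha : a * a = 1)
    (hx : x ∈ Subgroup.zpowers a) : x = 1 ∨ x = a := by
  obtain ⟨e, rfl⟩ := hx
  have h2 : a ^ (2 : ℤ) = 1 := by rw [zpow_two]; exact ha
  rcases Int.even_or_odd e with ⟨f, rfl⟩ | ⟨f, rfl⟩
  · left
    show a ^ (f + f) = 1
    rw [← two_mul, zpow_mul, h2, one_zpow]
  · right
    show a ^ (2 * f + 1) = a
    rw [zpow_add, zpow_mul, h2, one_zpow, one_mul, zpow_one]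

theorem conj_fix_iff {P : Subgroup Ω} (σ h : MulAut P) (x : P) :
    (h * σ * h⁻¹) x = x ↔ σ (h⁻¹ x) = h⁻¹ x := by
  constructor
  · intro e
    have := congrArg (fun w => h⁻¹ w) e
    rwa [MulAut.mul_apply, MulAut.mul_apply, MulAut.inv_apply_self] at this
  · intro e
    rw [MulAut.mul_apply, MulAut.mul_apply, e, MulAut.apply_inv_self]

variable [Finite S] [Fact p.Prime]

namespace Datum

variable {P : Subgroup Ω} {σ g : MulAut P}

theorem card_commutator (hS : IsPGroup p S) (hF : F.IsSaturated p) (d : Datum F p P σ g) :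
    Nat.card (⁅S, S⁆ : Subgroup Ω) = p := by
  let _ := d.comm
  obtain ⟨ht, -⟩ := d.transvection hS hF
  rw [d.commutator_eq hS hF, Subgroup.card_map_of_injective P.subtype_injective, ht.card_range]

theorem commutator_le_zS (hS : IsPGroup p S) (hF : F.IsSaturated p) (d : Datum F p P σ g) :
    ⁅S, S⁆ ≤ zS S := by
  let _ := d.comm
  obtain ⟨ht, -, -, -, hfix⟩ := d.transvection hS hF
  rw [d.commutator_eq hS hF]
  rintro _ ⟨_, ⟨x, rfl⟩, rfl⟩
  exact (hfix _).1 (ht.sq x)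

theorem zS_decomp (hS : IsPGroup p S) (hF : F.IsSaturated p) (d : Datum F p P σ g) {x : Ω}
    (hx : x ∈ zS S) :
    ∃ r ∈ ⁅S, S⁆, ∃ c ∈ cFix σ (g * σ * g⁻¹), x = r * c := by
  let _ := d.comm
  obtain ⟨τ, z, z', -, -, hP, hcf⟩ := d.pair hS hF
  obtain ⟨-, -, -, -, hfix⟩ := d.transvection hS hF
  obtain ⟨a, c, hc, he⟩ := hP.fix_left (y := ⟨x, d.zle hx⟩) ((hfix _).2 hx)
  refine ⟨((z ^ a : P) : Ω), ?_, (c : Ω), ?_, congrArg Subtype.val he⟩
  · rw [d.commutator_eq hS hF, hP.z_range]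
    exact Subgroup.mem_map_of_mem _ (zpow_mem (Subgroup.mem_zpowers z) a)
  · rw [hcf]
    exact Subgroup.mem_map_of_mem _ hc

theorem commutator_inter (hS : IsPGroup p S) (hF : F.IsSaturated p) (d : Datum F p P σ g) {r : Ω}
    (hr : r ∈ ⁅S, S⁆) (hr' : r ∈ cFix σ (g * σ * g⁻¹)) : r = 1 := by
  let _ := d.comm
  obtain ⟨τ, z, z', -, -, hP, hcf⟩ := d.pair hS hF
  rw [d.commutator_eq hS hF, hP.z_range] at hr
  rw [hcf] at hr'
  obtain ⟨_, ⟨a, rfl⟩, rfl⟩ := hr
  obtain ⟨w, hw, hwe⟩ := hr'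
  obtain rfl := P.subtype_injective hwe
  have h1 := hP.zpow_mul_mem_fix (a := a) (b := 0) (by rwa [zpow_zero, mul_one])
  rw [zpow_zero, mul_one] at h1
  exact congrArg Subtype.val h1

theorem pow_eq_one (hS : IsPGroup p S) (hF : F.IsSaturated p) (d : Datum F p P σ g)
    (hC : cFix σ (g * σ * g⁻¹) = ⊥) {x : Ω} (hx : x ∈ P) : x ^ p = 1 := by
  let _ := d.comm
  obtain ⟨τ, z, z', -, -, hP, hcf⟩ := d.pair hS hF
  obtain ⟨a, b, c, hc, he, -, -⟩ := hP.decomp ⟨x, hx⟩
  have hc1 : (c : Ω) ∈ cFix σ (g * σ * g⁻¹) := hcf ▸ Subgroup.mem_map_of_mem _ hc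
  rw [hC, Subgroup.mem_bot, OneMemClass.coe_eq_one] at hc1
  have h1 : (⟨x, hx⟩ : P) ^ p = 1 := by
    have h2 : ∀ (w : P) (n : ℤ), w ^ p = 1 → (w ^ n) ^ p = 1 := fun w n hw => by
      rw [← zpow_natCast, ← zpow_mul, mul_comm, zpow_mul, zpow_natCast, hw, one_zpow]
    rw [he, hc1, mul_one, mul_pow, h2 z a hP.z_pow, h2 z' b hP.z'_pow, one_mul]
  exact congrArg Subtype.val h1

/-- A conjugate of `σ` fixes the common fixed subgroup. -/
theorem conj_fix {C : Subgroup Ω} (hC : HasCommonFix F p C) (d : Datum F p P σ g) {c : Ω}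
    (hc : c ∈ C) (hcP : c ∈ P) {h : MulAut P} (hh : h ∈ F.autGroup P) :
    (h * σ * h⁻¹) ⟨c, hcP⟩ = ⟨c, hcP⟩ := by
  rw [← hC P σ g d] at hc
  obtain ⟨_, h1, -⟩ := mem_cFix.1 hc
  by_cases hne : h * σ * h⁻¹ ∈ Subgroup.zpowers σ
  · exact (Subgroup.zpowers_le.2 (show σ ∈ MulAction.stabilizer (MulAut P) (⟨c, hcP⟩ : P) from h1))
      hne
  · rw [hC P σ g d, ← hC P σ h { d with mem := hh, ne := hne }] at hc
    exact (mem_cFix.1 hc).2.2

end Datum

theorem eq_bot_of_common (hS : IsPGroup p S) (hF : F.IsSaturated p)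
    (hidx : (Subgroup.center S).index = p ^ 2) (hcore : F.core = ⊥) {C : Subgroup Ω}
    (hC : HasCommonFix F p C) {P : Subgroup Ω} {σ g : MulAut P} (d : Datum F p P σ g) : C = ⊥ := by
  have hCz : C ≤ zS S := hC P σ g d ▸ d.cFix_le hS hF _
  have hnorm : F.IsNormal C := by
    refine isNormal_of_invariant hS hF (hCz.trans zS_le) (fun s hs x hx => ?_) (fun Q hQ => ?_) ?_
    · rw [(mem_zS.1 (hCz hx)).2 s hs, mul_inv_cancel_right]
      exact hx
    · obtain ⟨σ', g', d'⟩ := exists_datum_of_essential hS hF hidx hQ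
      exact hCz.trans d'.zle
    · rintro Q (rfl | hQ) α hα x hx
      · obtain ⟨Q', e, he, hev, d'⟩ := d.transport hα
        have hxP : (x : Ω) ∈ P := d.zle (hCz hx)
        have h1 : ((e ⟨x, hxP⟩ : Q') : Ω) ∈
            cFix (MulAut.congr e σ) (MulAut.congr e (g * σ * g⁻¹)) :=
          (mem_cFix_congr e ⟨x, hxP⟩).2 ((hC P σ g d).symm ▸ hx)
        rw [map_mul, map_mul, map_inv, hC _ _ _ d', hev] at h1
        exact h1
      · obtain ⟨σ', g', d'⟩ := exists_datum_of_essential hS hF hidx hQ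
        rw [← hC Q σ' g' d', mem_cFix]
        refine ⟨(α x).2, ?_, ?_⟩
        · have h1 := d'.conj_fix hC hx x.2 (inv_mem hα)
          rw [conj_fix_iff, inv_inv] at h1
          exact h1
        · have h1 := d'.conj_fix hC hx x.2 (mul_mem (inv_mem hα) d'.mem)
          rw [show α⁻¹ * g' * σ' * (α⁻¹ * g')⁻¹ = α⁻¹ * (g' * σ' * g'⁻¹) * α⁻¹⁻¹ by group,
            conj_fix_iff, inv_inv] at h1
          exact h1
  have h1 : C ≤ F.core := le_sSup hnorm
  rwa [hcore, le_bot_iff] at h1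

theorem exists_datum (hS : IsPGroup p S) (hF : F.IsSaturated p) (hS1 : S ≠ ⊥)
    (hidx : (Subgroup.center S).index = p ^ 2) (hcore : F.core = ⊥) :
    ∃ (P : Subgroup Ω) (σ g : MulAut P), Datum F p P σ g := by
  by_contra hc
  refine hS1 (le_bot_iff.1 (hcore ▸ le_sSup ?_))
  refine isNormal_of_invariant hS hF le_rfl (fun s hs x hx => S.mul_mem (S.mul_mem hs hx)
    (S.inv_mem hs)) (fun Q hQ => ?_) fun Q hQ α hα x hx => ?_
  · obtain ⟨σ, g, d⟩ := exists_datum_of_essential hS hF hidx hQ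
    exact absurd ⟨Q, σ, g, d⟩ hc
  · rcases hQ with rfl | hQ
    · exact (α x).2
    · obtain ⟨σ, g, d⟩ := exists_datum_of_essential hS hF hidx hQ
      exact absurd ⟨Q, σ, g, d⟩ hc

/-- Two data on different subgroups exist. -/
theorem exists_two_data (hS : IsPGroup p S) (hF : F.IsSaturated p)
    (hidx : (Subgroup.center S).index = p ^ 2) (hcore : F.core = ⊥) {P : Subgroup Ω}
    {σ g : MulAut P} (d : Datum F p P σ g) :
    ∃ (Q : Subgroup Ω) (σ' g' : MulAut Q), Datum F p Q σ' g' ∧ Q ≠ P := by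
  by_contra hc
  push Not at hc
  have hP1 : P ≠ ⊥ := fun h => by
    have := d.zindex
    rw [h, Subgroup.relIndex_bot_right] at this
    exact (Fact.out : p.Prime).one_lt.ne this
  refine hP1 (le_bot_iff.1 (hcore ▸ le_sSup ?_))
  refine isNormal_of_invariant hS hF d.le (fun s hs x hx => ?_) (fun Q hQ => ?_) ?_
  · have h1 : s ∈ normalizerIn S P := (normalizerIn_eq_of_relIndex hS d.le d.index).symm ▸ hs
    exact (Subgroup.mem_normalizer_iff.1 h1.2 x).1 hx
  · obtain ⟨σ', g', d'⟩ := exists_datum_of_essential hS hF hidx hQ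
    exact (hc Q σ' g' d').ge
  · rintro Q (rfl | hQ) α hα x hx
    · obtain ⟨Q', e, -, hev, d'⟩ := d.transport hα
      have h1 := (e ⟨x, hx⟩).2
      rw [hev] at h1
      exact (hc _ _ _ d').le h1
    · obtain ⟨σ', g', d'⟩ := exists_datum_of_essential hS hF hidx hQ
      exact (hc Q σ' g' d').le (α x).2

/-- An element of `Aut_F(S)` trivial on `[S, S]` and on `Z(S)/[S, S]` is trivial on `Z(S)`. -/
theorem fix_zS_of_stab (hS : IsPGroup p S) (hF : F.IsSaturated p) {P : Subgroup Ω}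
    {σ g : MulAut P} (d : Datum F p P σ g) {β : MulAut S} (hβ : β ∈ F.autGroup S)
    (h1 : ∀ x : S, (x : Ω) ∈ ⁅S, S⁆ → β x = x)
    (h2 : ∀ x : S, (x : Ω) ∈ zS S → ((β x : S) : Ω) * (x : Ω)⁻¹ ∈ ⁅S, S⁆) :
    ∀ x : S, (x : Ω) ∈ zS S → β x = x := by
  obtain ⟨K, -, hK, hA⟩ := exists_complement hS hF
  have hres : ∀ (α : MulAut S) (x : S), x ∈ Subgroup.center S → α x ∈ Subgroup.center S :=
    fun α x hx => (MulEquivClass.apply_mem_center_iff α).2 hx
  let r : MulAut S →* MulAut (Subgroup.center S) :=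
    { toFun := fun α =>
        { toFun := fun x => ⟨α x, hres α x x.2⟩
          invFun := fun x => ⟨α⁻¹ x, hres α⁻¹ x x.2⟩
          left_inv := fun x => Subtype.ext (MulAut.inv_apply_self _ α (x : S))
          right_inv := fun x => Subtype.ext (MulAut.apply_inv_self _ α (x : S))
          map_mul' := fun x y => Subtype.ext (map_mul α (x : S) y) }
      map_one' := rfl
      map_mul' := fun _ _ => rfl }
  have hco : (orderOf (r β)).Coprime p := by
    have := Inn_normal S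
    obtain ⟨i, ⟨s, rfl⟩, k, hk, rfl⟩ :=
      Subgroup.mem_sup_of_normal_left.1 (show β ∈ Inn S ⊔ K from hA ▸ hβ)
    have h3 : r (MulAut.conj s) = 1 := MulEquiv.ext fun x => Subtype.ext (by
      show s * (x : S) * s⁻¹ = x
      rw [Subgroup.mem_center_iff.1 x.2 s, mul_inv_cancel_right])
    rw [map_mul, h3, one_mul]
    exact hK.coprime_dvd_left ((orderOf_map_dvd r k).trans (Subgroup.orderOf_dvd_natCard K hk))
  let c : ℕ → Subgroup (Subgroup.center S) := fun i =>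
    if i = 0 then ⊥ else if i = 1 then (⁅S, S⁆.subgroupOf S).subgroupOf (Subgroup.center S) else ⊤
  have hzmem : ∀ x : S, x ∈ Subgroup.center S ↔ (x : Ω) ∈ zS S := fun x =>
    ⟨fun h => Subgroup.mem_map_of_mem _ h, fun ⟨y, hy, hye⟩ => Subtype.ext hye ▸ hy⟩
  have hst : StabSeries c 2 (r β) := by
    intro i hi x hx
    interval_cases i
    · show r β x * x⁻¹ ∈ (⊥ : Subgroup _)
      rw [Subgroup.mem_bot, mul_inv_eq_one]
      exact Subtype.ext (h1 x hx)
    · exact h2 x ((hzmem x).1 x.2)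
  intro x hx
  have hcz : IsPGroup p (Subgroup.center S) := hS.to_subgroup _
  exact congrArg Subtype.val
    (fix_of_stab hcz (c := c) rfl hst hco 2 le_rfl ⟨x, (hzmem x).2 hx⟩ (Subgroup.mem_top _))

/-- For odd `p`: an automorphism of `S` acting as `-1` on `[S, S]` and fixing the common fixed
subgroup of the datum. -/
theorem Datum.exists_neg (hS : IsPGroup p S) (hF : F.IsSaturated p) {P : Subgroup Ω}
    {σ g : MulAut P} (d : Datum F p P σ g) :
    ∃ α ∈ F.autGroup S, (∀ x : S, (x : Ω) ∈ ⁅S, S⁆ → α x = x⁻¹) ∧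
      ∀ x : S, (x : Ω) ∈ cFix σ (g * σ * g⁻¹) → α x = x := by
  let _ := d.comm
  obtain ⟨τ, z, z', hτA, -, hP, hcf⟩ := d.pair hS hF
  obtain ⟨-, hzp, hσA, -, -⟩ := d.transvection hS hF
  obtain ⟨t, ht, htz, -, htc, htσ⟩ := hP.neg
  have htA : t ∈ F.autGroup P :=
    (Subgroup.closure_le _).2 (Set.insert_subset hσA (Set.singleton_subset_iff.2 hτA)) ht
  obtain ⟨ψ, hψ, hv⟩ := exists_map_of_commute hS hF (isFullyNormalized_of_relIndex hS d.le d.index)
    hzp htA htσ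
  have hN := normalizerIn_eq_of_relIndex hS d.le d.index
  have hψ' := restrict_mem hψ hN.ge
  obtain ⟨e, he, hev⟩ := exists_iso hψ' (eq_S_of_isConj ⟨_, hψ', rfl⟩)
  have hval : ∀ x : P, ((e ⟨x, d.le x.2⟩ : S) : Ω) = t x := fun x =>
    (hev _).trans (hv x (hN.ge (d.le x.2)))
  refine ⟨e, (mem_autGroup_iff le_rfl).2 he, fun x hx => ?_, fun x hx => ?_⟩
  · rw [d.commutator_eq hS hF, hP.z_range] at hx
    obtain ⟨w, ⟨a, rfl⟩, hwx⟩ := hx
    apply Subtype.ext
    rw [show x = ⟨((z ^ a : P) : Ω), d.le (z ^ a : P).2⟩ from Subtype.ext hwx.symm]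
    refine (hval (z ^ a)).trans ?_
    rw [map_zpow, htz, inv_zpow]
    rfl
  · rw [hcf] at hx
    obtain ⟨w, hw, hwx⟩ := hx
    apply Subtype.ext
    rw [show x = ⟨(w : Ω), d.le w.2⟩ from Subtype.ext hwx.symm]
    exact (hval w).trans (congrArg Subtype.val (htc w hw))

theorem hasCommonFix_odd (hp : p ≠ 2) (hS : IsPGroup p S) (hF : F.IsSaturated p) {P : Subgroup Ω}
    {σ g : MulAut P} (d : Datum F p P σ g) : HasCommonFix F p (cFix σ (g * σ * g⁻¹)) := by
  have key : ∀ (P Q : Subgroup Ω) (σ g : MulAut P) (σ' g' : MulAut Q), Datum F p P σ g →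
      Datum F p Q σ' g' → cFix σ (g * σ * g⁻¹) ≤ cFix σ' (g' * σ' * g'⁻¹) := by
    intro P Q σ g σ' g' d d' c hc
    obtain ⟨α, hα, hα1, hα2⟩ := d.exists_neg hS hF
    obtain ⟨β, hβ, hβ1, hβ2⟩ := d'.exists_neg hS hF
    have hR := d.commutator_le_zS hS hF
    have hfix := fix_zS_of_stab hS hF d (mul_mem hα hβ) (fun x hx => by
        rw [MulAut.mul_apply, hβ1 x hx, map_inv, hα1 x hx, inv_inv]) (fun x hx => by
        obtain ⟨r, hr, e, he, hre⟩ := d'.zS_decomp hS hF hx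
        have heZ : e ∈ zS S := d'.cFix_le hS hF _ he
        obtain ⟨r', hr', e', he', hre'⟩ := d.zS_decomp hS hF heZ
        have hrS : r ∈ S := zS_le (hR hr)
        have hr'S : r' ∈ S := zS_le (hR hr')
        have heS : e ∈ S := zS_le heZ
        have he'S : e' ∈ S := zS_le (d.cFix_le hS hF _ he')
        have hx' : x = ⟨r, hrS⟩ * ⟨e, heS⟩ := Subtype.ext hre
        have he2 : (⟨e, heS⟩ : S) = ⟨r', hr'S⟩ * ⟨e', he'S⟩ := Subtype.ext hre'
        rw [MulAut.mul_apply, hx', map_mul, hβ1 ⟨r, hrS⟩ hr, hβ2 ⟨e, heS⟩ he, map_mul, map_inv,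
          hα1 ⟨r, hrS⟩ hr, inv_inv, he2, map_mul, hα1 ⟨r', hr'S⟩ hr', hα2 ⟨e', he'S⟩ he']
        show r * (r'⁻¹ * e') * (r * (r' * e'))⁻¹ ∈ ⁅S, S⁆
        rw [show r * (r'⁻¹ * e') * (r * (r' * e'))⁻¹ = r * (r'⁻¹ * r'⁻¹) * r⁻¹ by group]
        exact mul_mem (mul_mem hr (mul_mem (inv_mem hr') (inv_mem hr'))) (inv_mem hr))
    have hcZ : c ∈ zS S := d.cFix_le hS hF _ hc
    obtain ⟨r, hr, e, he, hre⟩ := d'.zS_decomp hS hF hcZ
    have hrS : r ∈ S := zS_le (hR hr)
    have heS : e ∈ S := zS_le (d'.cFix_le hS hF _ he)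
    have hcS : c ∈ S := zS_le hcZ
    have h1 := hfix ⟨c, hcS⟩ hcZ
    rw [MulAut.mul_apply] at h1
    have h2 : β ⟨c, hcS⟩ = ⟨c, hcS⟩ := α.injective (h1.trans (hα2 ⟨c, hcS⟩ hc).symm)
    have hc' : (⟨c, hcS⟩ : S) = ⟨r, hrS⟩ * ⟨e, heS⟩ := Subtype.ext hre
    rw [hc', map_mul, hβ1 ⟨r, hrS⟩ hr, hβ2 ⟨e, heS⟩ he, mul_left_inj, inv_eq_iff_mul_eq_one]
      at h2
    have h2' : r ^ 2 = 1 := by rw [pow_two]; exact congrArg Subtype.val h2
    have h3 : r ^ p = 1 := by
      have := pow_card_eq_one' (x := (⟨r, hr⟩ : (⁅S, S⁆ : Subgroup Ω)))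
      rw [d.card_commutator hS hF] at this
      exact congrArg Subtype.val this
    have h4 : orderOf r ∣ Nat.gcd 2 p :=
      Nat.dvd_gcd (orderOf_dvd_of_pow_eq_one h2') (orderOf_dvd_of_pow_eq_one h3)
    rw [((Nat.coprime_primes Nat.prime_two Fact.out).2 (Ne.symm hp)).gcd_eq_one] at h4
    rw [hre, orderOf_eq_one_iff.1 (Nat.eq_one_of_dvd_one h4), one_mul]
    exact he
  exact fun Q σ' g' d' => le_antisymm (key _ _ _ _ _ _ d' d) (key _ _ _ _ _ _ d d')

/-! ### `p = 2` -/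

theorem disp_congr {P Q : Subgroup Ω} [IsMulCommutative P] [IsMulCommutative Q] (e : P ≃* Q)
    (α : MulAut P) (x : P) : disp (MulAut.congr e α) (e x) = e (disp α x) := by
  show MulAut.congr e α (e x) * (e x)⁻¹ = e (α x * x⁻¹)
  rw [congr_apply, map_mul, map_inv]

/-- For `p = 2`: the data of one subgroup, described by an involution outside the centre. -/
theorem Datum.two {P : Subgroup Ω} {σ g : MulAut P} (hS : IsPGroup 2 S) (hF : F.IsSaturated 2)
    (d : Datum F 2 P σ g) :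
    ∃ a ∈ P, a ∉ zS S ∧ a * a = 1 ∧
      (∀ h ∈ F.autGroup P, ∀ c ∈ cFix σ (g * σ * g⁻¹), ∀ hc : c ∈ P,
        (h * σ * h⁻¹) ⟨c, hc⟩ = ⟨c, hc⟩) ∧
      (∀ h ∈ F.autGroup P, ∀ x : P,
        ((h * σ * h⁻¹) x : Ω) * (x : Ω)⁻¹ ∈ ⁅S, S⁆ ⊔ Subgroup.zpowers a) ∧
      (∃ x : P, ((g * σ * g⁻¹) x : Ω) * (x : Ω)⁻¹ = a) ∧
      (∀ x ∈ P, ∃ r ∈ ⁅S, S⁆, ∃ u ∈ Subgroup.zpowers a, ∃ c ∈ cFix σ (g * σ * g⁻¹),
        x = r * u * c) ∧
      ∀ h ∈ F.autGroup P, ∃ m ∈ F.autGroup P, (m * h) * σ = σ * (m * h) ∧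
        ∀ x : P, (m x : Ω) * (x : Ω)⁻¹ ∈ ⁅S, S⁆ ⊔ Subgroup.zpowers a := by
  let _ := d.comm
  have := finite_of_le d.le
  have : Finite (MulAut P) := Finite.of_injective (fun α => (α : P → P)) DFunLike.coe_injective
  obtain ⟨τ, z, z', hτA, hτz, hP, hcf⟩ := d.pair hS hF
  obtain ⟨ht, hzp, hσA, hA, hfix⟩ := d.transvection hS hF
  have hσσ : σ * σ = 1 := by
    have := pow_orderOf_eq_one σ
    rwa [ht.order, pow_two] at this
  have hττ : τ * τ = 1 := by
    have := pow_orderOf_eq_one τ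
    rwa [hP.right.order, pow_two] at this
  have hτeq : τ = g * σ * g⁻¹ := by
    have h1 : (g * σ * g⁻¹) * (g * σ * g⁻¹) = 1 := by
      rw [show g * σ * g⁻¹ * (g * σ * g⁻¹) = g * (σ * σ) * g⁻¹ by group, hσσ]
      group
    rcases eq_one_or_eq_of_sq h1 hτz with h | h
    · have := hP.right.order
      rw [h, orderOf_one] at this
      omega
    · exact h
  have hσz : σ z = z := mem_fixSub.1 hP.disp_left_z
  have hσz' : σ z' = z * z' := by rw [apply_eq_disp σ z', hP.left_apply]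
  have hτz' : τ z' = z' := mem_fixSub.1 hP.disp_right_z'
  have hτz2 : τ z = z' * z := by rw [apply_eq_disp τ z, hP.right_apply]
  have hz2 : z * z = 1 := by rw [← pow_two]; exact hP.z_pow
  have hz'2 : z' * z' = 1 := by rw [← pow_two]; exact hP.z'_pow
  have hστ : σ ≠ τ := fun h => hP.z'_ne (by rw [← hP.right_apply, ← h, hP.disp_left_z])
  have hμ : τ * σ * τ = σ * τ * σ := by
    refine hP.third (hS.to_le d.le) hA hσA hτA (mul_mem (mul_mem hτA hσA) hτA) ?_ ?_ ?_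
    · have h := ht.conj τ
      rwa [inv_eq_of_mul_eq_one_right hττ] at h
    · intro h
      have h2 : (τ * σ * τ) z' = σ z' := by rw [h]
      rw [MulAut.mul_apply, MulAut.mul_apply, hτz', hσz', map_mul, hτz2, hτz',
        mul_comm z' z, mul_assoc] at h2
      exact hP.z'_ne (mul_eq_right.1 (mul_left_cancel h2))
    · intro h
      refine hστ ?_
      have h2 : τ * (τ * σ * τ) * τ = τ * τ * τ := by rw [h]
      rwa [show τ * (τ * σ * τ) * τ = (τ * τ) * σ * (τ * τ) by group, hττ, one_mul, mul_one,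
        one_mul] at h2
  have hconj : ∀ h ∈ F.autGroup P, h * σ * h⁻¹ = σ ∨ h * σ * h⁻¹ = τ ∨
      h * σ * h⁻¹ = σ * τ * σ := by
    intro h hh
    by_cases h1 : h * σ * h⁻¹ = σ
    · exact Or.inl h1
    by_cases h2 : h * σ * h⁻¹ = τ
    · exact Or.inr (Or.inl h2)
    exact Or.inr (Or.inr (hP.third (hS.to_le d.le) hA hσA hτA
      (mul_mem (mul_mem hh hσA) (inv_mem hh)) (ht.conj h) h1 h2))
  set V : Subgroup P := Subgroup.zpowers z ⊔ Subgroup.zpowers z'
  have hVmap : V.map P.subtype ≤ ⁅S, S⁆ ⊔ Subgroup.zpowers (z' : Ω) := by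
    rw [Subgroup.map_sup, MonoidHom.map_zpowers, MonoidHom.map_zpowers, d.commutator_eq hS hF,
      hP.z_range, MonoidHom.map_zpowers]
    rfl
  have hdσ : ∀ x, σ x * x⁻¹ ∈ V := fun x => by
    have : σ x * x⁻¹ ∈ Subgroup.zpowers z := hP.z_range ▸ ⟨x, rfl⟩
    exact Subgroup.mem_sup_left this
  have hdτ : ∀ x, τ x * x⁻¹ ∈ V := fun x => by
    have : τ x * x⁻¹ ∈ Subgroup.zpowers z' := hP.z'_range ▸ ⟨x, rfl⟩
    exact Subgroup.mem_sup_right this
  have hdmul : ∀ α β : MulAut P, (∀ x, α x * x⁻¹ ∈ V) → (∀ x, β x * x⁻¹ ∈ V) →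
      ∀ x, (α * β) x * x⁻¹ ∈ V := fun α β hα hβ x => by
    have h1 := mul_mem (hα (β x)) (hβ x)
    rwa [← mul_assoc, inv_mul_cancel_right] at h1
  refine ⟨(z' : Ω), z'.2, fun h => ?_, congrArg Subtype.val hz'2, ?_, ?_, ?_, ?_, ?_⟩
  · have h1 := (hfix z').2 h
    rw [hσz'] at h1
    exact hP.z_ne (mul_eq_right.1 h1)
  · intro h hh c hc hcP
    rw [hcf] at hc
    obtain ⟨w, hw, hwe⟩ := hc
    obtain rfl : w = ⟨c, hcP⟩ := Subtype.ext hwe
    have h1 := mem_fixSub.1 (Subgroup.mem_inf.1 hw).1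
    have h2 := mem_fixSub.1 (Subgroup.mem_inf.1 hw).2
    rcases hconj h hh with h3 | h3 | h3 <;> rw [h3]
    · exact h1
    · exact h2
    · rw [MulAut.mul_apply, MulAut.mul_apply, h1, h2, h1]
  · intro h hh x
    refine hVmap ⟨(h * σ * h⁻¹) x * x⁻¹, ?_, rfl⟩
    rcases hconj h hh with h3 | h3 | h3 <;> rw [h3]
    · exact hdσ x
    · exact hdτ x
    · exact hdmul _ _ (hdmul _ _ hdσ hdτ) hdσ x
  · obtain ⟨x, hx⟩ : z' ∈ (disp τ).range := hP.z'_range ▸ Subgroup.mem_zpowers z'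
    exact ⟨x, congrArg Subtype.val (hτeq ▸ hx : disp (g * σ * g⁻¹) x = z')⟩
  · intro x hx
    obtain ⟨a, b, c, hc, he, -, -⟩ := hP.decomp ⟨x, hx⟩
    refine ⟨((z ^ a : P) : Ω), ?_, ((z' ^ b : P) : Ω), ⟨b, (SubgroupClass.coe_zpow z' b).symm⟩,
      c, hcf ▸ Subgroup.mem_map_of_mem _ hc, congrArg Subtype.val he⟩
    rw [d.commutator_eq hS hF, hP.z_range]
    exact Subgroup.mem_map_of_mem _ (zpow_mem (Subgroup.mem_zpowers z) a)
  · intro h hh
    rcases hconj h hh with h3 | h3 | h3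
    · refine ⟨1, one_mem _, ?_, fun x => ?_⟩
      · rw [one_mul]
        exact mul_inv_eq_iff_eq_mul.1 h3
      · rw [MulAut.one_apply, mul_inv_cancel]
        exact one_mem _
    · refine ⟨τ * σ, mul_mem hτA hσA, ?_,
        fun x => hVmap ⟨(τ * σ) x * x⁻¹, hdmul _ _ hdτ hdσ x, rfl⟩⟩
      rw [mul_assoc, mul_inv_eq_iff_eq_mul.1 h3, show τ * σ * (τ * h) = (τ * σ * τ) * h by group,
        hμ]
      group
    · refine ⟨τ, hτA, ?_, fun x => hVmap ⟨τ x * x⁻¹, hdτ x, rfl⟩⟩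
      rw [mul_assoc, mul_inv_eq_iff_eq_mul.1 h3, ← hμ,
        show τ * (τ * σ * τ * h) = (τ * τ) * σ * τ * h by group, hττ, one_mul, mul_assoc]

theorem Datum.sigma_eq {P : Subgroup Ω} {σ g σ' g' : MulAut P} (hS : IsPGroup 2 S)
    (hF : F.IsSaturated 2) (d : Datum F 2 P σ g) (d' : Datum F 2 P σ' g') : σ' = σ := by
  let _ := d.comm
  obtain ⟨ht, hzp, -, -, -⟩ := d.transvection hS hF
  obtain ⟨y, hy, hyP, hv⟩ := d'.conj
  have h1 : σ' ∈ Subgroup.zpowers σ := hzp ▸ Subgroup.subset_closure ⟨y, hy, hv⟩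
  have h2 : σ * σ = 1 := by
    have := pow_orderOf_eq_one σ
    rwa [ht.order, pow_two] at this
  rcases eq_one_or_eq_of_sq h2 h1 with h | h
  · exact absurd (by rw [h]; simp) d'.ne
  · exact h

theorem Datum.cFix_le_cFix {P : Subgroup Ω} {σ g σ' g' : MulAut P} (hS : IsPGroup 2 S)
    (hF : F.IsSaturated 2) (d : Datum F 2 P σ g) (d' : Datum F 2 P σ' g') :
    cFix σ (g * σ * g⁻¹) ≤ cFix σ' (g' * σ' * g'⁻¹) := by
  obtain ⟨a, -, -, -, hfix, -⟩ := d.two hS hF
  obtain rfl := d.sigma_eq hS hF d'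
  intro c hc
  obtain ⟨hcP, h1, -⟩ := mem_cFix.1 hc
  exact mem_cFix.2 ⟨hcP, h1, hfix g' d'.mem c hc hcP⟩

theorem hasCommonFix_two {P : Subgroup Ω} {σ g : MulAut P} (hS : IsPGroup 2 S)
    (hF : F.IsSaturated 2) (hidx : (Subgroup.center S).index = 2 ^ 2) (hcore : F.core = ⊥)
    (hfocal : F.focalSubgroup = S) (d₁ : Datum F 2 P σ g) :
    HasCommonFix F 2 (cFix σ (g * σ * g⁻¹)) := by
  obtain ⟨P₂, σ₂, g₂, d₂, hne⟩ := exists_two_data hS hF hidx hcore d₁
  obtain ⟨a, haP, haz, ha2, hfix₁, hdisp₁, hax, hdec₁, hmove₁⟩ := d₁.two hS hF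
  obtain ⟨b, hbP, hbz, hb2, hfix₂, hdisp₂, hbx, hdec₂, hmove₂⟩ := d₂.two hS hF
  set R : Subgroup Ω := ⁅S, S⁆ with hR
  set C₁ := cFix σ (g * σ * g⁻¹) with hC₁
  set C₂ := cFix σ₂ (g₂ * σ₂ * g₂⁻¹) with hC₂
  have hRz : R ≤ zS S := d₁.commutator_le_zS hS hF
  have hR2 : ∀ r ∈ R, r * r = 1 := fun r hr => by
    have := pow_card_eq_one' (x := (⟨r, hr⟩ : R))
    rw [show Nat.card R = 2 from d₁.card_commutator hS hF, pow_two] at this
    exact congrArg Subtype.val this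
  have hsupa : zS S ⊔ Subgroup.zpowers a = P := sup_zpowers_eq d₁.zle d₁.zindex haP haz
  have hsupb : zS S ⊔ Subgroup.zpowers b = P₂ := sup_zpowers_eq d₂.zle d₂.zindex hbP hbz
  have hbP₁ : b ∉ P := fun h => hne (le_antisymm
    (hsupb ▸ sup_le d₁.zle (Subgroup.zpowers_le.2 h)) ((by
      rw [← sup_zpowers_eq d₁.zle d₁.zindex h hbz]
      exact sup_le d₂.zle (Subgroup.zpowers_le.2 hbP)) : P ≤ P₂))
  have hab : (a * b) * (a * b) ≠ 1 := by
    intro h
    have hcomm : a * b = b * a := by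
      rw [← inv_eq_of_mul_eq_one_right h, mul_inv_rev, inv_eq_of_mul_eq_one_right hb2,
        inv_eq_of_mul_eq_one_right ha2]
    refine hbP₁ (d₁.centralizer_le hS (mem_centralizerIn.2 ⟨d₂.le hbP, fun w hw => ?_⟩))
    have hle : P ≤ Subgroup.centralizer ({b} : Set Ω) := by
      rw [← hsupa]
      refine sup_le (fun u hu => ?_) (Subgroup.zpowers_le.2 ?_) <;>
        rw [Subgroup.mem_centralizer_iff] <;> (intro h' hh'; rw [Set.mem_singleton_iff.1 hh'])
      · exact (mem_zS.1 hu).2 b (d₂.le hbP)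
      · exact hcomm.symm
    exact (Subgroup.mem_centralizer_iff.1 (hle hw) b rfl).symm
  have habR : (a * b) * (a * b) ∈ R := by
    have h1 := Subgroup.commutator_mem_commutator (d₁.le haP) (d₂.le hbP)
    rwa [commutatorElement_def, inv_eq_of_mul_eq_one_right hb2, inv_eq_of_mul_eq_one_right ha2,
      mul_assoc] at h1
  have hPnorm : Subgroup.zpowers b ≤ Subgroup.normalizer (P : Set Ω) :=
    Subgroup.zpowers_le.2
      ((normalizerIn_eq_of_relIndex hS d₁.le d₁.index).symm ▸ d₂.le hbP : b ∈ normalizerIn S P).2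
  have hsupS : ∀ s ∈ S, ∃ u ∈ P, s = u ∨ s = u * b := by
    intro s hs
    rw [← sup_zpowers_eq d₁.le d₁.index (d₂.le hbP) hbP₁, ← SetLike.mem_coe,
      Subgroup.coe_mul_of_right_le_normalizer_left _ _ hPnorm] at hs
    obtain ⟨u, hu, v, hv, rfl⟩ := hs
    rcases eq_one_or_eq_of_sq hb2 hv with rfl | rfl
    · exact ⟨u, hu, Or.inl (mul_one u)⟩
    · exact ⟨u, hu, Or.inr rfl⟩
  have honly : ∀ (Q : Subgroup Ω) (σ' g' : MulAut Q), Datum F 2 Q σ' g' → Q = P ∨ Q = P₂ := by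
    intro Q σ' g' d'
    by_contra hQ
    push Not at hQ
    obtain ⟨c, hcQ, hcz, hc2, -⟩ := d'.two hS hF
    have hnot : ∀ T : Subgroup Ω, zS S ≤ T → (zS S).relIndex T = 2 → Q ≠ T → c ∉ T := by
      intro T hzT hiT hQT hcT
      exact hQT ((sup_zpowers_eq d'.zle d'.zindex hcQ hcz).symm.trans
        (sup_zpowers_eq hzT hiT hcT hcz))
    obtain ⟨u, hu, h | h⟩ := hsupS c (d'.le hcQ)
    · exact hnot P d₁.zle d₁.zindex hQ.1 (h ▸ hu)
    obtain ⟨r, hr, w, hw, e, he, hrwe⟩ := hdec₁ u hu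
    have heZ : e ∈ zS S := d₁.cFix_le hS hF _ he
    rcases eq_one_or_eq_of_sq ha2 hw with rfl | rfl
    · refine hnot P₂ d₂.zle d₂.zindex hQ.2 ?_
      rw [h, hrwe, mul_one]
      exact mul_mem (d₂.zle (mul_mem (hRz hr) heZ)) hbP
    · have hk : (r * w * e * b) * (r * w * e * b) = 1 := by rw [← hrwe, ← h]; exact hc2
      have hcr : ∀ s ∈ S, s * r = r * s := (mem_zS.1 (hRz hr)).2
      have hce : ∀ s ∈ S, s * e = e * s := (mem_zS.1 heZ).2
      have haS := d₁.le haP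
      have hbS := d₂.le hbP
      have hre : r * w * e * b = (r * e) * (w * b) := by
        rw [mul_assoc r w e, hce w haS, ← mul_assoc r e w, mul_assoc (r * e) w b]
      have hwb : (w * b) * (r * e) = (r * e) * (w * b) := by
        rw [← mul_assoc, hcr _ (S.mul_mem haS hbS), mul_assoc, hce _ (S.mul_mem haS hbS),
          ← mul_assoc]
      rw [hre, (show Commute (w * b) (r * e) from hwb).mul_mul_mul_comm,
        (show Commute e r from (hcr e (zS_le heZ))).mul_mul_mul_comm, hR2 r hr, one_mul] at hk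
      have he2 : (w * b) * (w * b) ∈ C₁ := by
        rw [eq_inv_of_mul_eq_one_right hk]
        exact inv_mem (mul_mem he he)
      exact hab (d₁.commutator_inter hS hF habR he2)
  obtain ⟨K, hKA, hK, hA⟩ := exists_complement hS hF
  have hKstab : ∀ k ∈ K, ∀ (Q : Subgroup Ω) (σ' g' : MulAut Q) (d' : Datum F 2 Q σ' g'),
      ∀ x : S, (x : Ω) ∈ Q → ((k x : S) : Ω) ∈ Q := by
    intro k hk Q σ' g' d' x hx
    have := finite_of_le (zS_le (S := S))
    have hodd : Odd (orderOf k) :=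
      Nat.coprime_two_right.1 (hK.coprime_dvd_left (Subgroup.orderOf_dvd_natCard K hk))
    by_contra hnot
    have hmove : ∀ (T : Subgroup Ω) (σ'' g'' : MulAut T), Datum F 2 T σ'' g'' →
        ∀ j : MulAut S, j ∈ F.autGroup S → ∃ T', (T' = P ∨ T' = P₂) ∧
          ∀ w : S, (w : Ω) ∈ T ↔ ((j w : S) : Ω) ∈ T' := by
      intro T σ'' g'' d'' j hj
      obtain ⟨T', e, -, hev, dT⟩ := d''.transport hj
      refine ⟨T', honly _ _ _ dT, fun w => ⟨fun hw => ?_, fun hw => ?_⟩⟩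
      · have := (e ⟨w, hw⟩).2
        rwa [hev] at this
      · obtain ⟨v, hv⟩ := e.surjective ⟨_, hw⟩
        have h1 := congrArg Subtype.val hv
        rw [hev] at h1
        rw [← j.injective (Subtype.ext h1 : j ⟨v, d''.le v.2⟩ = j w)]
        exact v.2
    obtain ⟨Q', hQ', hiff⟩ := hmove Q σ' g' d' k (hKA hk)
    have hQ'ne : Q' ≠ Q := fun h => hnot (h ▸ (hiff x).1 hx)
    have hswap : ∀ w : S, (w : Ω) ∈ Q' ↔ ((k w : S) : Ω) ∈ Q := by
      intro w
      obtain ⟨σ'', g'', d''⟩ : ∃ σ'' g'', Datum F 2 Q' σ'' g'' := by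
        rcases hQ' with rfl | rfl
        · exact ⟨_, _, d₁⟩
        · exact ⟨_, _, d₂⟩
      obtain ⟨Q'', hQ'', hiff'⟩ := hmove Q' σ'' g'' d'' k (hKA hk)
      by_cases hQQ : Q'' = Q
      · exact hQQ ▸ hiff' w
      exfalso
      have hQQ' : Q'' = Q' := by
        rcases honly _ _ _ d' with rfl | rfl <;> rcases hQ' with rfl | rfl <;>
          rcases hQ'' with rfl | rfl <;> first | rfl | exact absurd rfl hQQ | exact absurd rfl hQ'ne
      subst hQQ'
      have hle : Q ≤ Q'' := fun v hv => by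
        have h1 := (hiff ⟨v, d'.le hv⟩).1 hv
        exact (hiff' ⟨v, d'.le hv⟩).2 h1
      have hge : Q'' ≤ Q := fun v hv => by
        have h1 := (hiff' ⟨v, d''.le hv⟩).1 hv
        exact (hiff ⟨v, d''.le hv⟩).2 h1
      exact hQ'ne (le_antisymm hge hle)
    have hiter : ∀ (n : ℕ) (w : S), (w : Ω) ∈ Q →
        ((Even n → (((k ^ n) w : S) : Ω) ∈ Q) ∧ (Odd n → (((k ^ n) w : S) : Ω) ∈ Q')) := by
      intro n
      induction n with
      | zero => exact fun w hw => ⟨fun _ => hw, fun h => absurd h (by simp)⟩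
      | succ n ih =>
        intro w hw
        rw [pow_succ', MulAut.mul_apply]
        refine ⟨fun h => ?_, fun h => ?_⟩
        · exact (hswap _).1 ((ih w hw).2 (Nat.not_even_iff_odd.1 (fun he => by
            rw [Nat.even_add_one] at h
            exact h he)))
        · exact (hiff _).1 ((ih w hw).1 (by
            rw [Nat.odd_add_one, Nat.not_odd_iff_even] at h
            exact h))
    have hsub : Q ≤ Q' := fun v hv => by
      have h1 := (hiter (orderOf k) ⟨v, d'.le hv⟩ hv).2 hodd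
      rw [pow_orderOf_eq_one] at h1
      exact h1
    exact hnot (by
      have h1 := (hswap x).1 (hsub hx)
      exact h1)
  have hKR : ∀ k ∈ K, ∀ x : S, (x : Ω) ∈ R → k x = x := by
    intro k hk x hx
    have h1 : ((k x : S) : Ω) ∈ R := by
      have h2 : R.subgroupOf S = commutator S := by
        apply Subgroup.map_injective S.subtype_injective
        rw [Subgroup.map_subgroupOf_eq_of_le (hRz.trans zS_le), commutator_def,
          Subgroup.map_commutator, ← MonoidHom.range_eq_map, Subgroup.range_subtype]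
      exact h2.ge ((Subgroup.Characteristic.fixed (H := commutator S) inferInstance k).ge (h2.le hx))
    have : Fact (Nat.card R).Prime := ⟨by rw [hR, d₁.card_commutator hS hF]; exact Nat.prime_two⟩
    by_cases hx1 : x = 1
    · rw [hx1, map_one]
    have hx2 : (x : Ω) * x = 1 := hR2 x hx
    have hgen : (⟨(k x : S), h1⟩ : R) ∈ Subgroup.zpowers (⟨x, hx⟩ : R) :=
      mem_zpowers_of_prime_card (d₁.card_commutator hS hF) fun h =>
        hx1 (Subtype.ext (congrArg Subtype.val h :))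
    rcases eq_one_or_eq_of_sq (a := (⟨x, hx⟩ : R)) (Subtype.ext hx2) hgen with h | h
    · exact absurd (k.injective (by
        rw [map_one]
        exact Subtype.ext (congrArg Subtype.val h :))) hx1
    · exact Subtype.ext (congrArg Subtype.val h :)
  -- the invariant subgroups
  have hlocal : ∀ k ∈ K, ∀ (Q : Subgroup Ω) (σ' g' : MulAut Q) (d' : Datum F 2 Q σ' g') (a' : Ω)
      (_ : a' ∈ Q) (_ : ∀ h ∈ F.autGroup Q, ∀ x : Q,
        ((h * σ' * h⁻¹) x : Ω) * (x : Ω)⁻¹ ∈ R ⊔ Subgroup.zpowers a')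
      (_ : ∃ x : Q, ((g' * σ' * g'⁻¹) x : Ω) * (x : Ω)⁻¹ = a'),
      (∀ x : S, (x : Ω) ∈ cFix σ' (g' * σ' * g'⁻¹) →
        ((k x : S) : Ω) ∈ cFix σ' (g' * σ' * g'⁻¹)) ∧
      ∀ x : S, (x : Ω) = a' → ((k x : S) : Ω) ∈ R ⊔ Subgroup.zpowers a' := by
    intro k hk Q σ' g' d' a' ha' hdisp hex
    obtain ⟨Q', e, he, hev, de⟩ := d'.transport (hKA hk)
    have hQ' : Q' = Q := by
      refine le_antisymm (fun v hv => ?_) fun v hv => ?_
      · obtain ⟨u, hu⟩ := e.surjective ⟨v, hv⟩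
        have h1 := congrArg Subtype.val hu
        rw [hev] at h1
        rw [show v = _ from h1.symm]
        exact hKstab k hk Q σ' g' d' ⟨u, d'.le u.2⟩ u.2
      · have hb' : ((k⁻¹ ⟨v, d'.le hv⟩ : S) : Ω) ∈ Q :=
          hKstab k⁻¹ (inv_mem hk) Q σ' g' d' ⟨v, d'.le hv⟩ hv
        have h1 := (e ⟨_, hb'⟩).2
        rw [hev] at h1
        simpa using h1
    subst hQ'
    refine ⟨fun x hx => ?_, fun x hxa => ?_⟩
    · obtain ⟨hxQ, -⟩ := mem_cFix.1 hx
      have h1 := (mem_cFix_congr e ⟨x, hxQ⟩).2 hx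
      rw [map_mul, map_mul, map_inv, hev] at h1
      exact de.cFix_le_cFix hS hF d' h1
    · let _ := d'.comm
      obtain ⟨w, hw⟩ := hex
      have hs := d'.sigma_eq hS hF de
      have h1 := hdisp (MulAut.congr e g') de.mem (e w)
      rw [show MulAut.congr e g' * σ' * (MulAut.congr e g')⁻¹ = MulAut.congr e (g' * σ' * g'⁻¹) by
        rw [map_mul, map_mul, map_inv, hs], congr_apply, ← Subgroup.coe_inv, ← Subgroup.coe_mul,
        ← map_inv, ← map_mul, hev] at h1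
      rwa [show x = ⟨_, d'.le ((g' * σ' * g'⁻¹) w * w⁻¹).2⟩ from Subtype.ext (hxa.trans hw.symm)]
  set T : Subgroup Ω := R ⊔ Subgroup.zpowers a ⊔ Subgroup.zpowers b ⊔ (C₁ ⊓ C₂) with hT
  have hC₁z : C₁ ≤ zS S := d₁.cFix_le hS hF _
  have hRT : R ≤ T := le_sup_left.trans (le_sup_left.trans le_sup_left)
  have haT : R ⊔ Subgroup.zpowers a ≤ T := le_sup_left.trans le_sup_left
  have hbT : R ⊔ Subgroup.zpowers b ≤ T :=
    sup_le hRT (le_sup_right.trans le_sup_left)
  have hTS : T ≤ S := sup_le (sup_le (sup_le (hRz.trans zS_le)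
    (Subgroup.zpowers_le.2 (d₁.le haP))) (Subgroup.zpowers_le.2 (d₂.le hbP)))
    (inf_le_left.trans (hC₁z.trans zS_le))
  have hcommT : ∀ s ∈ S, ∀ x ∈ S, x⁻¹ * (s * x * s⁻¹) ∈ T := fun s hs x hx => by
    have h1 := hRT (Subgroup.commutator_mem_commutator (inv_mem hx) hs)
    rwa [commutatorElement_def, inv_inv, mul_assoc, mul_assoc, ← mul_assoc s] at h1
  have hTn : ∀ s ∈ S, ∀ x ∈ T, s⁻¹ * x * s ∈ T := fun s hs x hx => by
    have h1 := mul_mem hx (hcommT s⁻¹ (inv_mem hs) x (hTS hx))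
    rwa [mul_inv_cancel_left, inv_inv] at h1
  have hKT : ∀ k ∈ K, ∀ x : S, (x : Ω)⁻¹ * (k x : S) ∈ T := by
    intro k hk
    let M : Subgroup S :=
      { carrier := {x | (x : Ω)⁻¹ * (k x : S) ∈ T}
        one_mem' := by show ((1 : S) : Ω)⁻¹ * (k 1 : S) ∈ T; rw [map_one]; simp
        mul_mem' := fun {x y} hx hy => by
          show ((x * y : S) : Ω)⁻¹ * (k (x * y) : S) ∈ T
          have h1 := mul_mem (hTn y y.2 _ hx) hy
          rw [map_mul, Subgroup.coe_mul, Subgroup.coe_mul, mul_inv_rev]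
          simpa [mul_assoc] using h1
        inv_mem' := fun {x} hx => by
          show ((x⁻¹ : S) : Ω)⁻¹ * (k x⁻¹ : S) ∈ T
          have h1 := hTn x⁻¹ (inv_mem x.2) _ (inv_mem hx)
          rw [map_inv, Subgroup.coe_inv, Subgroup.coe_inv, inv_inv]
          simpa [mul_assoc] using h1 }
    obtain ⟨hka, hkva⟩ := hlocal k hk P σ g d₁ a haP hdisp₁ hax
    obtain ⟨hkb, hkvb⟩ := hlocal k hk P₂ σ₂ g₂ d₂ b hbP hdisp₂ hbx
    have hMR : ∀ r : S, (r : Ω) ∈ R → r ∈ M := fun r hr => by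
      show (r : Ω)⁻¹ * (k r : S) ∈ T
      rw [hKR k hk r hr, inv_mul_cancel]
      exact one_mem _
    have hMa : (⟨a, d₁.le haP⟩ : S) ∈ M :=
      T.mul_mem (inv_mem (haT (Subgroup.mem_sup_right (Subgroup.mem_zpowers a))))
        (haT (hkva _ rfl))
    have hMb : (⟨b, d₂.le hbP⟩ : S) ∈ M :=
      T.mul_mem (inv_mem (hbT (Subgroup.mem_sup_right (Subgroup.mem_zpowers b))))
        (hbT (hkvb _ rfl))
    have hMC : ∀ c : S, (c : Ω) ∈ C₁ → c ∈ M := fun c hc => by
      show (c : Ω)⁻¹ * (k c : S) ∈ T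
      have h1 : (c : Ω)⁻¹ * (k c : S) ∈ C₁ := mul_mem (inv_mem hc) (hka c hc)
      refine Subgroup.mem_sup_right ⟨h1, ?_⟩
      obtain ⟨r, hr, e, he, hre⟩ := d₂.zS_decomp hS hF (hC₁z hc)
      have hrS : r ∈ S := zS_le (hRz hr)
      have heS : e ∈ S := zS_le (d₂.cFix_le hS hF _ he)
      have hc' : c = ⟨r, hrS⟩ * ⟨e, heS⟩ := Subtype.ext hre
      rw [hc', map_mul, hKR k hk ⟨r, hrS⟩ hr, Subgroup.coe_mul, Subgroup.coe_mul, mul_inv_rev,
        mul_assoc, inv_mul_cancel_left]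
      exact mul_mem (Subgroup.inv_mem _ he) (hkb ⟨e, heS⟩ he)
    intro x
    show x ∈ M
    obtain ⟨u, hu, h⟩ := hsupS x x.2
    have huM : (⟨u, d₁.le hu⟩ : S) ∈ M := by
      obtain ⟨r, hr, w, hw, e, he, hrwe⟩ := hdec₁ u hu
      have hrS : r ∈ S := zS_le (hRz hr)
      have heS : e ∈ S := zS_le (hC₁z he)
      rcases eq_one_or_eq_of_sq ha2 hw with rfl | rfl
      · rw [show (⟨u, d₁.le hu⟩ : S) = ⟨r, hrS⟩ * ⟨e, heS⟩ from
          Subtype.ext (hrwe.trans (by rw [mul_one]; rfl))]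
        exact mul_mem (hMR _ hr) (hMC _ he)
      · rw [show (⟨u, d₁.le hu⟩ : S) = ⟨r, hrS⟩ * ⟨w, d₁.le haP⟩ * ⟨e, heS⟩ from
          Subtype.ext hrwe]
        exact mul_mem (mul_mem (hMR _ hr) hMa) (hMC _ he)
    rcases h with h | h
    · rwa [show x = ⟨u, d₁.le hu⟩ from Subtype.ext h]
    · rw [show x = ⟨u, d₁.le hu⟩ * ⟨b, d₂.le hbP⟩ from Subtype.ext h]
      exact mul_mem huM hMb
  have hST : ∀ α ∈ F.autGroup S, ∀ x : S, (x : Ω)⁻¹ * (α x : S) ∈ T := by
    intro α hα x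
    have := Inn_normal S
    obtain ⟨i, ⟨s, rfl⟩, k, hk, rfl⟩ :=
      Subgroup.mem_sup_of_normal_left.1 (show α ∈ Inn S ⊔ K from hA ▸ hα)
    have h1 := mul_mem (hKT k hk x) (hcommT s s.2 (k x) (k x).2)
    rw [mul_assoc, mul_inv_cancel_left] at h1
    exact h1
  have hPT : ∀ (Q : Subgroup Ω) (σ' g' : MulAut Q) (_ : Datum F 2 Q σ' g') (a' : Ω),
      R ⊔ Subgroup.zpowers a' ≤ T →
      (∀ h ∈ F.autGroup Q, ∃ m ∈ F.autGroup Q, (m * h) * σ' = σ' * (m * h) ∧
        ∀ x : Q, (m x : Ω) * (x : Ω)⁻¹ ∈ R ⊔ Subgroup.zpowers a') →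
      ∀ α ∈ F.autGroup Q, ∀ x : Q, (x : Ω)⁻¹ * (α x : Q) ∈ T := by
    intro Q σ' g' d' a' hle hmove α hα x
    let _ := d'.comm
    obtain ⟨m, hm, hcomm, hdm⟩ := hmove α hα
    obtain ⟨-, hzp, -⟩ := d'.transvection hS hF
    obtain ⟨ψ, hψ, hv⟩ := exists_map_of_commute hS hF
      (isFullyNormalized_of_relIndex hS d'.le d'.index) hzp (mul_mem hm hα) hcomm
    have hN := normalizerIn_eq_of_relIndex hS d'.le d'.index
    have hψ' := restrict_mem hψ hN.ge
    obtain ⟨e, he, hev⟩ := exists_iso hψ' (eq_S_of_isConj ⟨_, hψ', rfl⟩)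
    have h1 := hST e ((mem_autGroup_iff le_rfl).2 he) ⟨x, d'.le x.2⟩
    have h2 : ((e ⟨x, d'.le x.2⟩ : S) : Ω) = ((m (α x) : Q) : Ω) :=
      (hev _).trans (hv x (hN.ge (d'.le x.2)))
    rw [h2] at h1
    have h3 : ((α x : Q) : Ω) * ((m (α x) : Q) : Ω)⁻¹ ∈ T := by
      have := inv_mem (hle (hdm (α x)))
      rwa [mul_inv_rev, inv_inv] at this
    have h4 : (x : Ω)⁻¹ * (m (α x) : Q) * ((m (α x) : Q) : Ω)⁻¹ * (α x : Q) ∈ T := by
      have hc : ((α x : Q) : Ω) * ((m (α x) : Q) : Ω)⁻¹ = ((m (α x) : Q) : Ω)⁻¹ * (α x : Q) :=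
        congrArg Subtype.val (mul_comm (α x) (m (α x))⁻¹)
      rw [mul_assoc, ← hc]
      exact mul_mem h1 h3
    rwa [mul_inv_cancel_right] at h4
  have hfoc : S ≤ T := by
    rw [← hfocal]
    refine focalSubgroup_le_of_aut hS hF hcommT ?_
    rintro Q (rfl | hQ) α hα x
    · exact hST α hα x
    · obtain ⟨σ', g', d'⟩ := exists_datum_of_essential hS hF hidx hQ
      rcases honly _ _ _ d' with rfl | rfl
      · exact hPT _ σ g d₁ a haT hmove₁ α hα x
      · exact hPT _ σ₂ g₂ d₂ b hbT hmove₂ α hα x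
  -- `C₁ ≤ C₂`
  have h12 : ∀ c ∈ C₁, c ∈ C₂ := by
    intro c hc
    have hcT := hfoc (zS_le (hC₁z hc))
    have hE : C₁ ⊓ C₂ ≤ Subgroup.normalizer ((R ⊔ Subgroup.zpowers a ⊔ Subgroup.zpowers b :
        Subgroup Ω) : Set Ω) := by
      intro e he
      rw [Subgroup.mem_normalizer_iff]
      intro w
      have hS' : R ⊔ Subgroup.zpowers a ⊔ Subgroup.zpowers b ≤ S :=
        le_sup_left.trans hTS
      constructor
      · intro hw
        rwa [(mem_zS.1 (hC₁z he.1)).2 w (hS' hw) |>.symm, mul_inv_cancel_right]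
      · intro hw
        have hwS : w ∈ S := by
          have := S.mul_mem (S.mul_mem (S.inv_mem (zS_le (hC₁z he.1))) (hS' hw))
            (zS_le (hC₁z he.1))
          simpa [mul_assoc] using this
        rwa [← (mem_zS.1 (hC₁z he.1)).2 w hwS, mul_inv_cancel_right] at hw
    rw [hT, ← SetLike.mem_coe, Subgroup.coe_mul_of_right_le_normalizer_left _ _ hE] at hcT
    obtain ⟨v, hv, e, he, hve⟩ := hcT
    have hRa : Subgroup.zpowers b ≤
        Subgroup.normalizer ((R ⊔ Subgroup.zpowers a : Subgroup Ω) : Set Ω) := by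
      have hS' : R ⊔ Subgroup.zpowers a ≤ S := le_sup_left.trans (le_sup_left.trans hTS)
      rw [Subgroup.zpowers_le, Subgroup.mem_normalizer_iff]
      have hone : ∀ s ∈ S, ∀ w ∈ R ⊔ Subgroup.zpowers a, s * w * s⁻¹ ∈ R ⊔ Subgroup.zpowers a :=
        fun s hs w hw => by
          have h1 := mul_mem hw (Subgroup.mem_sup_left (T := Subgroup.zpowers a)
            (Subgroup.commutator_mem_commutator (inv_mem (hS' hw)) hs : ⁅w⁻¹, s⁆ ∈ R))
          rwa [commutatorElement_def, inv_inv, mul_assoc w⁻¹, mul_assoc w⁻¹, mul_inv_cancel_left]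
            at h1
      refine fun w => ⟨hone b (d₂.le hbP) w, fun hw => ?_⟩
      have := hone b⁻¹ (inv_mem (d₂.le hbP)) _ hw
      simpa [mul_assoc] using this
    rw [Subgroup.coe_mul_of_right_le_normalizer_left _ _ hRa] at hv
    obtain ⟨u, hu, w, hw, rfl⟩ := hv
    have huP : u ∈ P :=
      (sup_le ((d₁.commutator_le_zS hS hF).trans d₁.zle) (Subgroup.zpowers_le.2 haP)) hu
    have hue : u * w = c * e⁻¹ := by rw [← hve, mul_inv_cancel_right]
    have hce : c * e⁻¹ ∈ C₁ := mul_mem hc (inv_mem he.1)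
    rcases eq_one_or_eq_of_sq hb2 hw with rfl | rfl
    · have hRn : Subgroup.zpowers a ≤ Subgroup.normalizer (R : Set Ω) := by
        rw [Subgroup.zpowers_le, Subgroup.mem_normalizer_iff]
        intro v
        constructor
        · intro hv
          rwa [(mem_zS.1 (hRz hv)).2 a (d₁.le haP), mul_inv_cancel_right]
        · intro hv
          have hc1 : a⁻¹ * (a * v * a⁻¹) * a = a * v * a⁻¹ := by
            rw [(mem_zS.1 (hRz hv)).2 a⁻¹ (inv_mem (d₁.le haP)), mul_assoc, inv_mul_cancel,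
              mul_one]
          have hc2 : a⁻¹ * (a * v * a⁻¹) * a = v := by group
          rwa [hc2.symm.trans hc1]
      rw [Subgroup.coe_mul_of_right_le_normalizer_left _ _ hRn] at hu
      obtain ⟨r, hr, q, hq, rfl⟩ := hu
      simp only [mul_one] at hue
      rcases eq_one_or_eq_of_sq ha2 hq with rfl | rfl
      · rw [mul_one] at hue
        have h1 : r = 1 := d₁.commutator_inter hS hF hr (hue ▸ hce)
        rw [h1, eq_comm, mul_inv_eq_one] at hue
        exact hue ▸ he.2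
      · refine absurd ?_ haz
        have : q = r⁻¹ * (c * e⁻¹) := by rw [← hue, inv_mul_cancel_left]
        rw [this]
        exact mul_mem (inv_mem (hRz hr)) (hC₁z hce)
    · refine absurd ?_ hbP₁
      have : w = u⁻¹ * (c * e⁻¹) := by rw [← hue, inv_mul_cancel_left]
      rw [this]
      exact mul_mem (inv_mem huP) (d₁.zle (hC₁z hce))
  have heq : C₁ = C₂ := by
    refine le_antisymm h12 fun c hc => ?_
    obtain ⟨r, hr, e, he, hre⟩ := d₁.zS_decomp hS hF (d₂.cFix_le hS hF _ hc)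
    have hr2 : r ∈ C₂ := by
      have := mul_mem hc (inv_mem (h12 e he))
      rwa [hre, mul_inv_cancel_right] at this
    rw [hre, d₂.commutator_inter hS hF hr hr2, one_mul]
    exact he
  intro Q σ' g' d'
  rcases honly _ _ _ d' with rfl | rfl
  · exact le_antisymm (d'.cFix_le_cFix hS hF d₁) (d₁.cFix_le_cFix hS hF d')
  · exact (le_antisymm (d'.cFix_le_cFix hS hF d₂) (d₂.cFix_le_cFix hS hF d')).trans heq.symm

/-- The structure once the common fixed subgroup is trivial. -/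
theorem card_eq_cube (hS : IsPGroup p S) (hF : F.IsSaturated p)
    (hidx : (Subgroup.center S).index = p ^ 2) {P : Subgroup Ω} {σ g : MulAut P}
    (d : Datum F p P σ g) (hC : cFix σ (g * σ * g⁻¹) = ⊥) :
    Nat.card S = p ^ 3 ∧ Nat.card (Subgroup.center S) = p := by
  have h1 : zS S = ⁅S, S⁆ := by
    refine le_antisymm (fun x hx => ?_) (d.commutator_le_zS hS hF)
    obtain ⟨r, hr, c, hc, rfl⟩ := d.zS_decomp hS hF hx
    rw [hC, Subgroup.mem_bot] at hc
    rwa [hc, mul_one]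
  have h2 : Nat.card (Subgroup.center S) = p := by
    rw [← d.card_commutator hS hF, ← h1, zS, Subgroup.card_map_of_injective S.subtype_injective]
  refine ⟨?_, h2⟩
  rw [← (Subgroup.center S).card_mul_index, h2, hidx, ← pow_succ']

/-- For odd `p` the group has exponent `p`. -/
theorem pow_eq_one_of_data (hp : p ≠ 2) (hS : IsPGroup p S) (hF : F.IsSaturated p)
    (hidx : (Subgroup.center S).index = p ^ 2) (hcore : F.core = ⊥) {P : Subgroup Ω}
    {σ g : MulAut P} (d : Datum F p P σ g) (hC : HasCommonFix F p ⊥) : ∀ x : S, x ^ p = 1 := by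
  obtain ⟨Q, σ', g', d', hne⟩ := exists_two_data hS hF hidx hcore d
  obtain ⟨hcard, hZ⟩ := card_eq_cube hS hF hidx d (hC P σ g d)
  have hRz := d.commutator_le_zS hS hF
  have hc : ∀ x y : S, ⁅x, y⁆ ∈ Subgroup.center S := fun x y => by
    obtain ⟨w, hw, hwe⟩ := hRz (Subgroup.commutator_mem_commutator x.2 y.2)
    obtain rfl : w = ⁅x, y⁆ := Subtype.ext hwe
    exact hw
  have he : ∀ x y : S, ⁅x, y⁆ ^ p = 1 := fun x y => by
    have := pow_card_eq_one' (x := (⟨⁅x, y⁆, hc x y⟩ : Subgroup.center S))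
    rw [hZ] at this
    exact congrArg Subtype.val this
  let f := CfsgLib.FusionEssential.pPowHom hp hc he
  obtain ⟨b, hb, hbP⟩ : ∃ b ∈ Q, b ∉ P := by
    by_contra h
    push Not at h
    obtain ⟨y, hy, hyQ⟩ : ∃ y ∈ P, y ∉ Q := by
      by_contra h'
      push Not at h'
      exact hne (le_antisymm h h')
    have h3 : Q ⊔ Subgroup.zpowers y ≤ P := sup_le h (Subgroup.zpowers_le.2 hy)
    rw [sup_zpowers_eq d'.le d'.index (d.le hy) hyQ] at h3
    have h4 := d.index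
    rw [Subgroup.relIndex_eq_one.2 h3] at h4
    exact (Fact.out : p.Prime).one_lt.ne h4
  have htop : P ⊔ Subgroup.zpowers b = S := sup_zpowers_eq d.le d.index (d'.le hb) hbP
  have hker : S ≤ f.ker.map S.subtype := by
    refine htop.ge.trans (sup_le (fun x hx => ?_) (Subgroup.zpowers_le.2 ?_))
    · exact ⟨⟨x, d.le hx⟩, Subtype.ext (d.pow_eq_one hS hF (hC P σ g d) hx), rfl⟩
    · exact ⟨⟨b, d'.le hb⟩, Subtype.ext (d'.pow_eq_one hS hF (hC Q σ' g' d') hb), rfl⟩
  intro x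
  obtain ⟨w, hw, hwe⟩ := hker x.2
  obtain rfl : w = x := Subtype.ext hwe
  exact hw

/-- For `p = 2` the group is dihedral of order `8`. -/
theorem dihedral_of_two {P : Subgroup Ω} {σ g : MulAut P} (hS : IsPGroup 2 S)
    (hF : F.IsSaturated 2) (hidx : (Subgroup.center S).index = 2 ^ 2) (hcore : F.core = ⊥)
    (d : Datum F 2 P σ g) (hC : HasCommonFix F 2 ⊥) : Nonempty (S ≃* DihedralGroup 4) := by
  obtain ⟨Q, σ', g', d', hne⟩ := exists_two_data hS hF hidx hcore d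
  obtain ⟨hcard, hZ⟩ := card_eq_cube hS hF hidx d (hC P σ g d)
  obtain ⟨a, haP, haz, ha2, -⟩ := d.two hS hF
  obtain ⟨b, hbQ, hbz, hb2, -⟩ := d'.two hS hF
  have hbP : b ∉ P := fun h => hne ((sup_zpowers_eq d'.zle d'.zindex hbQ hbz).symm.trans
    (sup_zpowers_eq d.zle d.zindex h hbz))
  have haS := d.le haP
  have hbS := d'.le hbQ
  let a' : S := ⟨a, haS⟩
  let b' : S := ⟨b, hbS⟩
  have ha' : orderOf a' = 2 := orderOf_eq_prime (by rw [pow_two]; exact Subtype.ext ha2)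
    fun h => haz (by rw [show a = 1 from congrArg Subtype.val h]; exact one_mem _)
  have hb' : orderOf b' = 2 := orderOf_eq_prime (by rw [pow_two]; exact Subtype.ext hb2)
    fun h => hbz (by rw [show b = 1 from congrArg Subtype.val h]; exact one_mem _)
  have hab : a' ≠ b' := fun h => hbP (by
    rw [← show a = b from congrArg Subtype.val h]; exact haP)
  have hne1 : ¬ (a' * b') ^ 2 = 1 := by
    intro h
    refine hbP (d.centralizer_le hS (mem_centralizerIn.2 ⟨hbS, fun w hw => ?_⟩))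
    have hcomm : a * b = b * a := by
      have h2 : (a * b) * (a * b) = 1 := by rw [← pow_two]; exact congrArg Subtype.val h
      rw [← inv_eq_of_mul_eq_one_right h2, mul_inv_rev, inv_eq_of_mul_eq_one_right hb2,
        inv_eq_of_mul_eq_one_right ha2]
    have hle : P ≤ Subgroup.centralizer ({b} : Set Ω) := by
      rw [← sup_zpowers_eq d.zle d.zindex haP haz]
      refine sup_le (fun u hu => ?_) (Subgroup.zpowers_le.2 ?_) <;>
        rw [Subgroup.mem_centralizer_iff] <;> (intro h' hh'; rw [Set.mem_singleton_iff.1 hh'])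
      · exact (mem_zS.1 hu).2 b hbS
      · exact hcomm.symm
    exact (Subgroup.mem_centralizer_iff.1 (hle hw) b rfl).symm
  have h4 : (a' * b') ^ 4 = 1 := by
    have hc : (a' * b') ^ 2 ∈ Subgroup.center S := by
      obtain ⟨w, hw, hwe⟩ := (d.commutator_le_zS hS hF)
        (Subgroup.commutator_mem_commutator haS hbS)
      have : w = (a' * b') ^ 2 := Subtype.ext (hwe.trans (by
        rw [commutatorElement_def, inv_eq_of_mul_eq_one_right hb2,
          inv_eq_of_mul_eq_one_right ha2, pow_two, mul_assoc]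
        rfl))
      exact this ▸ hw
    have h5 := pow_card_eq_one' (x := (⟨_, hc⟩ : Subgroup.center S))
    rw [hZ] at h5
    have h6 : ((a' * b') ^ 2) ^ 2 = 1 := congrArg Subtype.val h5
    rwa [← pow_mul] at h6
  have hord : orderOf (a' * b') = 2 ^ (1 + 1) :=
    orderOf_eq_prime_pow (by rwa [pow_one]) (by simpa using h4)
  have hcl := CfsgLib.Small.card_closure_pair_invol ha' hb' hab
  rw [hord] at hcl
  have htop : Subgroup.closure ({a', b'} : Set S) = ⊤ :=
    Subgroup.eq_top_of_card_eq _ (by rw [hcl, hcard]; norm_num)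
  have e := CfsgLib.Small.closurePairEquivDihedral ha' hb' hab
  rw [hord] at e
  exact ⟨((MulEquiv.subgroupCongr htop).trans Subgroup.topEquiv).symm.trans e⟩

end CfsgLib.FusionClosed
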