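import Cfsg.Agent.FusionClosed.AbelianIndexEssential
import Cfsg.Agent.FusionClosed.CentreIndex

/-!
# Core-free systems over `S` with a unique abelian subgroup of index `p` that is not essential

`AIdx.core_free`: some abelian essential subgroup exists and `Z(S) ≤ [S, S]` (`p` odd).
-/

set_option autoImplicit false

namespace CfsgLib.FusionClosed

open Cfsg Cfsg.FusionSystem CfsgLib.Fusion
open scoped commutatorElement

attribute [local instance] commGroupOf

variable {Ω : Type*} [Group Ω] {S A P : Subgroup Ω} {F : FusionSystem S} {p : ℕ}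
variable [Finite S] [Fact p.Prime]

/-- An involutory automorphism `-1` on `Z(S) ∩ [S, S]` and trivial modulo it. -/
structure IsNeg (F : FusionSystem S) (β : MulAut (zS S)) : Prop where
  mem : β ∈ F.autGroup (zS S)
  inv : ∀ x : zS S, (x : Ω) ∈ ⁅S, S⁆ → β x = x⁻¹
  mod : ∀ x : zS S, ((β x * x⁻¹ : zS S) : Ω) ∈ ⁅S, S⁆

theorem normalizerIn_zS : normalizerIn S (zS S) = S := by
  refine le_antisymm (normalizerIn_le S _) fun s hs => ⟨hs, ?_⟩
  show s ∈ Subgroup.normalizer ((zS S : Subgroup Ω) : Set Ω)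
  rw [Subgroup.mem_normalizer_iff]
  refine fun x => ⟨fun hx => ?_, fun hx => ?_⟩
  · rwa [(mem_zS.1 hx).2 s hs, mul_inv_cancel_right]
  · have h1 := (mem_zS.1 hx).2 s⁻¹ (inv_mem hs)
    have h2 : s⁻¹ * (s * x * s⁻¹) * s = s * x * s⁻¹ := by
      rw [h1, inv_mul_cancel_right]
    have h3 : s⁻¹ * (s * x * s⁻¹) * s = x := by group
    rwa [← h3, h2]

theorem isFullyNormalized_zS : F.IsFullyNormalized (zS S) :=
  ⟨zS_le, fun Q _ => by
    rw [normalizerIn_zS]
    exact Subgroup.card_le_of_le (normalizerIn_le S Q)⟩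

theorem coprime_card_autGroup_zS (hS : IsPGroup p S) (hF : F.IsSaturated p) :
    (Nat.card (F.autGroup (zS S))).Coprime p := by
  have := finite_of_le (zS_le (S := S))
  have : Finite (MulAut (zS S)) :=
    Finite.of_injective (fun α => (α : zS S → zS S)) DFunLike.coe_injective
  obtain ⟨T, hT⟩ := (automized_receptive hS hF (isFullyNormalized_zS (F := F))).1.2
  have hbot : (T : Subgroup (F.autGroup (zS S))) = ⊥ := by
    rw [hT, eq_bot_iff]
    intro u hu
    obtain ⟨g, hg, -, hv⟩ := mem_autInducedBy_iff.1 (Subgroup.mem_subgroupOf.1 hu)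
    rw [Subgroup.mem_bot]
    exact Subtype.ext (MulEquiv.ext fun x => Subtype.ext ((hv x).trans
      (mul_inv_eq_iff_eq_mul.2 ((mem_zS.1 x.2).2 g hg))))
  rw [Nat.coprime_comm, (Fact.out : p.Prime).coprime_iff_not_dvd]
  intro hd
  exact T.ne_bot_of_dvd_card hd hbot

/-- Automorphisms of `Z(S)` in the system preserve `Z(S) ∩ [S, S]`. -/
theorem apply_mem_commutator (hS : IsPGroup p S) (hF : F.IsSaturated p) {γ : MulAut (zS S)}
    (hγ : γ ∈ F.autGroup (zS S)) {x : zS S} (hx : (x : Ω) ∈ ⁅S, S⁆) :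
    ((γ x : zS S) : Ω) ∈ ⁅S, S⁆ := by
  have hPr := (automized_receptive hS hF (isFullyNormalized_zS (F := F))).2
  have hI : IsIso F γ := (mem_autGroup_iff zS_le).1 hγ
  have hle : S ≤ extender S (zS S) ((zS S).subtype.comp γ.toMonoidHom) := by
    refine le_trans (fun s hs => ?_) (centralizerIn_le_extender _)
    exact mem_centralizerIn.2 ⟨hs, fun z hz => ((mem_zS.1 hz).2 s hs).symm⟩
  obtain ⟨ψ, hψ, hψx⟩ := exists_extension hPr hI hle
  obtain ⟨e, he, hev⟩ := exists_iso hψ (eq_S_of_isConj ⟨_, hψ, rfl⟩)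
  have hc : commutator S = ⁅S, S⁆.subgroupOf S := by
    apply Subgroup.map_injective S.subtype_injective
    rw [Subgroup.map_subgroupOf_eq_of_le (Subgroup.commutator_le.2 fun a ha b hb =>
      S.mul_mem (S.mul_mem (S.mul_mem ha hb) (S.inv_mem ha)) (S.inv_mem hb)), commutator_def,
      Subgroup.map_commutator, ← MonoidHom.range_eq_map, Subgroup.range_subtype]
  have h1 : e ⟨x, zS_le x.2⟩ ∈ commutator S :=
    (Subgroup.Characteristic.fixed (H := commutator S) inferInstance e).ge (hc.ge hx)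
  have h2 := hc.le h1
  rw [Subgroup.mem_subgroupOf, hev, hψx x (zS_le x.2)] at h2
  exact h2

theorem eq_of_isNeg (hS : IsPGroup p S) (hF : F.IsSaturated p) {β₁ β₂ : MulAut (zS S)}
    (h₁ : IsNeg F β₁) (h₂ : IsNeg F β₂) : β₁ = β₂ := by
  have := finite_of_le (zS_le (S := S))
  have hco := coprime_card_autGroup_zS hS hF
  have hone : ∀ {a b : MulAut (zS S)}, IsNeg F a → IsNeg F b → a * b = 1 := by
    intro a b ha hb
    let c : ℕ → Subgroup (zS S) := fun i =>
      if i = 0 then ⊥ else if i = 1 then ⁅S, S⁆.subgroupOf (zS S) else ⊤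
    have hst : StabSeries c 2 (a * b) := by
      intro i hi x hx
      interval_cases i
      · show (a * b) x * x⁻¹ ∈ (⊥ : Subgroup (zS S))
        rw [MulAut.mul_apply, hb.inv x hx, map_inv, ha.inv x hx, inv_inv, mul_inv_cancel]
        exact one_mem _
      · show ((a (b x) * x⁻¹ : zS S) : Ω) ∈ ⁅S, S⁆
        have h := mul_mem (ha.mod (b x)) (hb.mod x)
        rwa [← Subgroup.coe_mul, ← mul_assoc, inv_mul_cancel_right] at h
    refine MulEquiv.ext fun x => ?_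
    exact fix_of_stab (hS.to_le zS_le) (c := c) rfl hst
      (hco.coprime_dvd_left (Subgroup.orderOf_dvd_natCard _ (mul_mem ha.mem hb.mem))) 2 le_rfl x
      (Subgroup.mem_top x)
  exact mul_right_cancel ((hone h₁ h₂).trans (hone h₂ h₂).symm)

theorem IsNeg.conj (hS : IsPGroup p S) (hF : F.IsSaturated p) {β γ : MulAut (zS S)}
    (h : IsNeg F β) (hγ : γ ∈ F.autGroup (zS S)) : IsNeg F (γ * β * γ⁻¹) := by
  refine ⟨mul_mem (mul_mem hγ h.mem) (inv_mem hγ), fun x hx => ?_, fun x => ?_⟩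
  · rw [MulAut.mul_apply, MulAut.mul_apply, h.inv _ (apply_mem_commutator hS hF (inv_mem hγ) hx),
      map_inv, MulAut.apply_inv_self]
  · have h1 := apply_mem_commutator hS hF hγ (h.mod (γ⁻¹ x))
    rwa [map_mul, map_inv, MulAut.apply_inv_self] at h1

namespace AIdx

variable {x : Ω}

/-- The transvection of an abelian essential subgroup meeting `A` in `Z(S)`, and for every conjugate
generating another subgroup an automorphism `-1` on `Z(S) ∩ [S, S]`. -/
theorem neg_of_abelian (h : AIdx S A p) (hp : p ≠ 2) (hF : F.IsSaturated p)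
    (hP : F.IsEssential p P) (hPA : P ≠ A) (hxP : x ∈ P) (hxA : x ∉ A) (hB : A ⊓ P = CfsgLib.FusionClosed.zS S) :
    ∃ σ : MulAut P, σ ∈ F.autGroup P ∧ (∀ u : P, σ u = u ↔ (u : Ω) ∈ CfsgLib.FusionClosed.zS S) ∧
      (∃ g ∈ F.autGroup P, g * σ * g⁻¹ ∉ Subgroup.zpowers σ) ∧
      ∀ g ∈ F.autGroup P, g * σ * g⁻¹ ∉ Subgroup.zpowers σ →
        ∃ β, IsNeg F β ∧ ∀ (u : P) (hu : (u : Ω) ∈ CfsgLib.FusionClosed.zS S),
          β ⟨u, hu⟩ = ⟨u, hu⟩ ↔ (g * σ * g⁻¹) u = u := by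
  obtain ⟨hcomm, hR, hidx, -⟩ := h.essential_abelian hF hP hPA hxP hxA hB
  have hPS := hP.1.1
  have hx := hPS hxP
  have := finite_of_le hPS
  have hzi : (CfsgLib.FusionClosed.zS S).relIndex P = p := by
    rw [← hB]
    exact h.relIndex_inter hPS hxP hxA
  obtain ⟨y, hy, hyP⟩ : ∃ y ∈ A ⊓ normalizerIn S P, y ∉ P := by
    by_contra hc
    push Not at hc
    have h1 := h.relIndex_normalizer hPS hxP hxA
    rw [le_antisymm (le_inf inf_le_left hc) (inf_le_inf_left A (le_normalizerIn hPS)), hidx] at h1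
    have hpos : 0 < Nat.card (A ⊓ P : Subgroup Ω) := by
      have := finite_of_le (inf_le_right.trans hPS : A ⊓ P ≤ S)
      exact Nat.card_pos
    exact (Fact.out : p.Prime).one_lt.ne
      (Nat.eq_of_mul_eq_mul_right hpos ((one_mul _).trans h1))
  have hfix : P ⊓ Subgroup.centralizer {y} = CfsgLib.FusionClosed.zS S := by
    refine le_antisymm (fun u hu => ?_) fun u hu => ⟨?_, ?_⟩
    · obtain ⟨b, hb, i, rfl⟩ := h.decomp_of_le hPS hxP hxA hu.1
      have hc : y * (b * x ^ i) = b * x ^ i * y := Subgroup.mem_centralizer_iff.1 hu.2 y rfl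
      by_cases hi : x ^ i ∈ A
      · rw [← hB]
        exact ⟨mul_mem hb.1 hi, hu.1⟩
      · refine absurd ?_ hyP
        have hby : y * b = b * y := h.commute hy.1 hb.1
        rw [← mul_assoc, hby, mul_assoc, mul_assoc] at hc
        exact (hB.ge.trans inf_le_right) (h.fix (zpow_mem hx i) hi hy.1 (mul_left_cancel hc).symm)
    · exact (hB.ge hu).2
    · show u ∈ Subgroup.centralizer {y}
      rw [Subgroup.mem_centralizer_iff]
      intro w hw
      rw [Set.mem_singleton_iff.1 hw]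
      exact (mem_zS.1 hu).2 y (h.le hy.1)
  obtain ⟨σ, hσ, hv, ht, hzp, hA⟩ := exists_transvection h.isP hF hP.2.1
    (centralizerIn_le_of_centric hP.1) hidx hy.2 hyP (by rw [hfix]; exact hzi)
  have hσA : σ ∈ F.autGroup P := autInducedBy_le_autGroup hPS hσ
  have hfix' : ∀ u : P, σ u = u ↔ (u : Ω) ∈ CfsgLib.FusionClosed.zS S := fun u => by
    rw [← hfix]
    constructor
    · intro hu
      refine ⟨u.2, ?_⟩
      show (u : Ω) ∈ Subgroup.centralizer {y}
      rw [Subgroup.mem_centralizer_iff]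
      intro w hw
      rw [Set.mem_singleton_iff.1 hw]
      exact mul_inv_eq_iff_eq_mul.1 ((hv u).symm.trans (congrArg Subtype.val hu))
    · intro hu
      exact Subtype.ext ((hv u).trans
        (mul_inv_eq_iff_eq_mul.2 (Subgroup.mem_centralizer_iff.1 hu.2 y rfl)))
  refine ⟨σ, hσA, hfix', exists_conj_not_mem h.isP hP hzp (fun e => ?_), fun g hg hne => ?_⟩
  · have := ht.order
    rw [e, orderOf_one] at this
    exact (Fact.out : p.Prime).one_lt.ne this
  obtain ⟨τ, z, z', hτA, hpr, -, hfixτ⟩ := exists_pair (h.isP.to_le hPS) hA hσA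
    (mul_mem (mul_mem hg hσA) (inv_mem hg)) ht (ht.conj g) hne
  obtain ⟨t, htm, htz, -, htc, htσ⟩ := hpr.neg
  have htA : t ∈ F.autGroup P :=
    (Subgroup.closure_le _).2 (Set.insert_subset hσA (Set.singleton_subset_iff.2 hτA)) htm
  have hmem : ∀ u : P, (u : Ω) ∈ CfsgLib.FusionClosed.zS S →
      ((t u : P) : Ω) ∈ CfsgLib.FusionClosed.zS S := fun u hu => by
    refine (hfix' _).1 ?_
    rw [← MulAut.mul_apply, ← htσ, MulAut.mul_apply, (hfix' u).2 hu]
  have hzP := h.zS_le.trans le_rfl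
  have hzle : CfsgLib.FusionClosed.zS S ≤ P := zS_le_essential hP
  have := finite_of_le (CfsgLib.FusionClosed.zS_le (S := S))
  let β₀ : CfsgLib.FusionClosed.zS S →* CfsgLib.FusionClosed.zS S :=
    ((P.subtype.comp t.toMonoidHom).comp (Subgroup.inclusion hzle)).codRestrict _
      fun u => hmem ⟨u, hzle u.2⟩ u.2
  have hinj : Function.Injective β₀ := fun a b hab => by
    have h1 : t ⟨a, hzle a.2⟩ = t ⟨b, hzle b.2⟩ := Subtype.ext (congrArg Subtype.val hab :)
    exact Subtype.ext (congrArg Subtype.val (t.injective h1) :)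
  let β : MulAut (CfsgLib.FusionClosed.zS S) :=
    MulEquiv.ofBijective β₀ ⟨hinj, Finite.surjective_of_injective hinj⟩
  have hβv : ∀ u : P, ∀ hu : (u : Ω) ∈ CfsgLib.FusionClosed.zS S,
      ((β ⟨u, hu⟩ : CfsgLib.FusionClosed.zS S) : Ω) = t u := fun u hu => rfl
  have hrange : ((disp σ).range).map P.subtype = CfsgLib.FusionClosed.zS S ⊓ ⁅S, S⁆ := by
    have := finite_of_le (inf_le_left.trans CfsgLib.FusionClosed.zS_le :
      CfsgLib.FusionClosed.zS S ⊓ ⁅S, S⁆ ≤ S)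
    refine Subgroup.eq_of_le_of_card_ge ?_ ?_
    · rintro _ ⟨_, ⟨u, rfl⟩, rfl⟩
      refine ⟨(hfix' _).1 (ht.sq u), ?_⟩
      show (σ u : Ω) * (u : Ω)⁻¹ ∈ ⁅S, S⁆
      rw [hv, ← commutatorElement_def]
      exact Subgroup.commutator_mem_commutator (h.le hy.1) (hPS u.2)
    · rw [hR, Subgroup.card_map_of_injective P.subtype_injective, ht.card_range]
  refine ⟨β, ⟨(mem_autGroup_iff CfsgLib.FusionClosed.zS_le).2
    (mem_of_agree ((mem_autGroup_iff hPS).1 htA) hzle fun u => rfl), fun u hu => ?_, fun u => ?_⟩,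
    fun u hu => ?_⟩
  · have h1 : (u : Ω) ∈ ((disp σ).range).map P.subtype := hrange ▸ ⟨u.2, hu⟩
    rw [hpr.z_range] at h1
    obtain ⟨w, ⟨a, rfl⟩, hwe⟩ := h1
    apply Subtype.ext
    rw [show u = ⟨((z ^ a : P) : Ω), (show ((z ^ a : P) : Ω) = u from hwe) ▸ u.2⟩ from
      Subtype.ext hwe.symm]
    rw [hβv, map_zpow, htz, inv_zpow]
    rfl
  · obtain ⟨a, c, hc, hue⟩ := hpr.fix_left (y := ⟨u, hzle u.2⟩) ((hfix' _).2 u.2)
    have h1 : t ⟨u, hzle u.2⟩ * (⟨u, hzle u.2⟩ : P)⁻¹ = (z ^ a)⁻¹ * (z ^ a)⁻¹ := by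
      rw [hue, map_mul, map_zpow, htz, htc c hc, inv_zpow, mul_inv_rev, ← mul_assoc,
        mul_inv_cancel_right]
    have h2 : ((t ⟨u, hzle u.2⟩ * (⟨u, hzle u.2⟩ : P)⁻¹ : P) : Ω) ∈
        CfsgLib.FusionClosed.zS S ⊓ ⁅S, S⁆ := by
      rw [← hrange, h1, hpr.z_range]
      exact Subgroup.mem_map_of_mem _
        (mul_mem (inv_mem (zpow_mem (Subgroup.mem_zpowers z) a))
          (inv_mem (zpow_mem (Subgroup.mem_zpowers z) a)))
    exact h2.2
  · obtain ⟨a, c, hc, hue⟩ := hpr.fix_left (y := u) ((hfix' _).2 hu)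
    have hτfix : (g * σ * g⁻¹) u = u ↔ τ u = u := by
      rw [← mem_fixSub, ← mem_fixSub, hfixτ]
    rw [hτfix]
    constructor
    · intro hb
      have h1 : t u = u := Subtype.ext ((hβv u hu).symm.trans (congrArg Subtype.val hb))
      rw [hue, map_mul, map_zpow, htz, htc c hc, inv_zpow, mul_left_inj, inv_eq_iff_mul_eq_one,
        ← zpow_add, ← two_mul] at h1
      have h2 := orderOf_dvd_iff_zpow_eq_one.2 h1
      rw [orderOf_eq_prime hpr.z_pow hpr.z_ne] at h2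
      have h3 : ((p : ℤ)) ∣ a := by
        rcases (Nat.prime_iff_prime_int.1 (Fact.out : p.Prime)).dvd_mul.1 h2 with h4 | h4
        · exfalso
          have h5 : p ∣ 2 := by exact_mod_cast h4
          exact hp ((Nat.prime_dvd_prime_iff_eq Fact.out Nat.prime_two).1 h5)
        · exact h4
      obtain ⟨e, rfl⟩ := h3
      rw [hue, zpow_mul, zpow_natCast, hpr.z_pow, one_zpow, one_mul]
      exact mem_fixSub.1 (Subgroup.mem_inf.1 hc).2
    · intro hτu
      have h1 : u ∈ fixSub σ ⊓ fixSub τ :=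
        Subgroup.mem_inf.2 ⟨mem_fixSub.2 ((hfix' _).2 hu), mem_fixSub.2 hτu⟩
      exact Subtype.ext ((hβv u hu).trans (congrArg Subtype.val (htc u h1)))

theorem core_free (h : AIdx S A p) (hp : p ≠ 2) (hF : F.IsSaturated p) (hcore : F.core = ⊥)
    (hAe : ¬ F.IsEssential p A) :
    (∃ P x, F.IsEssential p P ∧ x ∈ P ∧ x ∉ A ∧ A ⊓ P = CfsgLib.FusionClosed.zS S) ∧
      CfsgLib.FusionClosed.zS S ≤ ⁅S, S⁆ ∧
      Nat.card (CfsgLib.FusionClosed.zS S ⊓ ⁅S, S⁆ : Subgroup Ω) = p := by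
  have hp' : p.Prime := Fact.out
  have hne : ∀ {Q : Subgroup Ω}, F.IsEssential p Q → Q ≠ A := fun hQ e => hAe (e ▸ hQ)
  have hnorm : ∀ s ∈ S, ∀ {T : Subgroup Ω}, T ≤ CfsgLib.FusionClosed.zS S → ∀ z ∈ T,
      s * z * s⁻¹ ∈ T := fun s hs T hT z hz => by
    rw [(mem_zS.1 (hT hz)).2 s hs, mul_inv_cancel_right]
    exact hz
  obtain ⟨P₀, x₀, hP₀, hx₀, hx₀A, hB₀⟩ : ∃ P x, F.IsEssential p P ∧ x ∈ P ∧ x ∉ A ∧
      A ⊓ P = CfsgLib.FusionClosed.zS S := by
    by_contra hc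
    push Not at hc
    have hN : F.IsNormal (CfsgLib.FusionClosed.zS S) := by
      refine isNormal_of_invariant h.isP hF CfsgLib.FusionClosed.zS_le
        (fun s hs z hz => hnorm s hs le_rfl z hz) (fun Q hQ => zS_le_essential hQ) ?_
      rintro Q (rfl | hQ) α hα u hu
      · exact apply_mem_zS hu
      · obtain ⟨-, -, -, y, hy, hyA, hcase⟩ := h.essential_main hF hQ (hne hQ)
        rcases hcase with ⟨-, hB⟩ | ⟨-, hcent⟩
        · exact absurd hB (hc Q y hQ hy hyA)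
        · have h1 : α u ∈ Subgroup.center Q :=
            (MulEquivClass.apply_mem_center_iff α).2 (hcent.ge hu)
          exact hcent.le h1
    have hz : CfsgLib.FusionClosed.zS S = ⊥ := le_bot_iff.1 (hcore ▸ le_sSup hN)
    have hS1 : Nontrivial S := by
      by_contra hn
      rw [not_nontrivial_iff_subsingleton] at hn
      exact h.ncomm ⟨⟨fun a b => Subsingleton.elim _ _⟩⟩
    have := h.isP.center_nontrivial
    obtain ⟨⟨z, hz1⟩, hz2⟩ := exists_ne (1 : Subgroup.center S)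
    have h3 : (z : Ω) ∈ CfsgLib.FusionClosed.zS S := Subgroup.mem_map_of_mem _ hz1
    rw [hz, Subgroup.mem_bot, OneMemClass.coe_eq_one] at h3
    exact hz2 (Subtype.ext h3)
  obtain ⟨-, hR, -⟩ := h.essential_main hF hP₀ (hne hP₀)
  refine ⟨⟨P₀, x₀, hP₀, hx₀, hx₀A, hB₀⟩, ?_, hR⟩
  obtain ⟨σ₀, -, -, ⟨g₀, hg₀, hne₀⟩, hneg₀⟩ :=
    h.neg_of_abelian hp hF hP₀ (hne hP₀) hx₀ hx₀A hB₀
  obtain ⟨β, hβ, -⟩ := hneg₀ g₀ hg₀ hne₀
  let C : Subgroup Ω := Subgroup.map (CfsgLib.FusionClosed.zS S).subtype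
    (β.toMonoidHom.eqLocus (MonoidHom.id _))
  have hCmem : ∀ c : Ω, c ∈ C ↔ ∃ hc : c ∈ CfsgLib.FusionClosed.zS S, β ⟨c, hc⟩ = ⟨c, hc⟩ := by
    intro c
    constructor
    · rintro ⟨w, hw, rfl⟩
      exact ⟨w.2, hw⟩
    · rintro ⟨hc, e⟩
      exact ⟨⟨c, hc⟩, e, rfl⟩
  have hCz : C ≤ CfsgLib.FusionClosed.zS S := Subgroup.map_subtype_le _
  have hres : ∀ γ ∈ F.autGroup (CfsgLib.FusionClosed.zS S), ∀ c ∈ C,
      ∀ hc : c ∈ CfsgLib.FusionClosed.zS S, ((γ ⟨c, hc⟩ : CfsgLib.FusionClosed.zS S) : Ω) ∈ C := by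
    intro γ hγ c hcC hc
    obtain ⟨_, he⟩ := (hCmem c).1 hcC
    have h1 := eq_of_isNeg h.isP hF hβ (hβ.conj h.isP hF hγ)
    refine (hCmem _).2 ⟨(γ ⟨c, hc⟩).2, ?_⟩
    rw [h1, MulAut.mul_apply, MulAut.mul_apply]
    show γ (β (γ⁻¹ (γ ⟨c, hc⟩))) = γ ⟨c, hc⟩
    rw [MulAut.inv_apply_self, he]
  have hNC : F.IsNormal C := by
    refine isNormal_of_invariant h.isP hF (hCz.trans CfsgLib.FusionClosed.zS_le)
      (fun s hs z hz => hnorm s hs hCz z hz) (fun Q hQ => hCz.trans (zS_le_essential hQ)) ?_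
    intro Q hQ α hα u hu
    have hQS : Q ≤ S := by
      rcases hQ with rfl | hQ
      · exact le_rfl
      · exact hQ.1.1
    have hzQ : CfsgLib.FusionClosed.zS S ≤ Q := by
      rcases hQ with rfl | hQ
      · exact CfsgLib.FusionClosed.zS_le
      · exact zS_le_essential hQ
    -- the centre-preserving cases
    have hkey : (∀ w : Q, (w : Ω) ∈ CfsgLib.FusionClosed.zS S →
        ((α w : Q) : Ω) ∈ CfsgLib.FusionClosed.zS S) → ((α u : Q) : Ω) ∈ C := by
      intro hpres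
      have := finite_of_le (CfsgLib.FusionClosed.zS_le (S := S))
      let γ₀ : CfsgLib.FusionClosed.zS S →* CfsgLib.FusionClosed.zS S :=
        ((Q.subtype.comp α.toMonoidHom).comp (Subgroup.inclusion hzQ)).codRestrict _
          fun w => hpres ⟨w, hzQ w.2⟩ w.2
      have hinj : Function.Injective γ₀ := fun a b hab => by
        have h1 : α ⟨a, hzQ a.2⟩ = α ⟨b, hzQ b.2⟩ := Subtype.ext (congrArg Subtype.val hab :)
        exact Subtype.ext (congrArg Subtype.val (α.injective h1) :)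
      let γ : MulAut (CfsgLib.FusionClosed.zS S) :=
        MulEquiv.ofBijective γ₀ ⟨hinj, Finite.surjective_of_injective hinj⟩
      exact hres γ ((mem_autGroup_iff CfsgLib.FusionClosed.zS_le).2
        (mem_of_agree ((mem_autGroup_iff hQS).1 hα) hzQ fun w => rfl)) u hu (hCz hu)
    rcases hQ with rfl | hQ
    · exact hkey fun w hw => apply_mem_zS hw
    obtain ⟨-, -, -, y, hy, hyA, hcase⟩ := h.essential_main hF hQ (hne hQ)
    rcases hcase with ⟨-, hB⟩ | ⟨-, hcent⟩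
    swap
    · exact hkey fun w hw => hcent.le ((MulEquivClass.apply_mem_center_iff α).2 (hcent.ge hw))
    obtain ⟨σ, hσA, hfix, ⟨g, hg, hgne⟩, hneg⟩ := h.neg_of_abelian hp hF hQ (hne hQ) hy hyA hB
    have hconj : ∀ k ∈ F.autGroup Q, ∀ w : Q, (w : Ω) ∈ C → (k * σ * k⁻¹) w = w := by
      intro k hk w hw
      have hwz := hCz hw
      by_cases hkne : k * σ * k⁻¹ ∈ Subgroup.zpowers σ
      · exact (Subgroup.zpowers_le.2
          (show σ ∈ MulAction.stabilizer (MulAut Q) w from (hfix w).2 hwz)) hkne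
      · obtain ⟨β', hβ', hiff⟩ := hneg k hk hkne
        refine (hiff w hwz).1 ?_
        rw [eq_of_isNeg h.isP hF hβ' hβ]
        exact ((hCmem _).1 hw).2
    have h1 := hconj α⁻¹ (inv_mem hα) u hu
    rw [conj_fix_iff, inv_inv] at h1
    have h2 := hconj (α⁻¹ * g) (mul_mem (inv_mem hα) hg) u hu
    rw [show α⁻¹ * g * σ * (α⁻¹ * g)⁻¹ = α⁻¹ * (g * σ * g⁻¹) * α⁻¹⁻¹ by group, conj_fix_iff,
      inv_inv] at h2
    obtain ⟨β', hβ', hiff⟩ := hneg g hg hgne
    refine (hCmem _).2 ⟨(hfix _).1 h1, ?_⟩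
    rw [← eq_of_isNeg h.isP hF hβ' hβ]
    exact (hiff _ _).2 h2
  have hC : C = ⊥ := le_bot_iff.1 (hcore ▸ le_sSup hNC)
  intro z hz
  set w : CfsgLib.FusionClosed.zS S := ⟨z, hz⟩
  have hr := hβ.mod w
  have := finite_of_le (inf_le_left.trans CfsgLib.FusionClosed.zS_le :
    CfsgLib.FusionClosed.zS S ⊓ ⁅S, S⁆ ≤ S)
  obtain ⟨r, hrdef⟩ : ∃ r, r = β w * w⁻¹ := ⟨_, rfl⟩
  rw [← hrdef] at hr
  have hrp : r ^ p = 1 := by
    have h1 := pow_card_eq_one'
      (x := (⟨(r : Ω), r.2, hr⟩ : (CfsgLib.FusionClosed.zS S ⊓ ⁅S, S⁆ : Subgroup Ω)))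
    rw [hR] at h1
    exact Subtype.ext (congrArg Subtype.val h1 :)
  obtain ⟨m, hm⟩ := hp'.odd_of_ne_two hp
  have hm2 : r ^ (m + 1) * r ^ (m + 1) = r := by
    rw [← pow_add, show m + 1 + (m + 1) = p + 1 by omega, pow_succ, hrp, one_mul]
  have hfixed : β (r ^ (m + 1) * w) = r ^ (m + 1) * w := by
    rw [map_mul, map_pow, hβ.inv r hr, show β w = r * w by rw [hrdef, inv_mul_cancel_right],
      ← mul_assoc, inv_pow]
    congr 1
    rw [inv_mul_eq_iff_eq_mul]
    exact hm2.symm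
  have hmem : ((r ^ (m + 1) * w : CfsgLib.FusionClosed.zS S) : Ω) ∈ C :=
    (hCmem _).2 ⟨(r ^ (m + 1) * w).2, hfixed⟩
  rw [hC, Subgroup.mem_bot, Subgroup.coe_mul, mul_eq_one_iff_eq_inv'] at hmem
  show (w : Ω) ∈ ⁅S, S⁆
  rw [hmem, SubgroupClass.coe_pow]
  exact inv_mem (pow_mem hr _)

/-- The lower central series reaches far. -/
theorem lowerCentralSeries_not_le (h : AIdx S A p)
    (hR : Nat.card (CfsgLib.FusionClosed.zS S ⊓ ⁅S, S⁆ : Subgroup Ω) = p) {m : ℕ} (hm3 : 3 ≤ m)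
    (hm : (CfsgLib.FusionClosed.zS S).relIndex S = p ^ m) :
    ¬ Subgroup.lowerCentralSeries S (m - 2) ≤ CfsgLib.FusionClosed.zS S := by
  intro hle
  obtain ⟨x, hx, hxA⟩ := h.exists_not_mem
  have hall : ∀ a : A, a ∈ h.kD hx (m - 2 + 1) := fun a => by
    rw [h.mem_kD hx, Function.iterate_succ_apply', ← MonoidHom.mem_ker, h.dA_ker hx hxA]
    exact hle (h.iterate_mem_lowerCentralSeries hx (m - 2) a)
  have h1 := h.card_kD_le hx hxA hR (m - 2)
  rw [show h.kD hx (m - 2 + 1) = ⊤ from eq_top_iff.2 fun a _ => hall a, Subgroup.card_top] at h1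
  have h2 := Subgroup.relIndex_mul_relIndex ⊥ A S bot_le h.le
  have h3 := Subgroup.relIndex_mul_relIndex ⊥ (CfsgLib.FusionClosed.zS S) S bot_le
    CfsgLib.FusionClosed.zS_le
  rw [Subgroup.relIndex_bot_left, Subgroup.relIndex_bot_left] at h2 h3
  rw [h.index, ← h3, hm] at h2
  have hpos : 0 < Nat.card (CfsgLib.FusionClosed.zS S) := by
    have := finite_of_le (CfsgLib.FusionClosed.zS_le (S := S))
    exact Nat.card_pos
  have h4 : Nat.card (CfsgLib.FusionClosed.zS S) * p ^ m ≤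
      Nat.card (CfsgLib.FusionClosed.zS S) * p ^ (m - 1) := by
    rw [← h2, show m - 1 = (m - 2) + 1 by omega, pow_succ, ← mul_assoc]
    exact Nat.mul_le_mul_right p h1
  have h5 := (Nat.pow_le_pow_iff_right (Fact.out : p.Prime).one_lt).1
    (Nat.le_of_mul_le_mul_left h4 hpos)
  omega

end AIdx

end CfsgLib.FusionClosed
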