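import Cfsg.Agent.FusionClosed.AbelianEssential
import Cfsg.Agent.EvenType.StronglyEmbedded

/-!
# Abelian essential subgroups with a common fixed hyperplane

`card_autInducedBy_le`: if `Aut_S(P)` centralises a hyperplane `H` of the abelian essential `P` and
displaces `P` into `H`, then `|Aut_S(P)| ≤ p`.
-/

set_option autoImplicit false

namespace CfsgLib.FusionClosed

open Cfsg Cfsg.FusionSystem CfsgLib.Fusion
open scoped Pointwise

attribute [local instance] commGroupOf

variable {X : Type*} [CommGroup X] {p : ℕ} [Fact p.Prime]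

theorem commute_of_disp {σ τ : MulAut X} {H H' : Subgroup X} (hσ : ∀ y ∈ H, σ y = y)
    (hσd : ∀ y, disp σ y ∈ H') (hτ : ∀ y ∈ H', τ y = y) (hτd : ∀ y, disp τ y ∈ H) :
    σ * τ = τ * σ := by
  refine MulEquiv.ext fun y => ?_
  show σ (τ y) = τ (σ y)
  rw [apply_eq_disp τ y, apply_eq_disp σ y, map_mul σ, map_mul τ, hσ _ (hτd y), hτ _ (hσd y),
    apply_eq_disp τ y, apply_eq_disp σ y, mul_left_comm]

theorem card_le_or_exists [Finite X] {U : Subgroup (MulAut X)} {H H' : Subgroup X}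
    (hH : H.index = p) (hfix : ∀ u ∈ U, ∀ y ∈ H, u y = y) (hd : ∀ u ∈ U, ∀ y, disp u y ∈ H)
    (hH' : H'.index ≤ p) :
    Nat.card U ≤ p ∨ ∃ u ∈ U, u ≠ 1 ∧ ∀ y, disp u y ∈ H' := by
  by_contra hc
  push Not at hc
  obtain ⟨hcard, hex⟩ := hc
  obtain ⟨y₀, hy₀⟩ : ∃ y, y ∉ H := by
    by_contra h
    push Not at h
    rw [(eq_top_iff.2 fun y _ => h y : H = ⊤), Subgroup.index_top] at hH
    exact (Fact.out : p.Prime).one_lt.ne hH
  have hgen : H ⊔ Subgroup.zpowers y₀ = ⊤ := by
    have h1 := Subgroup.index_dvd_of_le (le_sup_left : H ≤ H ⊔ Subgroup.zpowers y₀)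
    rw [hH] at h1
    rcases (Nat.dvd_prime (Fact.out : p.Prime)).1 h1 with h2 | h2
    · exact Subgroup.index_eq_one.1 h2
    · exfalso
      refine hy₀ ?_
      have h4 := Subgroup.relIndex_mul_index (le_sup_left : H ≤ H ⊔ Subgroup.zpowers y₀)
      rw [h2, hH] at h4
      have h3 : H.relIndex (H ⊔ Subgroup.zpowers y₀) = 1 :=
        Nat.eq_of_mul_eq_mul_right (Fact.out : p.Prime).pos (h4.trans (one_mul p).symm)
      exact Subgroup.relIndex_eq_one.1 h3
        (Subgroup.mem_sup_right (Subgroup.mem_zpowers y₀))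
  let f : U →* X ⧸ H' :=
    { toFun := fun u => QuotientGroup.mk' H' (disp (u : MulAut X) y₀)
      map_one' := by simp [disp]
      map_mul' := fun u v => by
        rw [← map_mul]
        congr 1
        show (u : MulAut X) ((v : MulAut X) y₀) * y₀⁻¹ = _
        rw [apply_eq_disp (v : MulAut X) y₀, map_mul, hfix u u.2 _ (hd v v.2 y₀),
          apply_eq_disp (u : MulAut X) y₀, mul_assoc, mul_inv_cancel_right, mul_comm] }
  have hinj : Function.Injective f := by
    rw [injective_iff_map_eq_one]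
    intro u hu
    by_contra hne
    obtain ⟨y, hy⟩ := hex u u.2 (fun h => hne (Subtype.ext h))
    have h1 : disp (u : MulAut X) y₀ ∈ H' := (QuotientGroup.eq_one_iff _).1 hu
    have hle : H ⊔ Subgroup.zpowers y₀ ≤ H'.comap (disp (u : MulAut X)) := by
      refine sup_le (fun w hw => ?_) (Subgroup.zpowers_le.2 h1)
      show disp (u : MulAut X) w ∈ H'
      rw [show disp (u : MulAut X) w = 1 from mem_fixSub.2 (hfix u u.2 w hw)]
      exact one_mem _
    rw [hgen] at hle
    exact hy (hle (Subgroup.mem_top y))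
  have h2 := Nat.card_le_card_of_injective f hinj
  rw [← Subgroup.index_eq_card] at h2
  omega

variable {Ω : Type*} [Group Ω] {S : Subgroup Ω} {F : FusionSystem S}

theorem card_autInducedBy_le [Finite S] (hS : IsPGroup p S) (hF : F.IsSaturated p)
    {P : Subgroup Ω} [IsMulCommutative P] (hP : F.IsEssential p P) {H : Subgroup P}
    (hH : H.index = p) (hfix : ∀ u ∈ autInducedBy S P, ∀ y ∈ H, u y = y)
    (hd : ∀ u ∈ autInducedBy S P, ∀ y, disp u y ∈ H) :
    Nat.card (autInducedBy S P) ≤ p := by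
  have := finite_of_le hP.1.1
  have : Finite (MulAut P) := Finite.of_injective (fun α => (α : P → P)) DFunLike.coe_injective
  obtain ⟨hI, E, hE⟩ := hP.2.2
  set A := F.autGroup P with hAdef
  obtain ⟨T, hT⟩ : ∃ T : Sylow p A, (T : Subgroup A) = (autInducedBy S P).subgroupOf A :=
    (automized_receptive hS hF hP.2.1).1.2
  set q := QuotientGroup.mk' ((Inn P).subgroupOf A)
  have hqinj : Function.Injective q := by
    rw [injective_iff_map_eq_one]
    intro u hu
    obtain ⟨z, hz⟩ : (u : MulAut P) ∈ Inn P :=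
      (QuotientGroup.eq_one_iff (N := (Inn P).subgroupOf A) u).1 hu
    refine Subtype.ext ?_
    rw [← hz]
    exact MulEquiv.ext fun w => by
      show z * w * z⁻¹ = w
      rw [mul_comm z w, mul_inv_cancel_right]
  set Y := E.comap q
  have hY : Y ≠ ⊤ := fun h => hE.2.1 (by
    rw [← Subgroup.map_comap_eq_self_of_surjective (QuotientGroup.mk'_surjective _) E]
    show Y.map q = ⊤
    rw [h, Subgroup.map_top_of_surjective q (QuotientGroup.mk'_surjective _)])
  have hNY : ∀ Q : Subgroup A, Q ≤ Y → IsPGroup p Q → Q ≠ ⊥ →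
      Subgroup.normalizer (Q : Set A) ≤ Y := fun Q hQY hQp hQ1 n hn => by
    refine CfsgLib.EvenType.normalizer_le_of_isStronglyPEmbedded hE
      (Subgroup.map_le_iff_le_comap.2 hQY) (hQp.map q) ?_
      (Subgroup.le_normalizer_map q ⟨n, hn, rfl⟩)
    rw [ne_eq, Subgroup.map_eq_bot_iff_of_injective _ hqinj]
    exact hQ1
  obtain ⟨P₀, -, hP₀E, -⟩ := CfsgLib.EvenType.exists_sylow_le_of_isStronglyPEmbedded hE
  obtain ⟨R₀, hR₀⟩ := (P₀.isPGroup'.comap_of_injective q hqinj).exists_le_sylow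
  have hR₀Y : (R₀ : Subgroup A) ≤ Y := by
    rw [← Subgroup.map_le_iff_le_comap]
    refine le_trans (P₀.is_maximal' (R₀.isPGroup'.map q) ?_).le hP₀E
    refine (Subgroup.map_comap_eq_self_of_surjective (f := q) (QuotientGroup.mk'_surjective _)
      (P₀ : Subgroup (A ⧸ (Inn P).subgroupOf A))).ge.trans (Subgroup.map_mono hR₀)
  by_contra hcard
  push Not at hcard
  have hcardT : Nat.card (autInducedBy S P) = Nat.card (T : Subgroup A) := by
    rw [hT, Nat.card_congr (Subgroup.subgroupOfEquivOfLe (autInducedBy_le_autGroup hP.1.1)).toEquiv]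
  obtain ⟨R₁, hR₁⟩ : ∃ R : Sylow p A, ¬ (R : Subgroup A) ≤ Y := by
    by_contra h
    push Not at h
    refine hY (eq_top_iff.2 fun g _ => ?_)
    obtain ⟨⟨y, hy⟩, hye⟩ :=
      MulAction.exists_smul_eq Y (R₀.subtype hR₀Y) ((g • R₀ : Sylow p A).subtype (h _))
    have hnorm : y⁻¹ * g ∈ Subgroup.normalizer ((R₀ : Subgroup A) : Set A) := by
      have he : (MulAut.conj y : MulAut A) • (R₀ : Subgroup A) =
          (MulAut.conj g : MulAut A) • (R₀ : Subgroup A) := by
        have h1 := congrArg (fun R : Sylow p Y => (R : Subgroup Y).map Y.subtype) hye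
        simp only [Sylow.coe_subtype, Sylow.smul_def, Sylow.pointwise_smul_def] at h1
        have h2 : ∀ K : Subgroup A, K ≤ Y → ((MulAut.conj (⟨y, hy⟩ : Y) : MulAut Y) •
            K.subgroupOf Y).map Y.subtype = (MulAut.conj y : MulAut A) • K := by
          intro K hK
          ext w
          simp only [Subgroup.mem_map, Subgroup.mem_pointwise_smul_iff_inv_smul_mem,
            Subgroup.mem_subgroupOf]
          constructor
          · rintro ⟨v, hv, rfl⟩
            exact hv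
          · intro hw
            have hwY : w ∈ Y := by
              have hv := mul_mem (mul_mem hy (hK hw)) (inv_mem hy)
              simpa [MulAut.smul_def, mul_assoc] using hv
            exact ⟨⟨w, hwY⟩, hw, rfl⟩
        have hgY : (MulAut.conj g : MulAut A) • (R₀ : Subgroup A) ≤ Y := h (g • R₀)
        rw [h2 _ hR₀Y, Subgroup.map_subgroupOf_eq_of_le hgY] at h1
        exact h1
      rw [Subgroup.mem_normalizer_iff]
      intro w
      have h3 := congrArg (fun K : Subgroup A => g * w * g⁻¹ ∈ K) he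
      simp only [Subgroup.mem_pointwise_smul_iff_inv_smul_mem, MulAut.smul_def, MulAut.conj_inv_apply,
        eq_iff_iff] at h3
      rw [show g⁻¹ * (g * w * g⁻¹) * g = w by group] at h3
      rw [← h3, show y⁻¹ * (g * w * g⁻¹) * y = y⁻¹ * g * w * (y⁻¹ * g)⁻¹ by group]
    have := mul_mem hy (hNY _ hR₀Y R₀.isPGroup' (fun e => by
      rw [R₀.card_eq_multiplicity.trans T.card_eq_multiplicity.symm |>.symm.trans rfl |>
        (hcardT.trans ·), e, Subgroup.card_bot] at hcard
      exact absurd hcard (not_lt.2 (Fact.out : p.Prime).one_lt.le)) hnorm)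
    rwa [mul_inv_cancel_left] at this
  -- the hyperplanes of the two Sylow subgroups
  have hdata : ∀ R : Sylow p A, ∃ (U : Subgroup (MulAut P)) (K : Subgroup P), K.index = p ∧
      (∀ u : A, u ∈ (R : Subgroup A) ↔ (u : MulAut P) ∈ U) ∧ U ≤ A ∧
      (∀ u ∈ U, ∀ y ∈ K, u y = y) ∧ (∀ u ∈ U, ∀ y, disp u y ∈ K) ∧
      Nat.card U = Nat.card (autInducedBy S P) := by
    intro R
    obtain ⟨g, rfl⟩ := MulAction.exists_smul_eq A T R
    refine ⟨(autInducedBy S P).map (MulAut.conj (g : MulAut P)).toMonoidHom,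
      H.map (g : MulAut P).toMonoidHom, ?_, fun u => ?_, ?_, ?_, ?_,
      Subgroup.card_map_of_injective (MulEquiv.injective _)⟩
    · rw [Subgroup.index_map_of_bijective (g : MulAut P).bijective, hH]
    · rw [Sylow.smul_def, Sylow.pointwise_smul_def, Subgroup.mem_pointwise_smul_iff_inv_smul_mem,
        hT, Subgroup.mem_subgroupOf, Subgroup.mem_map_equiv]
      rfl
    · rintro _ ⟨u, hu, rfl⟩
      exact mul_mem (mul_mem g.2 (autInducedBy_le_autGroup hP.1.1 hu)) (inv_mem g.2)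
    · rintro _ ⟨u, hu, rfl⟩ _ ⟨y, hy, rfl⟩
      show ((g : MulAut P) * u * (g : MulAut P)⁻¹) ((g : MulAut P) y) = (g : MulAut P) y
      rw [MulAut.mul_apply, MulAut.mul_apply, MulAut.inv_apply_self, hfix u hu y hy]
    · rintro _ ⟨u, hu, rfl⟩ w
      obtain ⟨y, rfl⟩ := (g : MulAut P).surjective w
      exact ⟨disp u y, hd u hu y, (disp_conj (g : MulAut P) u y).symm⟩
  obtain ⟨U₀, K₀, hK₀, hU₀, hU₀A, hfix₀, hd₀, hc₀⟩ := hdata R₀
  obtain ⟨U₁, K₁, hK₁, hU₁, hU₁A, hfix₁, hd₁, hc₁⟩ := hdata R₁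
  obtain ⟨σ, hσ, hσ1, hσd⟩ := (card_le_or_exists hK₀ hfix₀ hd₀ hK₁.le).resolve_left (by omega)
  obtain ⟨τ, hτ, hτ1, hτd⟩ := (card_le_or_exists hK₁ hfix₁ hd₁ hK₀.le).resolve_left (by omega)
  set σ' : A := ⟨σ, hU₀A hσ⟩ with hσ'
  set τ' : A := ⟨τ, hU₁A hτ⟩ with hτ'
  have hσR : σ' ∈ (R₀ : Subgroup A) := (hU₀ σ').2 hσ
  have hτR : τ' ∈ (R₁ : Subgroup A) := (hU₁ τ').2 hτ
  have hcent : ∀ {G : Subgroup A} {a b : A}, a * b = b * a → G = Subgroup.zpowers a →
      b ∈ Subgroup.normalizer (G : Set A) := by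
    rintro G a b hab rfl
    rw [Subgroup.mem_normalizer_iff_map_conj_eq, MonoidHom.map_zpowers]
    congr 1
    show b * a * b⁻¹ = a
    rw [← hab, mul_inv_cancel_right]
  have hτY : τ' ∈ Y := hNY (Subgroup.zpowers σ') ((Subgroup.zpowers_le.2 hσR).trans hR₀Y)
    (R₀.isPGroup'.to_le (Subgroup.zpowers_le.2 hσR))
    (fun e => hσ1 (congrArg Subtype.val (Subgroup.zpowers_eq_bot.1 e)))
    (hcent (Subtype.ext (commute_of_disp (hfix₀ σ hσ) hσd (hfix₁ τ hτ) hτd)) rfl)
  refine hR₁ fun u hu => hNY (Subgroup.zpowers τ') (Subgroup.zpowers_le.2 hτY)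
    (R₁.isPGroup'.to_le (Subgroup.zpowers_le.2 hτR))
    (fun e => hτ1 (congrArg Subtype.val (Subgroup.zpowers_eq_bot.1 e)))
    (hcent (Subtype.ext ?_) rfl)
  exact commute_of_disp (hfix₁ τ hτ) (hd₁ τ hτ) (hfix₁ _ ((hU₁ u).1 hu)) (hd₁ _ ((hU₁ u).1 hu))

end CfsgLib.FusionClosed
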