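import Cfsg.Agent.FusionClosed.AbelianIndex
import Cfsg.Agent.FusionClosed.Hyperplane
import Cfsg.Agent.FusionClosed.Normality
import Cfsg.Agent.FusionEssential.Basic

/-!
# Essential subgroups other than the unique abelian subgroup of index `p`

`AIdx.essential_main`: for an essential `P ≠ A`: `Z₂(S) ≤ A`, `|Z(S) ∩ [S, S]| = p`,
`|N_S(P) : P| = p`, and `P` meets `A` in `Z(S)` (abelian case) or in `Z₂(S)` (then `Z(S)` is the
centre of `P`).
-/

set_option autoImplicit false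

namespace CfsgLib.FusionClosed

open Cfsg Cfsg.FusionSystem CfsgLib.Fusion
open scoped commutatorElement

attribute [local instance] commGroupOf

variable {Ω : Type*} [Group Ω] {S A P : Subgroup Ω} {F : FusionSystem S} {p : ℕ}
variable [Finite S] [Fact p.Prime]

theorem ne_self_of_essential (hS : IsPGroup p S) (hF : F.IsSaturated p)
    (hP : F.IsEssential p P) : P ≠ S := by
  intro h
  subst h
  obtain ⟨T, hT⟩ := (automized_receptive hS hF hP.2.1).1.2
  obtain ⟨α, ⟨k, hk⟩, hout⟩ := CfsgLib.FusionEssential.exists_pElement_not_inn hP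
  have hn : (T : Subgroup (F.autGroup P)).Normal := by
    rw [hT, ← Inn_eq]
    exact (Inn_normal P).comap _
  refine hout (CfsgLib.FusionEssential.map_le_Inn hP hn T.isPGroup' ⟨α, ?_, rfl⟩)
  have hz : IsPGroup p (Subgroup.zpowers α) := isPGroup_zpowers_of_pow_eq_one hk
  obtain ⟨R, hR⟩ := hz.exists_le_sylow
  have : Unique (Sylow p (F.autGroup P)) := Sylow.unique_of_normal T hn
  exact (Subsingleton.elim R T) ▸ hR (Subgroup.mem_zpowers α)

/-- An element of `N_S(P)` stabilising an invariant series `B ≤ P` lies in `P`. -/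
theorem mem_of_stab_invariant (hS : IsPGroup p S) (hP : F.IsEssential p P) (B : Subgroup P)
    (hB : ∀ α ∈ F.autGroup P, ∀ u ∈ B, α u ∈ B) {g : Ω} (hg : g ∈ normalizerIn S P)
    (hfix : ∀ u ∈ B, g * (u : Ω) * g⁻¹ = u)
    (hd : ∀ u : P, ∃ b ∈ B, g * (u : Ω) * g⁻¹ = b * u) : g ∈ P := by
  have := finite_of_le hP.1.1
  have : Finite (MulAut P) := Finite.of_injective (fun α => (α : P → P)) DFunLike.coe_injective
  let K : Subgroup (F.autGroup P) :=
    { carrier := {α | (∀ u ∈ B, (α : MulAut P) u = u) ∧ ∀ u, (α : MulAut P) u * u⁻¹ ∈ B}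
      one_mem' := ⟨fun _ _ => rfl, fun u => by
        show u * u⁻¹ ∈ B
        rw [mul_inv_cancel]
        exact one_mem _⟩
      mul_mem' := fun {a b} ha hb => ⟨fun u hu => by
          show (a : MulAut P) ((b : MulAut P) u) = u
          rw [hb.1 u hu, ha.1 u hu], fun u => by
          show (a : MulAut P) ((b : MulAut P) u) * u⁻¹ ∈ B
          have := mul_mem (ha.2 ((b : MulAut P) u)) (hb.2 u)
          rwa [← mul_assoc, inv_mul_cancel_right] at this⟩
      inv_mem' := fun {a} ha => ⟨fun u hu => by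
          show (a : MulAut P)⁻¹ u = u
          rw [MulAut.inv_apply, MulEquiv.symm_apply_eq, ha.1 u hu], fun u => by
          show (a : MulAut P)⁻¹ u * u⁻¹ ∈ B
          have := inv_mem (ha.2 ((a : MulAut P)⁻¹ u))
          rwa [MulAut.apply_inv_self, mul_inv_rev, inv_inv] at this⟩ }
  have hKn : K.Normal := ⟨fun k hk a => by
    have hinv := hB _ (inv_mem a.2)
    refine ⟨fun u hu => ?_, fun u => ?_⟩
    · show (a : MulAut P) ((k : MulAut P) ((a : MulAut P)⁻¹ u)) = u
      rw [hk.1 _ (hinv u hu), MulAut.apply_inv_self]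
    · show (a : MulAut P) ((k : MulAut P) ((a : MulAut P)⁻¹ u)) * u⁻¹ ∈ B
      have := hB _ a.2 _ (hk.2 ((a : MulAut P)⁻¹ u))
      rwa [map_mul, map_inv, MulAut.apply_inv_self] at this⟩
  let c : ℕ → Subgroup P := fun i => if i = 0 then ⊥ else if i = 1 then B else ⊤
  have hKp : IsPGroup p K := isPGroup_of_coprime_trivial fun a ha hco => by
    have hst : StabSeries c 2 (a : MulAut P) := by
      intro i hi u hu
      interval_cases i
      · show (a : MulAut P) u * u⁻¹ ∈ (⊥ : Subgroup P)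
        rw [ha.1 u hu, mul_inv_cancel]
        exact one_mem _
      · exact ha.2 u
    refine Subtype.ext (MulEquiv.ext fun u => ?_)
    exact fix_of_stab (hS.to_le hP.1.1) (c := c) rfl hst (by rwa [Subgroup.orderOf_coe]) 2 le_rfl u
      (Subgroup.mem_top u)
  have hgA : P.normalizerMonoidHom ⟨g, hg.2⟩ ∈ F.autGroup P :=
    autInducedBy_le_autGroup hP.1.1 (mem_autInducedBy_iff.2 ⟨g, hg.1, hg.2, fun _ => rfl⟩)
  refine mem_of_normal_pSubgroup hP.1 (isRadical_of_essential hS hP) hKn hKp hg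
    (α := ⟨_, hgA⟩) ⟨fun u hu => Subtype.ext (hfix u hu), fun u => ?_⟩ (fun _ => rfl)
  obtain ⟨b, hb, he⟩ := hd u
  have h1 : P.normalizerMonoidHom ⟨g, hg.2⟩ u = b * u := Subtype.ext he
  show P.normalizerMonoidHom ⟨g, hg.2⟩ u * u⁻¹ ∈ B
  rw [h1, mul_inv_cancel_right]
  exact hb

namespace AIdx

variable {x : Ω}

/-- `|Q : A ∩ Q| = p` for `Q` not inside `A`. -/
theorem relIndex_inter (h : AIdx S A p) {Q : Subgroup Ω} (hQ : Q ≤ S) (hxQ : x ∈ Q) (hxA : x ∉ A) :
    (A ⊓ Q).relIndex Q = p := by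
  have hne : A.relIndex Q ≠ 1 := fun e => hxA (Subgroup.relIndex_eq_one.1 e hxQ)
  have hn : (A.subgroupOf S).Normal := ⟨fun n hn g => h.conj_mem g.2 hn⟩
  have h1 : A.relIndex Q ∣ A.relIndex S := by
    have e := Subgroup.relIndex_dvd_index_of_normal (A.subgroupOf S) (Q.subgroupOf S)
    rw [Subgroup.relIndex_subgroupOf hQ] at e
    exact e
  rw [h.index] at h1
  rw [Subgroup.inf_relIndex_right]
  exact ((Nat.dvd_prime (Fact.out : p.Prime)).1 h1).resolve_left hne

theorem decomp_of_le (h : AIdx S A p) {Q : Subgroup Ω} (hQ : Q ≤ S) (hxQ : x ∈ Q) (hxA : x ∉ A)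
    {u : Ω} (hu : u ∈ Q) : ∃ b ∈ A ⊓ Q, ∃ i : ℤ, u = b * x ^ i := by
  obtain ⟨b, hb, i, rfl⟩ := h.decomp (hQ hxQ) hxA (hQ hu)
  refine ⟨b, ⟨hb, ?_⟩, i, rfl⟩
  have := mul_mem hu (inv_mem (zpow_mem hxQ i))
  rwa [mul_inv_cancel_right] at this

theorem exists_mem_not_mem (h : AIdx S A p) (hP : F.IsEssential p P) (hPA : P ≠ A) :
    ∃ x ∈ P, x ∉ A := by
  by_contra hc
  push Not at hc
  refine hPA (le_antisymm hc fun a ha => centralizerIn_le_of_centric hP.1 ?_)
  exact mem_centralizerIn.2 ⟨h.le ha, fun u hu => h.commute (hc u hu) ha⟩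

theorem zS_le_essential (hP : F.IsEssential p P) : CfsgLib.FusionClosed.zS S ≤ P := fun z hz =>
  centralizerIn_le_of_centric hP.1
    (mem_centralizerIn.2 ⟨CfsgLib.FusionClosed.zS_le hz, fun w hw => (mem_zS.1 hz).2 w (hP.1.1 hw)⟩)

theorem mem_normalizer_iff' (h : AIdx S A p) (hPS : P ≤ S) (hxP : x ∈ P) (hxA : x ∉ A) {a : Ω}
    (ha : a ∈ A) : a ∈ normalizerIn S P ↔ ⁅x, a⁆ ∈ A ⊓ P := by
  constructor
  · intro hn
    refine ⟨h.commutator_mem (hPS hxP) ha, ?_⟩
    have h1 : a * x⁻¹ * a⁻¹ ∈ P := (Subgroup.mem_normalizer_iff.1 hn.2 _).1 (inv_mem hxP)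
    rw [commutatorElement_def, mul_assoc (x * a), show x * a * (x⁻¹ * a⁻¹) = x * (a * x⁻¹ * a⁻¹) by
      group]
    exact mul_mem hxP h1
  · intro hd
    refine ⟨h.le ha, ?_⟩
    have := finite_of_le hPS
    show a ∈ Subgroup.normalizer (P : Set Ω)
    rw [Subgroup.mem_normalizer_iff_map_conj_eq]
    refine Subgroup.eq_of_le_of_card_ge ?_
      (Subgroup.card_map_of_injective (MulAut.conj a).injective).ge
    rintro _ ⟨u, hu, rfl⟩
    obtain ⟨b, hb, i, rfl⟩ := h.decomp_of_le hPS hxP hxA hu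
    show MulAut.conj a (b * x ^ i) ∈ P
    rw [map_mul, map_zpow, MulAut.conj_apply, MulAut.conj_apply, h.commute ha hb.1,
      mul_inv_cancel_right]
    refine mul_mem hb.2 (zpow_mem ?_ i)
    rw [show a * x * a⁻¹ = ⁅x, a⁆⁻¹ * x by rw [commutatorElement_def]; group]
    exact mul_mem (inv_mem hd.2) hxP

theorem card_preimage (h : AIdx S A p) (hx : x ∈ S) (hxA : x ∉ A) (B : Subgroup Ω) :
    Nat.card (((B.subgroupOf A).comap (h.dA hx)).map A.subtype) =
      Nat.card (CfsgLib.FusionClosed.zS S) * Nat.card (B ⊓ ⁅S, S⁆ : Subgroup Ω) := by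
  have := finite_of_le h.le
  rw [Subgroup.card_map_of_injective A.subtype_injective, card_comap_eq, h.card_ker hx hxA,
    h.range_eq hx hxA]
  congr 1
  exact Nat.card_congr (Subgroup.subgroupOfEquivOfLe
    (inf_le_right.trans h.commutator_le_A : B ⊓ ⁅S, S⁆ ≤ A)).toEquiv

theorem z2_inf_eq (h : AIdx S A p) (hx : x ∈ S) (hxA : x ∉ A) :
    A ⊓ z2S S = ((((CfsgLib.FusionClosed.zS S).subgroupOf A)).comap (h.dA hx)).map A.subtype := by
  ext a
  constructor
  · rintro ⟨ha, hz⟩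
    exact ⟨⟨a, ha⟩, (h.mem_z2S_iff hx hxA ha).1 hz, rfl⟩
  · rintro ⟨w, hw, rfl⟩
    exact ⟨w.2, (h.mem_z2S_iff hx hxA w.2).2 hw⟩

theorem normalizer_inter_eq (h : AIdx S A p) (hPS : P ≤ S) (hxP : x ∈ P) (hxA : x ∉ A) :
    A ⊓ normalizerIn S P = (((A ⊓ P).subgroupOf A).comap (h.dA (hPS hxP))).map A.subtype := by
  ext a
  constructor
  · rintro ⟨ha, hn⟩
    exact ⟨⟨a, ha⟩, (h.mem_normalizer_iff' hPS hxP hxA ha).1 hn, rfl⟩
  · rintro ⟨w, hw, rfl⟩
    exact ⟨w.2, (h.mem_normalizer_iff' hPS hxP hxA w.2).2 hw⟩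

theorem relIndex_normalizer (h : AIdx S A p) (hPS : P ≤ S) (hxP : x ∈ P) (hxA : x ∉ A) :
    Nat.card (A ⊓ normalizerIn S P : Subgroup Ω) =
      P.relIndex (normalizerIn S P) * Nat.card (A ⊓ P : Subgroup Ω) := by
  have h1 := Subgroup.relIndex_mul_relIndex ⊥ P (normalizerIn S P) bot_le (le_normalizerIn hPS)
  have h2 := Subgroup.relIndex_mul_relIndex ⊥ (A ⊓ P) P bot_le inf_le_right
  have h3 := Subgroup.relIndex_mul_relIndex ⊥ (A ⊓ normalizerIn S P) (normalizerIn S P) bot_le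
    inf_le_right
  rw [Subgroup.relIndex_bot_left, Subgroup.relIndex_bot_left] at h1 h2 h3
  rw [h.relIndex_inter hPS hxP hxA] at h2
  rw [h.relIndex_inter (normalizerIn_le S P) (le_normalizerIn hPS hxP) hxA, ← h1, ← h2] at h3
  exact Nat.eq_of_mul_eq_mul_right (Fact.out : p.Prime).pos (h3.trans (by ring))

theorem relIndex_normalizer_eq (h : AIdx S A p) (hF : F.IsSaturated p) (hP : F.IsEssential p P)
    (hle : P.relIndex (normalizerIn S P) ≤ p) : P.relIndex (normalizerIn S P) = p := by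
  have hlt : P < normalizerIn S P :=
    lt_normalizerIn h.isP (lt_of_le_of_ne hP.1.1 (ne_self_of_essential h.isP hF hP))
  have := finite_of_le (normalizerIn_le S P)
  obtain ⟨e, he⟩ := (h.isP.to_le (normalizerIn_le S P)).index (P.subgroupOf (normalizerIn S P))
  rw [← Subgroup.relIndex] at he
  have he0 : e ≠ 0 := fun e0 => by
    rw [e0, pow_zero] at he
    exact hlt.not_ge (Subgroup.relIndex_eq_one.1 he)
  rw [he] at hle ⊢
  have he1 : e ≤ 1 := (Nat.pow_le_pow_iff_right (Fact.out : p.Prime).one_lt).1 (by simpa using hle)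
  rw [show e = 1 by omega, pow_one]

/-- The case `A ∩ P = Z(S)`. -/
theorem essential_abelian (h : AIdx S A p) (hF : F.IsSaturated p) (hP : F.IsEssential p P)
    (hPA : P ≠ A) (hxP : x ∈ P) (hxA : x ∉ A) (hB : A ⊓ P = CfsgLib.FusionClosed.zS S) :
    IsMulCommutative P ∧ Nat.card (CfsgLib.FusionClosed.zS S ⊓ ⁅S, S⁆ : Subgroup Ω) = p ∧
      P.relIndex (normalizerIn S P) = p ∧ z2S S ≤ A := by
  have hPS := hP.1.1
  have hx := hPS hxP
  have hzP := zS_le_essential hP
  have hdec : ∀ u ∈ P, ∃ b ∈ CfsgLib.FusionClosed.zS S, ∃ i : ℤ, u = b * x ^ i := fun u hu => by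
    obtain ⟨b, hb, i, e⟩ := h.decomp_of_le hPS hxP hxA hu
    exact ⟨b, hB ▸ hb, i, e⟩
  have hcomm : IsMulCommutative P := by
    refine ⟨⟨fun u v => Subtype.ext ?_⟩⟩
    show (u : Ω) * v = v * u
    obtain ⟨b, hb, i, hu⟩ := hdec u u.2
    obtain ⟨c, hc, j, hv⟩ := hdec v v.2
    rw [hu, hv]
    have hbC : ∀ w ∈ S, Commute b w := fun w hw => ((mem_zS.1 hb).2 w hw).symm
    have hcC : ∀ w ∈ S, Commute c w := fun w hw => ((mem_zS.1 hc).2 w hw).symm
    exact ((hbC c (CfsgLib.FusionClosed.zS_le hc)).mul_right (hbC _ (zpow_mem hx j))).mul_left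
      ((hcC _ (zpow_mem hx i)).symm.mul_right ((Commute.refl x).zpow_zpow i j))
  have hk : P.relIndex (normalizerIn S P) =
      Nat.card (CfsgLib.FusionClosed.zS S ⊓ ⁅S, S⁆ : Subgroup Ω) := by
    have h1 := h.relIndex_normalizer hPS hxP hxA
    rw [h.normalizer_inter_eq hPS hxP hxA, h.card_preimage hx hxA, hB] at h1
    have hpos : 0 < Nat.card (CfsgLib.FusionClosed.zS S) := by
      have := finite_of_le (CfsgLib.FusionClosed.zS_le (S := S))
      exact Nat.card_pos
    exact Nat.eq_of_mul_eq_mul_left hpos ((mul_comm _ _).trans h1.symm)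
  have hle : P.relIndex (normalizerIn S P) ≤ p := by
    have := finite_of_le hPS
    have := finite_of_le (normalizerIn_le S P)
    have hzi : ((CfsgLib.FusionClosed.zS S).subgroupOf P).index = p := by
      rw [← hB]
      exact h.relIndex_inter hPS hxP hxA
    refine le_trans ?_ (card_autInducedBy_le h.isP hF hP hzi ?_ ?_)
    · have hN : normalizerIn S P ≤ Subgroup.normalizer (P : Set Ω) := inf_le_right
      let f : normalizerIn S P →* MulAut P := P.normalizerMonoidHom.comp (Subgroup.inclusion hN)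
      have hrange : f.range = autInducedBy S P := by
        ext a
        rw [mem_autInducedBy_iff]
        constructor
        · rintro ⟨g, rfl⟩
          exact ⟨g, g.2.1, hN g.2, fun _ => rfl⟩
        · rintro ⟨g, hg, hgn, hv⟩
          exact ⟨⟨g, hg, hgn⟩, MulEquiv.ext fun u => Subtype.ext (hv u).symm⟩
      have hker : f.ker ≤ P.subgroupOf (normalizerIn S P) := fun g hg =>
        centralizerIn_le_of_centric hP.1 (mem_centralizerIn'.2 ⟨g.2.1, fun u hu =>
          congrArg Subtype.val (MulEquiv.congr_fun hg ⟨u, hu⟩)⟩)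
      rw [← hrange, ← Subgroup.index_ker]
      exact Nat.le_of_dvd (Nat.pos_of_ne_zero Subgroup.index_ne_zero_of_finite)
        (Subgroup.index_dvd_of_le hker)
    · intro u hu y hy
      obtain ⟨g, hg, -, hv⟩ := mem_autInducedBy_iff.1 hu
      exact Subtype.ext ((hv y).trans (mul_inv_eq_iff_eq_mul.2 ((mem_zS.1 hy).2 g hg)))
    · intro u hu y
      obtain ⟨g, hg, -, hv⟩ := mem_autInducedBy_iff.1 hu
      show ((u y * y⁻¹ : P) : Ω) ∈ CfsgLib.FusionClosed.zS S
      rw [← hB]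
      refine ⟨h.commutator_le_A ?_, (u y * y⁻¹).2⟩
      rw [Subgroup.coe_mul, Subgroup.coe_inv, hv, ← commutatorElement_def]
      exact Subgroup.commutator_mem_commutator hg (hPS y.2)
  have hidx := h.relIndex_normalizer_eq hF hP hle
  refine ⟨hcomm, hk ▸ hidx, hidx, fun s hs => ?_⟩
  by_contra hsA
  have hs' := mem_z2S.1 hs
  have hR : ⁅S, S⁆ ≤ CfsgLib.FusionClosed.zS S := by
    rw [← h.dA_range hs'.1 hsA]
    rintro _ ⟨_, ⟨a, rfl⟩, rfl⟩
    exact hs'.2 a (h.le a.2)
  have hN : normalizerIn S P = S := by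
    refine le_antisymm (normalizerIn_le S P) ?_
    refine (sup_zpowers_eq h.le h.index hx hxA).ge.trans (sup_le (fun a ha => ?_)
      (Subgroup.zpowers_le.2 (le_normalizerIn hPS hxP)))
    exact (h.mem_normalizer_iff' hPS hxP hxA ha).2 ⟨h.commutator_mem hx ha,
      hzP (hR (Subgroup.commutator_mem_commutator hx (h.le ha)))⟩
  exact hPA (h.uniq P hPS hcomm (by rwa [hN] at hidx))

/-- The case `A ∩ P ≠ Z(S)`. -/
theorem essential_nonabelian (h : AIdx S A p) (hF : F.IsSaturated p) (hP : F.IsEssential p P)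
    (hxP : x ∈ P) (hxA : x ∉ A) (hB : A ⊓ P ≠ CfsgLib.FusionClosed.zS S) :
    z2S S ≤ A ∧ A ⊓ P = z2S S ∧
      Subgroup.center P = (CfsgLib.FusionClosed.zS S).subgroupOf P ∧
      Nat.card (CfsgLib.FusionClosed.zS S ⊓ ⁅S, S⁆ : Subgroup Ω) = p ∧
      P.relIndex (normalizerIn S P) = p := by
  have hp : p.Prime := Fact.out
  have hPS := hP.1.1
  have hx := hPS hxP
  have hzP := zS_le_essential hP
  have := finite_of_le hPS
  have := finite_of_le (CfsgLib.FusionClosed.zS_le (S := S))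
  have := finite_of_le (inf_le_right.trans hPS : A ⊓ P ≤ S)
  have hzB : CfsgLib.FusionClosed.zS S ≤ A ⊓ P := le_inf h.zS_le hzP
  set Bp := (A ⊓ P).subgroupOf P with hBp
  have hBpi : Bp.index = p := h.relIndex_inter hPS hxP hxA
  obtain ⟨α, hα, u₀, hu₀, hout⟩ : ∃ α ∈ F.autGroup P, ∃ u ∈ Bp, α u ∉ Bp := by
    by_contra hc
    push Not at hc
    have hle : A ⊓ normalizerIn S P ≤ A ⊓ P := fun g hg => ⟨hg.1,
      mem_of_stab_invariant h.isP hP Bp hc hg.2 (fun u hu => by
        exact mul_inv_eq_iff_eq_mul.2 (h.commute hg.1 hu.1)) fun u => by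
        have h1 : g * (u : Ω) * g⁻¹ * (u : Ω)⁻¹ ∈ A ⊓ P := by
          refine ⟨h.commutator_le_A ?_, mul_mem ((Subgroup.mem_normalizer_iff.1 hg.2.2 u).1 u.2)
            (P.inv_mem u.2)⟩
          rw [← commutatorElement_def]
          exact Subgroup.commutator_mem_commutator (h.le hg.1) (hPS u.2)
        exact ⟨⟨_, h1.2⟩, h1, (inv_mul_cancel_right _ _).symm⟩⟩
    have h1 := h.relIndex_normalizer hPS hxP hxA
    rw [le_antisymm hle (inf_le_inf_left A (le_normalizerIn hPS))] at h1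
    have h2 : P.relIndex (normalizerIn S P) = 1 :=
      (Nat.eq_of_mul_eq_mul_right Nat.card_pos ((one_mul _).trans h1)).symm
    exact (lt_normalizerIn h.isP (lt_of_le_of_ne hPS (ne_self_of_essential h.isP hF hP))).not_ge
      (Subgroup.relIndex_eq_one.1 h2)
  have hinter : Bp.map α.toMonoidHom ⊓ Bp ≤ (CfsgLib.FusionClosed.zS S).subgroupOf P := by
    rintro w ⟨⟨v, hv, rfl⟩, hw⟩
    refine h.fix (hPS (α u₀).2) (fun e => hout ⟨e, (α u₀).2⟩) hw.1 ?_
    have h1 : u₀ * v = v * u₀ := Subtype.ext (h.commute hu₀.1 hv.1)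
    have h2 := congrArg α h1
    rw [map_mul, map_mul] at h2
    exact congrArg Subtype.val h2
  have hcardB : Nat.card (A ⊓ P : Subgroup Ω) = p * Nat.card (CfsgLib.FusionClosed.zS S) := by
    have h1 := Subgroup.relIndex_mul_relIndex ⊥ (CfsgLib.FusionClosed.zS S) (A ⊓ P) bot_le hzB
    rw [Subgroup.relIndex_bot_left, Subgroup.relIndex_bot_left] at h1
    have h2 : (CfsgLib.FusionClosed.zS S).relIndex (A ⊓ P) ≤ p := by
      rw [← Subgroup.relIndex_subgroupOf (inf_le_right : A ⊓ P ≤ P), ← hBp]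
      refine (Subgroup.relIndex_le_of_le_left hinter ?_).trans ?_
      · exact Subgroup.index_ne_zero_of_finite
      rw [Subgroup.inf_relIndex_right]
      refine (Subgroup.relIndex_le_of_le_right le_top ?_).trans (le_of_eq ?_)
      · rw [Subgroup.relIndex_top_right]
        exact Subgroup.index_ne_zero_of_finite
      · rw [Subgroup.relIndex_top_right]
        exact (Subgroup.index_map_of_bijective α.bijective _).trans hBpi
    obtain ⟨e, he⟩ := (h.isP.to_le (inf_le_right.trans hPS : A ⊓ P ≤ S)).index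
      ((CfsgLib.FusionClosed.zS S).subgroupOf (A ⊓ P))
    rw [← Subgroup.relIndex] at he
    rw [he] at h2 h1
    have he1 : e ≤ 1 := (Nat.pow_le_pow_iff_right hp.one_lt).1 (by simpa using h2)
    have he0 : e ≠ 0 := fun e0 => by
      rw [e0, pow_zero, mul_one] at h1
      exact hB (Subgroup.eq_of_le_of_card_ge hzB h1.ge).symm
    rw [show e = 1 by omega, pow_one, mul_comm] at h1
    exact h1.symm
  have hcenter : Subgroup.center P = (CfsgLib.FusionClosed.zS S).subgroupOf P := by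
    refine le_antisymm (fun u hu => ?_) fun u hu => ?_
    · have huA : (u : Ω) ∈ A := by
        by_contra huA
        refine hB (le_antisymm (fun b hb => h.fix (hPS u.2) huA hb.1 ?_) hzB)
        exact (congrArg Subtype.val (Subgroup.mem_center_iff.1 hu ⟨b, hb.2⟩)).symm
      exact h.fix hx hxA huA (congrArg Subtype.val (Subgroup.mem_center_iff.1 hu ⟨x, hxP⟩))
    · exact Subgroup.mem_center_iff.2 fun v => Subtype.ext ((mem_zS.1 hu).2 v (hPS v.2))
  have hK2P : A ⊓ z2S S ≤ A ⊓ P := fun a ha => by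
    refine ⟨ha.1, mem_of_stab_invariant h.isP hP (Subgroup.center P)
      (fun β _ u hu => (MulEquivClass.apply_mem_center_iff β).2 hu)
      ((h.mem_normalizer_iff' hPS hxP hxA ha.1).2 ?_) (fun u hu => ?_) fun u => ?_⟩
    · exact hzB ((h.mem_z2S_iff hx hxA ha.1).1 ha.2)
    · rw [hcenter] at hu
      exact mul_inv_eq_iff_eq_mul.2 ((mem_zS.1 hu).2 a (h.le ha.1))
    · have h1 : ⁅a, (u : Ω)⁆ ∈ CfsgLib.FusionClosed.zS S := (mem_z2S.1 ha.2).2 u (hPS u.2)
      refine ⟨⟨_, hzP h1⟩, ?_, ?_⟩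
      · rw [hcenter]
        exact h1
      · show a * (u : Ω) * a⁻¹ = ⁅a, (u : Ω)⁆ * u
        rw [commutatorElement_def, inv_mul_cancel_right]
  have hPK2 : A ⊓ P ≤ A ⊓ z2S S := fun b hb => by
    refine ⟨hb.1, (h.mem_z2S_iff hx hxA hb.1).2 ?_⟩
    have hcard : Nat.card (P ⧸ Subgroup.center P) = p ^ 2 := by
      rw [← Subgroup.index_eq_card, hcenter]
      have h1 := Subgroup.relIndex_mul_relIndex ⊥ (CfsgLib.FusionClosed.zS S) P bot_le hzP
      have h2 := Subgroup.relIndex_mul_relIndex ⊥ (A ⊓ P) P bot_le inf_le_right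
      rw [Subgroup.relIndex_bot_left, Subgroup.relIndex_bot_left] at h1 h2
      rw [h.relIndex_inter hPS hxP hxA, hcardB, ← h1] at h2
      refine Nat.eq_of_mul_eq_mul_left (Nat.card_pos (α := CfsgLib.FusionClosed.zS S)) ?_
      rw [← Subgroup.relIndex]
      linarith [h2, pow_two p, mul_comm (Nat.card (CfsgLib.FusionClosed.zS S)) (p * p),
        mul_assoc p (Nat.card (CfsgLib.FusionClosed.zS S)) p,
        mul_comm p (Nat.card (CfsgLib.FusionClosed.zS S)),
        mul_assoc (Nat.card (CfsgLib.FusionClosed.zS S)) p p]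
    have hqc := (IsPGroup.isMulCommutative_of_card_eq_prime_sq hcard).is_comm.comm
    have h3 : (⁅(⟨x, hxP⟩ : P), ⟨b, hb.2⟩⁆ : P) ∈ Subgroup.center P := by
      rw [← QuotientGroup.eq_one_iff (N := Subgroup.center P)]
      show (QuotientGroup.mk' (Subgroup.center P)) ⁅(⟨x, hxP⟩ : P), ⟨b, hb.2⟩⁆ = 1
      rw [map_commutatorElement, commutatorElement_eq_one_iff_mul_comm]
      exact hqc _ _
    rw [hcenter] at h3
    exact h3
  have hBeq : A ⊓ P = A ⊓ z2S S := le_antisymm hPK2 hK2P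
  have hR : Nat.card (CfsgLib.FusionClosed.zS S ⊓ ⁅S, S⁆ : Subgroup Ω) = p := by
    have h1 := h.card_preimage hx hxA (CfsgLib.FusionClosed.zS S)
    rw [← h.z2_inf_eq hx hxA, ← hBeq, hcardB, mul_comm] at h1
    exact (Nat.eq_of_mul_eq_mul_left Nat.card_pos h1).symm
  have hle : P.relIndex (normalizerIn S P) ≤ p := by
    have hsub : A ⊓ normalizerIn S P ≤ (h.kD hx 3).map A.subtype := by
      rintro a ⟨ha, hn⟩
      refine ⟨⟨a, ha⟩, ?_, rfl⟩
      show h.dA hx ⟨a, ha⟩ ∈ h.kD hx 2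
      have h1 := hPK2 ((h.mem_normalizer_iff' hPS hxP hxA ha).1 hn)
      show h.dA hx (h.dA hx ⟨a, ha⟩) ∈ h.kD hx 1
      show h.dA hx (h.dA hx (h.dA hx ⟨a, ha⟩)) = 1
      rw [← MonoidHom.mem_ker, h.dA_ker hx hxA]
      exact (h.mem_z2S_iff hx hxA h1.1).1 h1.2
    have := finite_of_le h.le
    have := finite_of_le ((Subgroup.map_subtype_le (h.kD hx 3)).trans h.le)
    have h2 : Nat.card (A ⊓ normalizerIn S P : Subgroup Ω) ≤
        Nat.card (CfsgLib.FusionClosed.zS S) * p ^ 2 :=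
      (Subgroup.card_le_of_le hsub).trans
        ((Subgroup.card_map_of_injective A.subtype_injective).le.trans
          (h.card_kD_le hx hxA hR 2))
    rw [h.relIndex_normalizer hPS hxP hxA, hcardB] at h2
    refine Nat.le_of_mul_le_mul_right (h2.trans (le_of_eq ?_))
      (Nat.mul_pos hp.pos (Nat.card_pos (α := CfsgLib.FusionClosed.zS S)))
    ring
  have hz2 : z2S S ≤ A := by
    intro s hs
    by_contra hsA
    have hs' := mem_z2S.1 hs
    have hall : A ≤ A ⊓ P := fun a ha => hK2P ⟨ha, (h.mem_z2S_iff hs'.1 hsA ha).2 (hs'.2 a (h.le ha))⟩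
    refine ne_self_of_essential h.isP hF hP (le_antisymm hPS ?_)
    exact (sup_zpowers_eq h.le h.index hx hxA).ge.trans
      (sup_le (fun a ha => (hall ha).2) (Subgroup.zpowers_le.2 hxP))
  exact ⟨hz2, hBeq.trans (inf_eq_right.2 hz2), hcenter, hR, h.relIndex_normalizer_eq hF hP hle⟩

/-- Summary for an essential subgroup other than `A`. -/
theorem essential_main (h : AIdx S A p) (hF : F.IsSaturated p) (hP : F.IsEssential p P)
    (hPA : P ≠ A) :
    z2S S ≤ A ∧ Nat.card (CfsgLib.FusionClosed.zS S ⊓ ⁅S, S⁆ : Subgroup Ω) = p ∧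
      P.relIndex (normalizerIn S P) = p ∧ ∃ x ∈ P, x ∉ A ∧
        ((IsMulCommutative P ∧ A ⊓ P = CfsgLib.FusionClosed.zS S) ∨
          (A ⊓ P = z2S S ∧
            Subgroup.center P = (CfsgLib.FusionClosed.zS S).subgroupOf P)) := by
  obtain ⟨x, hxP, hxA⟩ := h.exists_mem_not_mem hP hPA
  by_cases hB : A ⊓ P = CfsgLib.FusionClosed.zS S
  · obtain ⟨h1, h2, h3, h4⟩ := h.essential_abelian hF hP hPA hxP hxA hB
    exact ⟨h4, h2, h3, x, hxP, hxA, Or.inl ⟨h1, hB⟩⟩
  · obtain ⟨h1, h2, h3, h4, h5⟩ := h.essential_nonabelian hF hP hxP hxA hB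
    exact ⟨h1, h4, h5, x, hxP, hxA, Or.inr ⟨h2, h3⟩⟩

end AIdx

end CfsgLib.FusionClosed
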