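import Mathlib.GroupTheory.FiniteAbelian.Basic
import Mathlib.GroupTheory.PGroup
import Mathlib.Algebra.Group.End
import Mathlib.Algebra.Field.ZMod

/-!
# Abelian `p`-groups with and without a repeated invariant

* `PowCyclic G p`: each `Ω₁(G) ∩ G^(p^k)` is cyclic modulo `G^(p^(k+1))`.
* `powCyclic_or_repeated`: either this holds or `G` has a factor `C × C`.
* `exists_bad_subgroup`: with a factor `C × C` some `p'`-group of automorphisms is non-abelian or of
  exponent not dividing `p - 1`.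
-/

set_option autoImplicit false

namespace CfsgLib.FusionClosed

/-- Each `Ω₁(G) ∩ G^(p^k)` is cyclic modulo `G^(p^(k+1))`. -/
def PowCyclic (G : Type*) [CommGroup G] (p : ℕ) : Prop :=
  ∀ (k : ℕ) (a b : G), (a ^ p ^ k) ^ p = 1 → (b ^ p ^ k) ^ p = 1 →
    (¬ ∃ w : G, a ^ p ^ k = w ^ p ^ (k + 1)) →
      ∃ (n : ℕ) (w : G), b ^ p ^ k = (a ^ p ^ k) ^ n * w ^ p ^ (k + 1)

theorem powCyclic_of_equiv {G G' : Type*} [CommGroup G] [CommGroup G'] {p : ℕ} (f : G ≃* G')
    (h : PowCyclic G' p) : PowCyclic G p := by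
  intro k a b ha hb hn
  obtain ⟨n, w, hw⟩ := h k (f a) (f b) (by rw [← map_pow, ← map_pow, ha, map_one])
    (by rw [← map_pow, ← map_pow, hb, map_one])
    (fun ⟨w, hw⟩ => hn ⟨f.symm w, f.injective (by rw [map_pow, map_pow, f.apply_symm_apply, hw])⟩)
  exact ⟨n, f.symm w, f.injective (by
    rw [map_mul, map_pow, map_pow, map_pow, map_pow, f.apply_symm_apply, hw])⟩

theorem exists_root_of_ne {C : Type*} [CommGroup C] [Finite C] [IsCyclic C] {p e k : ℕ}
    (hp : p.Prime) (hC : Nat.card C = p ^ e) {a : C} (he : e ≠ k + 1) (ha : (a ^ p ^ k) ^ p = 1) :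
    ∃ w : C, a ^ p ^ k = w ^ p ^ (k + 1) := by
  rcases Nat.lt_or_ge k e with hlt | hle
  · obtain ⟨g, hg⟩ := IsCyclic.exists_generator (α := C)
    obtain ⟨m, hm⟩ := (Submonoid.mem_powers_iff _ _).1 (mem_powers_iff_mem_zpowers.2 (hg a))
    have hord : orderOf g = p ^ e := by rw [orderOf_eq_card_of_forall_mem_zpowers hg, hC]
    rw [← hm, ← pow_mul, ← pow_mul] at ha
    have h1 : p ^ e ∣ m * (p ^ k * p) := hord ▸ orderOf_dvd_of_pow_eq_one ha
    have h2 : p ^ (k + 2) ∣ p ^ e := pow_dvd_pow p (by omega)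
    have h3 : p ∣ m := by
      have h4 := h2.trans h1
      rw [pow_succ p (k + 1), ← pow_succ, mul_comm m] at h4
      exact Nat.dvd_of_mul_dvd_mul_left (pow_pos hp.pos _) h4
    obtain ⟨m', rfl⟩ := h3
    exact ⟨g ^ m', by rw [← hm, ← pow_mul, ← pow_mul]; ring_nf⟩
  · exact ⟨1, by
      rw [one_pow, ← Nat.sub_add_cancel hle, pow_add, mul_comm, pow_mul, ← hC, pow_card_eq_one',
        one_pow]⟩

theorem exists_pow_of_eq {C : Type*} [CommGroup C] [Finite C] [IsCyclic C] {p k : ℕ}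
    (hp : p.Prime) (hC : Nat.card C = p ^ (k + 1)) {a b : C} (ha : a ^ p ^ k ≠ 1) :
    ∃ n : ℕ, b ^ p ^ k = (a ^ p ^ k) ^ n := by
  have := Fact.mk hp
  obtain ⟨g, hg⟩ := IsCyclic.exists_generator (α := C)
  obtain ⟨s, rfl⟩ := (Submonoid.mem_powers_iff _ _).1 (mem_powers_iff_mem_zpowers.2 (hg a))
  obtain ⟨t, rfl⟩ := (Submonoid.mem_powers_iff _ _).1 (mem_powers_iff_mem_zpowers.2 (hg b))
  simp only [← pow_mul, mul_comm s, mul_comm t] at ha ⊢
  simp only [pow_mul] at ha ⊢
  have h1 : (g ^ p ^ k) ^ p = 1 := by rw [← pow_mul, ← pow_succ, ← hC, pow_card_eq_one']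
  have hs : ((s : ℕ) : ZMod p) ≠ 0 := fun h => ha (by
    obtain ⟨c, rfl⟩ := (ZMod.natCast_eq_zero_iff s p).1 h
    rw [pow_mul, h1, one_pow])
  refine ⟨((t : ZMod p) * (s : ZMod p)⁻¹).val, ?_⟩
  rw [← pow_mul (g ^ p ^ k)]
  apply pow_eq_pow_iff_modEq.2
  apply Nat.ModEq.of_dvd (orderOf_dvd_of_pow_eq_one h1)
  rw [← ZMod.natCast_eq_natCast_iff, Nat.cast_mul, ZMod.natCast_zmod_val]
  rw [mul_left_comm]
  exact (mul_one _).symm.trans (congrArg _ (mul_inv_cancel₀ hs).symm)

theorem powCyclic_pi {ι : Type*} {C : ι → Type*} [∀ i, CommGroup (C i)] [∀ i, Finite (C i)]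
    [∀ i, IsCyclic (C i)] {p : ℕ} (hp : p.Prime) {e : ι → ℕ} (hC : ∀ i, Nat.card (C i) = p ^ e i)
    (he : Function.Injective e) : PowCyclic ((i : ι) → C i) p := by
  classical
  intro k a b ha hb hn
  have hroot : ∀ x : (i : ι) → C i, (x ^ p ^ k) ^ p = 1 → ∀ i, e i ≠ k + 1 →
      ∃ w : C i, (x i) ^ p ^ k = w ^ p ^ (k + 1) := fun x hx i hi =>
    exists_root_of_ne hp (hC i) hi (congrFun hx i)
  by_cases hex : ∃ i, e i = k + 1
  · obtain ⟨i, hi⟩ := hex
    have hai : a i ^ p ^ k ≠ 1 := fun h => hn (by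
      refine ⟨fun j => if hj : e j = k + 1 then 1 else (hroot a ha j hj).choose, funext fun j => ?_⟩
      simp only [Pi.pow_apply]
      split
      · rename_i hj
        obtain rfl : j = i := he (hj.trans hi.symm)
        rw [h, one_pow]
      · rename_i hj
        exact (hroot a ha j hj).choose_spec)
    obtain ⟨n, hn'⟩ := exists_pow_of_eq hp (hi ▸ hC i) (b := b i) hai
    refine ⟨n, fun j => if hj : e j = k + 1 then 1 else
      (hroot b hb j hj).choose * ((hroot a ha j hj).choose ^ n)⁻¹, funext fun j => ?_⟩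
    simp only [Pi.pow_apply, Pi.mul_apply]
    split
    · rename_i hj
      obtain rfl : j = i := he (hj.trans hi.symm)
      rw [one_pow, mul_one, hn']
    · rename_i hj
      rw [mul_pow, inv_pow, ← pow_mul _ n, mul_comm n, pow_mul,
        ← (hroot a ha j hj).choose_spec, ← (hroot b hb j hj).choose_spec,
        mul_comm (b j ^ p ^ k), mul_inv_cancel_left]
  · push Not at hex
    exact absurd ⟨fun j => (hroot a ha j (hex j)).choose,
      funext fun j => (hroot a ha j (hex j)).choose_spec⟩ hn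

variable {p : ℕ} [Fact p.Prime]

theorem powCyclic_or_repeated {G : Type*} [CommGroup G] [Finite G] (hG : IsPGroup p G) :
    PowCyclic G p ∨ ∃ (n : ℕ) (H : Type) (_ : CommGroup H), 0 < n ∧
      Nonempty (G ≃* (Multiplicative (ZMod (p ^ n)) × Multiplicative (ZMod (p ^ n))) × H) := by
  classical
  have hp : p.Prime := Fact.out
  obtain ⟨ι, _, m, hm, ⟨f⟩⟩ := CommGroup.equiv_prod_multiplicative_zmod_of_finite G
  have hm' : ∀ i, ∃ k, m i = p ^ k := by
    intro i
    have hm0 : NeZero (m i) := ⟨by have := hm i; omega⟩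
    obtain ⟨k, hk⟩ := IsPGroup.iff_orderOf.mp hG
      (f.symm (Pi.mulSingle i (Multiplicative.ofAdd (1 : ZMod (m i)))))
    exact ⟨k, by
      rwa [MulEquiv.orderOf_eq, orderOf_piMulSingle, orderOf_ofAdd_eq_addOrderOf,
        ZMod.addOrderOf_one] at hk⟩
  choose e he using hm'
  obtain rfl : m = fun i => p ^ e i := funext he
  by_cases hinj : Function.Injective e
  · left
    refine powCyclic_of_equiv f (powCyclic_pi hp (e := e) (fun i => ?_) hinj)
    simp
  right
  obtain ⟨i, j, hij, hne⟩ : ∃ i j, e i = e j ∧ i ≠ j := by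
    simpa [Function.Injective] using hinj
  have hei : 0 < e i := by
    rcases Nat.eq_zero_or_pos (e i) with h | h
    · have h1 : 1 < p ^ e i := hm i
      rw [h, pow_zero] at h1
      omega
    · exact h
  let C := fun l : ι => Multiplicative (ZMod (p ^ e l))
  let g : ((l : ι) → C l) →* (C i × C j) × ((l : {l // l ≠ i ∧ l ≠ j}) → C l) :=
    { toFun := fun x => ((x i, x j), fun l => x l)
      map_one' := rfl
      map_mul' := fun _ _ => rfl }
  have hg : Function.Bijective g := by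
    constructor
    · intro x y hxy
      funext l
      rcases eq_or_ne l i with rfl | h1
      · exact congrArg (fun z => z.1.1) hxy
      rcases eq_or_ne l j with rfl | h2
      · exact congrArg (fun z => z.1.2) hxy
      exact congrArg (fun z => z.2 ⟨l, h1, h2⟩) hxy
    · rintro ⟨⟨u, v⟩, w⟩
      refine ⟨fun l => if h1 : l = i then h1 ▸ u else if h2 : l = j then h2 ▸ v else w ⟨l, h1, h2⟩,
        Prod.ext (Prod.ext ?_ ?_) (funext fun l => ?_)⟩
      · simp [g]
      · simp [g, Ne.symm hne]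
      · simp [g, l.2.1, l.2.2]
  refine ⟨e i, _, inferInstance, hei, ⟨f.trans ((MulEquiv.ofBijective g hg).trans
    (((MulEquiv.refl _).prodCongr ?_).prodCongr (MulEquiv.refl _)))⟩⟩
  exact AddEquiv.toMultiplicative
    (ZMod.ringEquivCongr (show p ^ e j = p ^ e i by rw [hij])).toAddEquiv

theorem exists_bad_subgroup {G H : Type*} [Group G] [Group H] {n : ℕ} (hn : 0 < n)
    (f : G ≃* (Multiplicative (ZMod (p ^ n)) × Multiplicative (ZMod (p ^ n))) × H) :
    ∃ K : Subgroup (MulAut G), (Nat.card K).Coprime p ∧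
      ¬ (IsMulCommutative K ∧ ∀ h ∈ K, h ^ (p - 1) = 1) := by
  have hp : p.Prime := Fact.out
  let D := (Multiplicative (ZMod (p ^ n)) × Multiplicative (ZMod (p ^ n))) × H
  let c : MulAut D ≃* MulAut G := MulAut.congr f.symm
  have hlift : ∀ A : Subgroup (MulAut D), (Nat.card A).Coprime p →
      ¬ (IsMulCommutative A ∧ ∀ h ∈ A, h ^ (p - 1) = 1) →
      ∃ K : Subgroup (MulAut G), (Nat.card K).Coprime p ∧
        ¬ (IsMulCommutative K ∧ ∀ h ∈ K, h ^ (p - 1) = 1) := by
    intro A hA hbad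
    refine ⟨A.map c.toMonoidHom, by
      rwa [Subgroup.card_map_of_injective c.injective], fun ⟨h1, h2⟩ => hbad ⟨⟨⟨fun a b => ?_⟩⟩,
        fun h hh => c.injective ?_⟩⟩
    · refine Subtype.ext (c.injective ((map_mul c _ _).trans (Eq.trans ?_ (map_mul c _ _).symm)))
      exact congrArg Subtype.val (h1.is_comm.comm ⟨c a, Subgroup.mem_map_of_mem _ a.2⟩
        ⟨c b, Subgroup.mem_map_of_mem _ b.2⟩)
    · rw [map_pow, map_one]
      exact h2 _ (Subgroup.mem_map_of_mem _ hh)
  let u : Multiplicative (ZMod (p ^ n)) := Multiplicative.ofAdd 1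
  have hu : orderOf u = p ^ n := by simp [u]
  have hu1 : u ≠ 1 := fun h => by
    rw [h, orderOf_one] at hu
    exact (Nat.one_lt_pow hn.ne' hp.one_lt).ne hu
  rcases eq_or_ne p 2 with rfl | hp2
  · let t : MulAut D :=
      { toFun := fun x => ((x.1.2, (x.1.1 * x.1.2)⁻¹), x.2)
        invFun := fun x => (((x.1.1 * x.1.2)⁻¹, x.1.1), x.2)
        left_inv := fun x => Prod.ext (Prod.ext (by simp) rfl) rfl
        right_inv := fun x => Prod.ext (Prod.ext rfl (by simp)) rfl
        map_mul' := fun x y => Prod.ext (Prod.ext rfl (show ((x.1.1 * y.1.1) * (x.1.2 * y.1.2))⁻¹ = (x.1.1 * x.1.2)⁻¹ * (y.1.1 * y.1.2)⁻¹ by rw [mul_mul_mul_comm, mul_inv])) rfl }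
    have ht3 : t ^ 3 = 1 := by
      rw [pow_succ, pow_succ, pow_one]
      refine MulEquiv.ext fun x => Prod.ext (Prod.ext ?_ ?_) rfl
      · show ((x.1.2 * (x.1.1 * x.1.2)⁻¹))⁻¹ = x.1.1
        rw [mul_inv_rev, inv_inv, mul_inv_cancel_right]
      · show ((x.1.1 * x.1.2)⁻¹ * (x.1.2 * (x.1.1 * x.1.2)⁻¹)⁻¹)⁻¹ = x.1.2
        simp [mul_comm]
    refine hlift (Subgroup.zpowers t) ?_ fun ⟨_, h⟩ => ?_
    · rw [Nat.card_zpowers]
      exact Nat.Coprime.coprime_dvd_left (orderOf_dvd_of_pow_eq_one ht3) (by decide)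
    · have h1 := h t (Subgroup.mem_zpowers t)
      rw [pow_one] at h1
      exact hu1 (congrArg (fun z : D => z.1.1) (MulEquiv.congr_fun h1 ((1, u), 1)))
  · let r : MulAut D :=
      { toFun := fun x => ((x.1.2, x.1.1⁻¹), x.2)
        invFun := fun x => ((x.1.2⁻¹, x.1.1), x.2)
        left_inv := fun x => Prod.ext (Prod.ext (by simp) rfl) rfl
        right_inv := fun x => Prod.ext (Prod.ext rfl (by simp)) rfl
        map_mul' := fun x y => Prod.ext (Prod.ext rfl (mul_inv x.1.1 y.1.1)) rfl }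
    let s : MulAut D :=
      { toFun := fun x => ((x.1.2, x.1.1), x.2)
        invFun := fun x => ((x.1.2, x.1.1), x.2)
        left_inv := fun _ => rfl
        right_inv := fun _ => rfl
        map_mul' := fun _ _ => rfl }
    have hr : r ^ 4 = 1 := by
      rw [pow_succ, pow_succ, pow_succ, pow_one]
      exact MulEquiv.ext fun x => Prod.ext (Prod.ext (by simp [r]) (by simp [r])) rfl
    have hs : s ^ 2 = 1 := by rw [pow_two]; exact MulEquiv.ext fun _ => rfl
    have hsr : s * r * s⁻¹ = r⁻¹ := by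
      refine MulEquiv.ext fun x => Prod.ext (Prod.ext ?_ ?_) rfl <;> simp [r, s]
    have hnorm : Subgroup.zpowers s ≤ Subgroup.normalizer (Subgroup.zpowers r : Set (MulAut D)) := by
      rw [Subgroup.zpowers_le, Subgroup.mem_normalizer_iff]
      intro x
      have hiff : ∀ y, y ∈ Subgroup.zpowers r → s * y * s⁻¹ ∈ Subgroup.zpowers r := by
        rintro _ ⟨b, rfl⟩
        show s * r ^ b * s⁻¹ ∈ _
        rw [← conj_zpow, hsr]
        exact zpow_mem (inv_mem (Subgroup.mem_zpowers r)) b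
      refine ⟨hiff x, fun hx => ?_⟩
      have h1 := hiff _ hx
      have h2 : s⁻¹ = s := inv_eq_of_mul_eq_one_right (by rw [← pow_two, hs])
      rw [h2, show s * (s * x * s) * s = s * s * x * (s * s) by group, ← pow_two, hs] at h1
      simpa using h1
    have h2 : IsPGroup 2 (Subgroup.zpowers s ⊔ Subgroup.zpowers r : Subgroup (MulAut D)) := by
      have hz : ∀ (g : MulAut D) (k : ℕ), g ^ 2 ^ k = 1 → IsPGroup 2 (Subgroup.zpowers g) := by
        rintro g k hg ⟨_, b, rfl⟩
        exact ⟨k, Subtype.ext (show (g ^ b) ^ 2 ^ k = 1 by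
          rw [← zpow_natCast, ← zpow_mul, mul_comm, zpow_mul, zpow_natCast, hg, one_zpow])⟩
      exact IsPGroup.to_sup_of_normal_right' (hz s 1 (by simpa using hs))
        (hz r 2 (by simpa using hr)) hnorm
    have : Finite (Subgroup.zpowers s) := finite_zpowers.2 (isOfFinOrder_iff_pow_eq_one.2 ⟨2, two_pos, hs⟩)
    have : Finite (Subgroup.zpowers r) :=
      finite_zpowers.2 (isOfFinOrder_iff_pow_eq_one.2 ⟨4, by omega, hr⟩)
    have : Finite (Subgroup.zpowers s ⊔ Subgroup.zpowers r : Subgroup (MulAut D)) := by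
      refine Set.Finite.to_subtype ?_
      rw [Subgroup.coe_mul_of_left_le_normalizer_right _ _ hnorm]
      exact (Set.toFinite _).mul (Set.toFinite _)
    refine hlift (Subgroup.zpowers s ⊔ Subgroup.zpowers r) ?_ fun ⟨hc, _⟩ => ?_
    · obtain ⟨k, hk⟩ := IsPGroup.iff_card.1 h2
      rw [hk]
      exact ((Nat.coprime_primes Nat.prime_two hp).2 (Ne.symm hp2)).pow_left k
    · have h3 : s * r = r * s := congrArg Subtype.val
        (hc.is_comm.comm ⟨s, Subgroup.mem_sup_left (Subgroup.mem_zpowers s)⟩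
          ⟨r, Subgroup.mem_sup_right (Subgroup.mem_zpowers r)⟩)
      have h4 : u⁻¹ = u := congrArg (fun z : D => z.1.1) (MulEquiv.congr_fun h3 ((u, 1), 1))
      have h5 : orderOf u ∣ 2 :=
        orderOf_dvd_of_pow_eq_one (by rw [pow_two]; exact inv_eq_iff_mul_eq_one.1 h4)
      rw [hu] at h5
      exact hp2 ((Nat.prime_dvd_prime_iff_eq hp Nat.prime_two).1 ((dvd_pow_self p hn.ne').trans h5))

end CfsgLib.FusionClosed
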