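import Cfsg.Agent.FusionClosed.Normality

/-!
# Subgroups invariant under the automisers of the essential subgroups

* `isNormal_of_invariant`: such a subgroup inside all essential subgroups is normal in the system.
* `focalSubgroup_le_of_aut`: a bound on the focal subgroup checked on `S` and the essential
  subgroups.
-/

set_option autoImplicit false

namespace CfsgLib.FusionClosed

open Cfsg Cfsg.FusionSystem CfsgLib.Fusion

variable {Ω : Type*} [Group Ω] {S : Subgroup Ω} {F : FusionSystem S} {T : Subgroup Ω} {p : ℕ}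

theorem isNormal_of_invariant [Finite S] [Fact p.Prime] (hS : IsPGroup p S)
    (hF : F.IsSaturated p) (hTS : T ≤ S) (hTn : ∀ g ∈ S, ∀ x ∈ T, g * x * g⁻¹ ∈ T)
    (hle : ∀ P : Subgroup Ω, F.IsEssential p P → T ≤ P)
    (hinv : ∀ P : Subgroup Ω, (P = S ∨ F.IsEssential p P) → ∀ α ∈ F.autGroup P,
      ∀ x : P, (x : Ω) ∈ T → ((α x : P) : Ω) ∈ T) : F.IsNormal T := by
  have hN : S = kNormalizer S T ⊤ := by
    rw [kNormalizer_top, normalizerIn, eq_comm, inf_eq_left]
    intro g hg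
    rw [Subgroup.mem_normalizer_iff]
    refine fun x => ⟨hTn g hg x, fun h => ?_⟩
    have := hTn g⁻¹ (inv_mem hg) _ h
    simpa [mul_assoc] using this
  let E := kSystem F hTS ⊤ hN
  have hFE : F ≤ E := by
    refine le_of_essential hS hF fun P hP α hα => ?_
    have hPS : P ≤ S := by
      rcases hP with rfl | hP
      · exact le_rfl
      · exact hP.1.1
    have hTP : T ≤ P := by
      rcases hP with rfl | hP
      · exact hTS
      · exact hle P hP
    have hI := (mem_autGroup_iff hPS).1 hα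
    have hsup : P ⊔ T = P := sup_eq_left.2 hTP
    refine Subgroup.subset_closure ⟨hI, hPS, fun x => hPS (α x).2,
      (P.subtype.comp α.toMonoidHom).comp (Subgroup.inclusion hsup.le), ?_, fun x => rfl, ?_⟩
    · exact mem_of_eq hsup hI fun x hx => rfl
    · refine (exists_aut_iff (mem_of_eq hsup hI fun x hx => rfl) le_sup_right).2 ?_
      ext y
      constructor
      · rintro ⟨x, hx, rfl⟩
        exact hinv P hP α hα ⟨x, hsup.le x.2⟩ hx
      · intro hy
        obtain ⟨z, hz⟩ := α.surjective ⟨y, hTP hy⟩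
        have h1 := hinv P hP α⁻¹ (inv_mem hα) ⟨y, hTP hy⟩ hy
        rw [← hz, MulAut.inv_apply_self] at h1
        exact ⟨⟨z, Subgroup.mem_sup_left z.2⟩, h1, congrArg Subtype.val hz⟩
  refine ⟨hTS, fun P φ hφ => ?_⟩
  obtain ⟨-, -, -, ψ, hψ, hψv, hψT⟩ := hFE P hφ
  exact ⟨ψ, hψ, hψv, (exists_aut_iff hψ le_sup_right).1 hψT⟩

theorem focalSubgroup_le_of_aut [Finite S] [Fact p.Prime] (hS : IsPGroup p S)
    (hF : F.IsSaturated p) (hcomm : ∀ g ∈ S, ∀ x ∈ S, x⁻¹ * (g * x * g⁻¹) ∈ T)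
    (h : ∀ P : Subgroup Ω, (P = S ∨ F.IsEssential p P) → ∀ α ∈ F.autGroup P,
      ∀ x : P, (x : Ω)⁻¹ * ((α x : P) : Ω) ∈ T) : F.focalSubgroup ≤ T := by
  let E : FusionSystem S :=
    { Hom := fun P => {φ | φ ∈ F.Hom P ∧ ∀ x : P, (x : Ω)⁻¹ * φ x ∈ T}
      le_of_mem := fun hφ => F.le_of_mem hφ.1
      injective_of_mem := fun hφ => F.injective_of_mem hφ.1
      conj_mem := fun hP hg => ⟨F.conj_mem hP hg, fun x => hcomm _ hg _ (hP x.2)⟩
      comp_mem := fun {P Q φ ψ} hφ hψ hle => ⟨F.comp_mem hφ.1 hψ.1 hle, fun x => by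
        have h1 : (φ x)⁻¹ * ψ ⟨φ x, hle x⟩ ∈ T := hψ.2 ⟨φ x, hle x⟩
        have h2 := mul_mem (hφ.2 x) h1
        rwa [mul_assoc, mul_inv_cancel_left] at h2⟩
      inv_mem := fun {P φ} hφ => by
        obtain ⟨ψ, hψ, hv⟩ := F.inv_mem hφ.1
        refine ⟨ψ, ⟨hψ, ?_⟩, hv⟩
        rintro ⟨_, x, rfl⟩
        rw [hv x]
        have h1 := inv_mem (hφ.2 x)
        rwa [mul_inv_rev, inv_inv] at h1 }
  have hle : F ≤ E := le_of_essential hS hF fun P hP α hα => by
    have hPS : P ≤ S := by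
      rcases hP with rfl | hP
      · exact le_rfl
      · exact hP.1.1
    exact Subgroup.subset_closure ⟨(mem_autGroup_iff hPS).1 hα, h P hP α hα⟩
  exact (Subgroup.closure_le _).2 fun y ⟨P, φ, x, hφ, hy⟩ => hy ▸ (hle P hφ).2 x

end CfsgLib.FusionClosed
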