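import Cfsg.Agent.FusionClosed.AbelianEssential
import Cfsg.Agent.FusionClosed.Invariant
import Cfsg.Agent.FusionEssential.Basic
import Mathlib.GroupTheory.IndexNormal

/-!
# Saturated systems over groups whose centre has index `p²`: the pairs of transvections

* `zS S`: the centre of `S`.
* `Datum F p P σ g`: `P ≥ zS S` abelian of index `p`, `σ` conjugation by some `y ∈ S \ P`, and
  `g σ g⁻¹ ∉ ⟨σ⟩`.
* `Datum.pair`, `Datum.commutator_eq`, `exists_datum_of_essential`, `Datum.transport`.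
-/

set_option autoImplicit false

namespace CfsgLib.FusionClosed

open Cfsg Cfsg.FusionSystem CfsgLib.Fusion
open scoped commutatorElement

attribute [local instance] commGroupOf

variable {Ω : Type*} [Group Ω] {S : Subgroup Ω} {F : FusionSystem S} {p : ℕ}

/-- The centre of `S`. -/
def zS (S : Subgroup Ω) : Subgroup Ω := (Subgroup.center S).map S.subtype

theorem mem_zS {x : Ω} : x ∈ zS S ↔ x ∈ S ∧ ∀ s ∈ S, s * x = x * s := by
  constructor
  · rintro ⟨⟨x, hx⟩, hc, rfl⟩
    exact ⟨hx, fun s hs => congrArg Subtype.val (Subgroup.mem_center_iff.1 hc ⟨s, hs⟩)⟩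
  · rintro ⟨hx, hc⟩
    exact ⟨⟨x, hx⟩, Subgroup.mem_center_iff.2 fun s => Subtype.ext (hc s s.2), rfl⟩

theorem zS_le : zS S ≤ S := Subgroup.map_subtype_le _

theorem zS_relIndex : (zS S).relIndex S = (Subgroup.center S).index := by
  rw [Subgroup.relIndex, zS, Subgroup.subgroupOf, Subgroup.comap_map_eq_self_of_injective
    S.subtype_injective]

theorem sup_zpowers_eq [Fact p.Prime] {A B : Subgroup Ω} (hAB : A ≤ B) (hidx : A.relIndex B = p)
    {y : Ω} (hy : y ∈ B) (hyA : y ∉ A) : A ⊔ Subgroup.zpowers y = B := by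
  refine le_antisymm (sup_le hAB (Subgroup.zpowers_le.2 hy)) (Subgroup.relIndex_eq_one.1 ?_)
  have h := Subgroup.relIndex_mul_relIndex A (A ⊔ Subgroup.zpowers y) B le_sup_left
    (sup_le hAB (Subgroup.zpowers_le.2 hy))
  rw [hidx] at h
  rcases (Nat.dvd_prime (Fact.out : p.Prime)).1 (Dvd.intro _ h) with h1 | h1
  · exact absurd (Subgroup.relIndex_eq_one.1 h1 (Subgroup.mem_sup_right (Subgroup.mem_zpowers y)))
      hyA
  · rw [h1] at h
    exact Nat.eq_of_mul_eq_mul_left (Fact.out : p.Prime).pos (h.trans (mul_one p).symm)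

/-- The common fixed points of two automorphisms of `P`, as a subgroup of the ambient group. -/
def cFix {P : Subgroup Ω} (σ τ : MulAut P) : Subgroup Ω :=
  Subgroup.map P.subtype
    { carrier := {x | σ x = x ∧ τ x = x}
      one_mem' := ⟨map_one σ, map_one τ⟩
      mul_mem' := fun ha hb => ⟨by rw [map_mul, ha.1, hb.1], by rw [map_mul, ha.2, hb.2]⟩
      inv_mem' := fun ha => ⟨by rw [map_inv, ha.1], by rw [map_inv, ha.2]⟩ }

theorem mem_cFix {P : Subgroup Ω} {σ τ : MulAut P} {x : Ω} :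
    x ∈ cFix σ τ ↔ ∃ h : x ∈ P, σ ⟨x, h⟩ = ⟨x, h⟩ ∧ τ ⟨x, h⟩ = ⟨x, h⟩ := by
  constructor
  · rintro ⟨⟨x, hx⟩, h, rfl⟩
    exact ⟨hx, h⟩
  · rintro ⟨hx, h⟩
    exact ⟨⟨x, hx⟩, h, rfl⟩

/-- An abelian subgroup of index `p` over the centre with two groups `Aut_S(P)`, `g Aut_S(P) g⁻¹`. -/
structure Datum (F : FusionSystem S) (p : ℕ) (P : Subgroup Ω) (σ g : MulAut P) : Prop where
  le : P ≤ S
  comm : IsMulCommutative P
  zle : zS S ≤ P
  index : P.relIndex S = p
  zindex : (zS S).relIndex P = p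
  conj : ∃ y ∈ S, y ∉ P ∧ ∀ x : P, (σ x : Ω) = y * x * y⁻¹
  mem : g ∈ F.autGroup P
  ne : g * σ * g⁻¹ ∉ Subgroup.zpowers σ

variable [Finite S] [Fact p.Prime]

theorem normalizerIn_eq_of_relIndex (hS : IsPGroup p S) {P : Subgroup Ω} (hPS : P ≤ S)
    (hidx : P.relIndex S = p) : normalizerIn S P = S := by
  have hlt : P < S := lt_of_le_of_ne hPS fun h => by
    rw [h, Subgroup.relIndex_self] at hidx
    exact (Fact.out : p.Prime).one_lt.ne hidx
  obtain ⟨x, hx, hxP⟩ := SetLike.exists_of_lt (lt_normalizerIn hS hlt)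
  refine le_antisymm (normalizerIn_le S P) ?_
  conv_lhs => rw [← sup_zpowers_eq hPS hidx (normalizerIn_le S P hx) hxP]
  exact sup_le (le_normalizerIn hPS) (Subgroup.zpowers_le.2 hx)

theorem isFullyNormalized_of_relIndex (hS : IsPGroup p S) {P : Subgroup Ω} (hPS : P ≤ S)
    (hidx : P.relIndex S = p) : F.IsFullyNormalized P :=
  ⟨hPS, fun Q _ => by
    rw [normalizerIn_eq_of_relIndex hS hPS hidx]
    exact Subgroup.card_le_of_le (normalizerIn_le S Q)⟩

namespace Datum

variable {P : Subgroup Ω} {σ g : MulAut P}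

theorem centralizer_le (hS : IsPGroup p S) (d : Datum F p P σ g) : centralizerIn S P ≤ P := by
  intro c hc
  by_contra hcP
  refine hcP (d.zle (mem_zS.2 ⟨hc.1, fun s hs => ?_⟩))
  have hle : P ⊔ Subgroup.zpowers c ≤ Subgroup.centralizer {c} := by
    refine sup_le (fun x hx => ?_) (Subgroup.zpowers_le.2 ?_) <;>
      rw [Subgroup.mem_centralizer_iff] <;> (intro h' hh'; rw [Set.mem_singleton_iff.1 hh'])
    · exact ((mem_centralizerIn.1 hc).2 x hx).symm
  rw [sup_zpowers_eq d.le d.index hc.1 hcP] at hle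
  exact (Subgroup.mem_centralizer_iff.1 (hle hs) c rfl).symm

theorem fix_eq (d : Datum F p P σ g) {y : Ω} (hy : y ∈ S) (hyP : y ∉ P) :
    P ⊓ Subgroup.centralizer {y} = zS S := by
  refine le_antisymm (fun x hx => ?_) fun x hx => ⟨d.zle hx, ?_⟩
  · refine mem_zS.2 ⟨d.le hx.1, fun s hs => ?_⟩
    have hle : P ⊔ Subgroup.zpowers y ≤ Subgroup.centralizer {x} := by
      refine sup_le (fun w hw => ?_) (Subgroup.zpowers_le.2 ?_) <;>
        rw [Subgroup.mem_centralizer_iff] <;> (intro h' hh'; rw [Set.mem_singleton_iff.1 hh'])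
      · have := d.comm
        exact congrArg Subtype.val (mul_comm' (⟨x, hx.1⟩ : P) ⟨w, hw⟩)
      · exact (Subgroup.mem_centralizer_iff.1 hx.2 y rfl).symm
    rw [sup_zpowers_eq d.le d.index hy hyP] at hle
    exact (Subgroup.mem_centralizer_iff.1 (hle hs) x rfl).symm
  · show x ∈ Subgroup.centralizer {y}
    rw [Subgroup.mem_centralizer_iff]
    intro h' hh'
    rw [Set.mem_singleton_iff.1 hh']
    exact (mem_zS.1 hx).2 y hy

theorem transvection (hS : IsPGroup p S) (hF : F.IsSaturated p) (d : Datum F p P σ g) :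
    letI := d.comm
    IsTransvection p σ ∧ autInducedBy S P = Subgroup.zpowers σ ∧ σ ∈ F.autGroup P ∧
      (∀ M : Subgroup (MulAut P), M ≤ F.autGroup P → IsPGroup p M → Nat.card M ≤ p) ∧
      ∀ x : P, σ x = x ↔ (x : Ω) ∈ zS S := by
  let _ := d.comm
  obtain ⟨y, hy, hyP, hv⟩ := d.conj
  have hN := normalizerIn_eq_of_relIndex hS d.le d.index
  obtain ⟨σ', hσ', hv', ht, hz, hA⟩ := exists_transvection hS hF
    (isFullyNormalized_of_relIndex hS d.le d.index) (d.centralizer_le hS)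
    (by rw [hN]; exact d.index) (y := y) (by rw [hN]; exact hy) hyP
    (by rw [d.fix_eq hy hyP]; exact d.zindex)
  obtain rfl : σ' = σ := MulEquiv.ext fun x => Subtype.ext ((hv' x).trans (hv x).symm)
  refine ⟨ht, hz, autInducedBy_le_autGroup d.le hσ', hA, fun x => ?_⟩
  rw [← d.fix_eq hy hyP, Subgroup.mem_inf, Subgroup.mem_centralizer_iff]
  constructor
  · intro h
    refine ⟨x.2, ?_⟩
    rintro _ rfl
    exact mul_inv_eq_iff_eq_mul.1 ((hv x).symm.trans (congrArg Subtype.val h))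
  · rintro ⟨-, h⟩
    exact Subtype.ext ((hv x).trans (mul_inv_eq_iff_eq_mul.2 (h y rfl)))

/-- A normalised pair with the same fixed points. -/
theorem pair (hS : IsPGroup p S) (hF : F.IsSaturated p) (d : Datum F p P σ g) :
    letI := d.comm
    ∃ (τ : MulAut P) (z z' : P), τ ∈ F.autGroup P ∧ τ ∈ Subgroup.zpowers (g * σ * g⁻¹) ∧
      Pair p σ τ z z' ∧ cFix σ (g * σ * g⁻¹) = (fixSub σ ⊓ fixSub τ).map P.subtype := by
  let _ := d.comm
  obtain ⟨ht, -, hσA, hA, -⟩ := d.transvection hS hF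
  have := finite_of_le d.le
  obtain ⟨τ, z, z', hτ, hP, hτz, hfix⟩ := exists_pair (hS.to_le d.le) hA hσA
    (mul_mem (mul_mem d.mem hσA) (inv_mem d.mem)) ht (ht.conj g) d.ne
  refine ⟨τ, z, z', hτ, hτz, hP, ?_⟩
  rw [hfix, cFix]
  congr 1
  ext x
  rw [Subgroup.mem_inf, mem_fixSub, mem_fixSub]
  rfl

/-- `[S, S]` is the image of the displacement of `σ`. -/
theorem commutator_eq (hS : IsPGroup p S) (hF : F.IsSaturated p) (d : Datum F p P σ g) :
    letI := d.comm
    ⁅S, S⁆ = ((disp σ).range).map P.subtype := by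
  let _ := d.comm
  obtain ⟨ht, -, -, -, hfix⟩ := d.transvection hS hF
  obtain ⟨y, hy, hyP, hv⟩ := d.conj
  set R := ((disp σ).range).map P.subtype with hR
  have hRz : R ≤ zS S := by
    rintro _ ⟨w, ⟨x, rfl⟩, rfl⟩
    exact (hfix _).1 (ht.sq x)
  refine le_antisymm ?_ ?_
  · have : (R.subgroupOf S).Normal := ⟨fun n hn s => by
      have h1 : (s : Ω) * n = n * s := (mem_zS.1 (hRz hn)).2 s s.2
      show (s : Ω) * n * (s : Ω)⁻¹ ∈ R
      rw [h1, mul_inv_cancel_right]
      exact hn⟩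
    let q := QuotientGroup.mk' (R.subgroupOf S)
    have hker : ∀ s : S, q s = 1 ↔ (s : Ω) ∈ R := fun s =>
      QuotientGroup.eq_one_iff (N := R.subgroupOf S) s
    let G := (P.subgroupOf S).map q ⊔ Subgroup.zpowers (q ⟨y, hy⟩)
    have htop : G = ⊤ := by
      rw [eq_top_iff]
      intro w _
      obtain ⟨s, rfl⟩ := QuotientGroup.mk'_surjective _ w
      have h1 : P.subgroupOf S ⊔ Subgroup.zpowers ⟨y, hy⟩ = ⊤ := by
        apply Subgroup.map_injective S.subtype_injective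
        rw [Subgroup.map_sup, Subgroup.map_subgroupOf_eq_of_le d.le, MonoidHom.map_zpowers,
          ← MonoidHom.range_eq_map, Subgroup.range_subtype]
        exact sup_zpowers_eq d.le d.index hy hyP
      have h2 := Subgroup.mem_map_of_mem q (h1 ▸ Subgroup.mem_top s)
      rw [Subgroup.map_sup, MonoidHom.map_zpowers] at h2
      exact h2
    have hyu : ∀ u ∈ (P.subgroupOf S).map q, q ⟨y, hy⟩ * u = u * q ⟨y, hy⟩ := by
      rintro _ ⟨u, hu, rfl⟩
      rw [← mul_inv_eq_one, ← map_mul, ← map_mul, ← map_inv, ← map_mul, hker]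
      refine ⟨disp σ ⟨u, hu⟩, ⟨_, rfl⟩, ?_⟩
      show (σ ⟨u, hu⟩ : Ω) * (u : Ω)⁻¹ = (y * u) * ((u : Ω) * y)⁻¹
      rw [hv, mul_inv_rev]
      group
    have hcomm : G ≤ Subgroup.centralizer (G : Set (S ⧸ R.subgroupOf S)) := by
      have hsub : ∀ K : Subgroup (S ⧸ R.subgroupOf S),
          (P.subgroupOf S).map q ≤ Subgroup.centralizer K →
          q ⟨y, hy⟩ ∈ Subgroup.centralizer (K : Set (S ⧸ R.subgroupOf S)) →
          K ≤ Subgroup.centralizer (G : Set (S ⧸ R.subgroupOf S)) := fun K h1 h2 =>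
        Subgroup.le_centralizer_iff.1 (sup_le h1 (Subgroup.zpowers_le.2 h2))
      refine sup_le (hsub _ ?_ ?_) (hsub _ ?_ ?_)
      · rintro _ ⟨u, hu, rfl⟩
        rw [Subgroup.mem_centralizer_iff]
        rintro _ ⟨v, hv', rfl⟩
        rw [← map_mul, ← map_mul]
        exact congrArg q (Subtype.ext (show (v : Ω) * u = u * v from
          congrArg Subtype.val (mul_comm' (⟨v, hv'⟩ : P) ⟨u, hu⟩)))
      · rw [Subgroup.mem_centralizer_iff]
        exact fun u hu => (hyu u hu).symm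
      · intro u hu
        rw [Subgroup.mem_centralizer_iff]
        rintro _ ⟨e, rfl⟩
        exact (Commute.zpow_left (hyu u hu) e)
      · rw [Subgroup.mem_centralizer_iff]
        rintro _ ⟨e, rfl⟩
        exact (Commute.refl (q ⟨y, hy⟩)).zpow_left e
    rw [htop] at hcomm
    refine Subgroup.commutator_le.2 fun a ha b hb => ?_
    have h3 : q ⟨a, ha⟩ * q ⟨b, hb⟩ = q ⟨b, hb⟩ * q ⟨a, ha⟩ :=
      (Subgroup.mem_centralizer_iff.1 (hcomm (Subgroup.mem_top _)) _ (Subgroup.mem_top _))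
    have h4 := (hker ⁅(⟨a, ha⟩ : S), ⟨b, hb⟩⁆).1 (by
      rw [map_commutatorElement, commutatorElement_eq_one_iff_mul_comm]
      exact h3)
    exact h4
  · rintro _ ⟨_, ⟨x, rfl⟩, rfl⟩
    show (σ x : Ω) * (x : Ω)⁻¹ ∈ _
    rw [hv, ← commutatorElement_def]
    exact Subgroup.commutator_mem_commutator hy (d.le x.2)

theorem fixSub_eq (hS : IsPGroup p S) (hF : F.IsSaturated p) (d : Datum F p P σ g) :
    letI := d.comm
    fixSub σ = (zS S).subgroupOf P := by
  let _ := d.comm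
  obtain ⟨-, -, -, -, hfix⟩ := d.transvection hS hF
  ext x
  rw [mem_fixSub, hfix, Subgroup.mem_subgroupOf]

theorem cFix_le (hS : IsPGroup p S) (hF : F.IsSaturated p) (d : Datum F p P σ g) (τ : MulAut P) :
    cFix σ τ ≤ zS S := by
  obtain ⟨-, -, -, -, hfix⟩ := d.transvection hS hF
  intro x hx
  obtain ⟨h, h1, -⟩ := mem_cFix.1 hx
  exact (hfix _).1 h1

end Datum

theorem mem_cFix_congr {P Q : Subgroup Ω} (e : P ≃* Q) {σ τ : MulAut P} (x : P) :
    ((e x : Q) : Ω) ∈ cFix (MulAut.congr e σ) (MulAut.congr e τ) ↔ (x : Ω) ∈ cFix σ τ := by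
  constructor
  · intro h
    obtain ⟨hx, h1, h2⟩ := mem_cFix.1 h
    rw [show (⟨_, hx⟩ : Q) = e x from rfl, congr_apply, e.injective.eq_iff] at h1 h2
    exact mem_cFix.2 ⟨x.2, h1, h2⟩
  · intro h
    obtain ⟨hx, h1, h2⟩ := mem_cFix.1 h
    refine mem_cFix.2 ⟨(e x).2, ?_, ?_⟩
    · rw [show (⟨_, (e x).2⟩ : Q) = e x from rfl, congr_apply]
      exact congrArg e h1
    · rw [show (⟨_, (e x).2⟩ : Q) = e x from rfl, congr_apply]
      exact congrArg e h2

theorem apply_mem_zS {α : MulAut S} {x : S} (hx : (x : Ω) ∈ zS S) : ((α x : S) : Ω) ∈ zS S := by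
  refine mem_zS.2 ⟨(α x).2, fun s hs => ?_⟩
  obtain ⟨t, ht⟩ := α.surjective ⟨s, hs⟩
  have h1 : t * x = x * t := Subtype.ext ((mem_zS.1 hx).2 t t.2)
  have h2 := congrArg α h1
  rw [map_mul, map_mul, ht] at h2
  exact congrArg Subtype.val h2

/-- Automorphisms of `S` in the system carry data to data. -/
theorem Datum.transport {P : Subgroup Ω} {σ g : MulAut P} (d : Datum F p P σ g) {α : MulAut S}
    (hα : α ∈ F.autGroup S) :
    ∃ (Q : Subgroup Ω) (e : P ≃* Q), IsIso F e ∧ (∀ x : P, (e x : Ω) = α ⟨x, d.le x.2⟩) ∧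
      Datum F p Q (MulAut.congr e σ) (MulAut.congr e g) := by
  let f : P →* Ω := (S.subtype.comp α.toMonoidHom).comp (Subgroup.inclusion d.le)
  have hf : f ∈ F.Hom P := mem_of_agree ((mem_autGroup_iff le_rfl).1 hα) d.le fun x => rfl
  obtain ⟨e, he, hev⟩ := exists_iso hf (rfl : f.range = f.range)
  have hv : ∀ x : P, (e x : Ω) = α ⟨x, d.le x.2⟩ := fun x => hev x
  have hQ : f.range ≤ S := range_le hf
  have hmem : ∀ x : S, ((α x : S) : Ω) ∈ f.range ↔ (x : Ω) ∈ P := by
    intro x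
    constructor
    · rintro ⟨w, hw⟩
      have h1 : α ⟨w, d.le w.2⟩ = α x := Subtype.ext hw
      rw [← α.injective h1]
      exact w.2
    · exact fun h => ⟨⟨x, h⟩, rfl⟩
  have hzQ : zS S ≤ f.range := fun x hx => by
    obtain ⟨t, ht⟩ := α.surjective ⟨x, zS_le hx⟩
    have h1 : ((α⁻¹ ⟨x, zS_le hx⟩ : S) : Ω) ∈ zS S := apply_mem_zS hx
    rw [← ht, MulAut.inv_apply_self] at h1
    have h2 := (hmem t).2 (d.zle h1)
    rwa [ht] at h2
  obtain ⟨y, hy, hyP, hyv⟩ := d.conj
  refine ⟨f.range, e, he, hv, ⟨hQ, ?_, hzQ, ?_, ?_, ⟨(α ⟨y, hy⟩ : S), (α ⟨y, hy⟩).2,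
    fun h => hyP ((hmem ⟨y, hy⟩).1 h), fun w => ?_⟩, congr_mem_autGroup he d.mem, ?_⟩⟩
  · have := d.comm
    exact ⟨⟨fun a b => e.symm.injective (by rw [map_mul, map_mul]; exact mul_comm' _ _)⟩⟩
  · have h1 : (f.range).subgroupOf S = (P.subgroupOf S).map α.toMonoidHom := by
      ext x
      obtain ⟨t, rfl⟩ := α.surjective x
      rw [Subgroup.mem_subgroupOf, hmem]
      exact ⟨fun h => ⟨t, h, rfl⟩, fun ⟨t', h, he'⟩ => α.injective he' ▸ h⟩
    rw [Subgroup.relIndex, h1, Subgroup.index_map_of_bijective α.bijective]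
    exact d.index
  · have h1 : (zS S).subgroupOf f.range = ((zS S).subgroupOf P).map e.toMonoidHom := by
      ext x
      obtain ⟨t, rfl⟩ := e.surjective x
      rw [Subgroup.mem_subgroupOf, hv]
      refine ⟨fun h => ⟨t, ?_, rfl⟩, ?_⟩
      · have h2 : ((α⁻¹ (α ⟨t, d.le t.2⟩) : S) : Ω) ∈ zS S := apply_mem_zS h
        rw [MulAut.inv_apply_self] at h2
        exact h2
      · rintro ⟨t', ht', he'⟩
        obtain rfl := e.injective he'
        exact apply_mem_zS (x := (⟨((t' : P) : Ω), d.le t'.2⟩ : S)) ht'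
    rw [Subgroup.relIndex, h1, Subgroup.index_map_of_bijective e.bijective]
    exact d.zindex
  · obtain ⟨t, rfl⟩ := e.surjective w
    rw [congr_apply, hv, hv]
    have h2 : α (⟨y, hy⟩ * ⟨t, d.le t.2⟩ * ⟨y, hy⟩⁻¹) = α ⟨σ t, d.le (σ t).2⟩ :=
      congrArg α (Subtype.ext (hyv t).symm)
    rw [← h2, map_mul, map_mul, map_inv]
    rfl
  · rw [← map_inv, ← map_mul, ← map_mul]
    intro h
    obtain ⟨n, hn⟩ := h
    refine d.ne ⟨n, (MulAut.congr e).injective ?_⟩
    rw [map_zpow]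
    exact hn

/-- Essential subgroups give data. -/
theorem exists_datum_of_essential (hS : IsPGroup p S) (hF : F.IsSaturated p)
    (hidx : (Subgroup.center S).index = p ^ 2) {P : Subgroup Ω} (hP : F.IsEssential p P) :
    ∃ σ g : MulAut P, Datum F p P σ g := by
  have hp : p.Prime := Fact.out
  have hPS := hP.1.1
  have hzP : zS S ≤ P := fun x hx => centralizerIn_le_of_centric hP.1
    (mem_centralizerIn.2 ⟨zS_le hx, fun w hw => (mem_zS.1 hx).2 w (hPS hw)⟩)
  have hmul := Subgroup.relIndex_mul_relIndex (zS S) P S hzP hPS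
  rw [zS_relIndex, hidx] at hmul
  have h1 : P.relIndex S ≠ 1 := fun h => by
    obtain rfl : P = S := le_antisymm hPS (Subgroup.relIndex_eq_one.1 h)
    obtain ⟨T, hT⟩ := (automized_receptive hS hF hP.2.1).1.2
    obtain ⟨α, ⟨k, hk⟩, hout⟩ := CfsgLib.FusionEssential.exists_pElement_not_inn hP
    refine hout (CfsgLib.FusionEssential.map_le_Inn hP (K := (T : Subgroup _)) ?_ T.isPGroup' ?_)
    · rw [hT, ← Inn_eq]
      exact (Inn_normal P).comap _
    · refine ⟨α, ?_, rfl⟩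
      have := finite_of_le hPS
      have : Finite (MulAut P) :=
        Finite.of_injective (fun α => (α : P → P)) DFunLike.coe_injective
      have hn : (T : Subgroup (F.autGroup P)).Normal := by
        rw [hT, ← Inn_eq]
        exact (Inn_normal P).comap _
      have hz : IsPGroup p (Subgroup.zpowers α) := isPGroup_zpowers_of_pow_eq_one hk
      obtain ⟨R, hR⟩ := hz.exists_le_sylow
      have : Unique (Sylow p (F.autGroup P)) := Sylow.unique_of_normal T hn
      exact (Subsingleton.elim R T) ▸ hR (Subgroup.mem_zpowers α)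
  have h2 : (zS S).relIndex P ≠ 1 := fun h => by
    have hle : S ≤ P := by
      refine le_trans ?_ (centralizerIn_le_of_centric hP.1)
      intro x hx
      refine mem_centralizerIn.2 ⟨hx, fun w hw => ?_⟩
      exact ((mem_zS.1 (Subgroup.relIndex_eq_one.1 h hw)).2 x hx).symm
    exact h1 (Subgroup.relIndex_eq_one.2 hle)
  obtain ⟨hz, hi⟩ : (zS S).relIndex P = p ∧ P.relIndex S = p := by
    obtain ⟨i, hi2, hi⟩ := (Nat.dvd_prime_pow hp).1 (Dvd.intro _ hmul)
    interval_cases i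
    · exact absurd (by rw [hi, pow_zero]) h2
    · rw [hi, pow_one] at hmul
      exact ⟨by rw [hi, pow_one], Nat.eq_of_mul_eq_mul_left hp.pos (hmul.trans (pow_two p))⟩
    · rw [hi] at hmul
      exact absurd (Nat.eq_of_mul_eq_mul_left (pow_pos hp.pos 2) (hmul.trans (mul_one _).symm)) h1
  have hcomm : IsMulCommutative P := by
    obtain ⟨x, hx, hxz⟩ : ∃ x ∈ P, x ∉ zS S := by
      by_contra hc
      push Not at hc
      exact h2 (Subgroup.relIndex_eq_one.2 hc)
    have hle : P ≤ Subgroup.centralizer ({x} : Set Ω) := by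
      refine (sup_zpowers_eq hzP hz hx hxz).ge.trans ?_
      refine sup_le (fun w hw => ?_) (Subgroup.zpowers_le.2 ?_) <;>
        rw [Subgroup.mem_centralizer_iff] <;> (intro h' hh'; rw [Set.mem_singleton_iff.1 hh'])
      · exact (mem_zS.1 hw).2 x (hPS hx)
    refine ⟨⟨fun a b => Subtype.ext ?_⟩⟩
    have hbC : P ≤ Subgroup.centralizer ({(a : Ω)} : Set Ω) := by
      refine (sup_zpowers_eq hzP hz hx hxz).ge.trans ?_
      refine sup_le (fun w hw => ?_) (Subgroup.zpowers_le.2 ?_) <;>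
        rw [Subgroup.mem_centralizer_iff] <;> (intro h' hh'; rw [Set.mem_singleton_iff.1 hh'])
      · exact (mem_zS.1 hw).2 a (hPS a.2)
      · exact (Subgroup.mem_centralizer_iff.1 (hle a.2) x rfl).symm
    exact Subgroup.mem_centralizer_iff.1 (hbC b.2) a rfl
  let _ := hcomm
  obtain ⟨y, hy, hyP⟩ : ∃ y ∈ S, y ∉ P := by
    by_contra hc
    push Not at hc
    exact h1 (Subgroup.relIndex_eq_one.2 hc)
  have hC := centralizerIn_le_of_centric hP.1
  have hN := normalizerIn_eq_of_relIndex hS hPS hi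
  have hfix : P ⊓ Subgroup.centralizer {y} = zS S := by
    refine le_antisymm (fun x hx => ?_) fun x hx => ⟨hzP hx, ?_⟩
    · refine mem_zS.2 ⟨hPS hx.1, fun s hs => ?_⟩
      have hle : P ⊔ Subgroup.zpowers y ≤ Subgroup.centralizer {x} := by
        refine sup_le (fun w hw => ?_) (Subgroup.zpowers_le.2 ?_) <;>
          rw [Subgroup.mem_centralizer_iff] <;> (intro h' hh'; rw [Set.mem_singleton_iff.1 hh'])
        · exact congrArg Subtype.val (mul_comm' (⟨x, hx.1⟩ : P) ⟨w, hw⟩)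
        · exact (Subgroup.mem_centralizer_iff.1 hx.2 y rfl).symm
      rw [sup_zpowers_eq hPS hi hy hyP] at hle
      exact (Subgroup.mem_centralizer_iff.1 (hle hs) x rfl).symm
    · show x ∈ Subgroup.centralizer {y}
      rw [Subgroup.mem_centralizer_iff]
      intro h' hh'
      rw [Set.mem_singleton_iff.1 hh']
      exact (mem_zS.1 hx).2 y hy
  obtain ⟨σ, hσ, hv, ht, hzp, -⟩ := exists_transvection hS hF
    (isFullyNormalized_of_relIndex hS hPS hi) hC (by rw [hN]; exact hi) (y := y)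
    (by rw [hN]; exact hy) hyP (by rw [hfix]; exact hz)
  obtain ⟨g, hg, hne⟩ := exists_conj_not_mem hS hP hzp (fun h => by
    have := ht.order
    rw [h, orderOf_one] at this
    exact hp.one_lt.ne this)
  exact ⟨σ, g, hPS, hcomm, hzP, hi, hz, ⟨y, hy, hyP, hv⟩, hg, hne⟩

end CfsgLib.FusionClosed
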