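import Cfsg.Agent.FusionClosed.Normality
import Cfsg.Agent.FusionEssential.Basic
import Mathlib.FieldTheory.Finite.Basic

/-!
# Chains of strongly closed subgroups with cyclic steps

* `FineReach F p c`: a chain of strongly closed subgroups up to `c` with steps of index dividing `p`.
* `fineReach_of_cyclic`: chains with cyclic steps refine to such chains.
* `isNormal_self_of_fine`: then `S` is normal in the system.
* `pow_and_commute_of_fine`: `p'`-automorphisms preserving such a chain.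
-/

set_option autoImplicit false

namespace CfsgLib.FusionClosed

open Cfsg Cfsg.FusionSystem CfsgLib.Fusion

variable {Ω : Type*} [Group Ω] {S : Subgroup Ω} {F : FusionSystem S} {p : ℕ}

/-- A chain of strongly closed subgroups from `⊥` to `c` with steps of index dividing `p`. -/
def FineReach (F : FusionSystem S) (p : ℕ) (c : Subgroup Ω) : Prop :=
  ∃ (m : ℕ) (C : ℕ → Subgroup Ω), C 0 = ⊥ ∧ C m = c ∧ Monotone C ∧ (∀ i, F.StronglyClosed (C i)) ∧
    ∀ i < m, (C i).relIndex (C (i + 1)) ∣ p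

theorem stronglyClosed_bot (F : FusionSystem S) : F.StronglyClosed ⊥ :=
  ⟨bot_le, fun R hR φ _ x => by
    have hx : x = 1 := Subtype.ext (hR x.2)
    rw [hx, map_one]
    exact one_mem _⟩

theorem fineReach_bot (F : FusionSystem S) (p : ℕ) : FineReach F p ⊥ :=
  ⟨0, fun _ => ⊥, rfl, rfl, monotone_const, fun _ => stronglyClosed_bot F, fun i hi =>
    absurd hi (Nat.not_lt_zero i)⟩

theorem FineReach.step {c c' : Subgroup Ω} (h : FineReach F p c) (hle : c ≤ c')
    (hc' : F.StronglyClosed c') (hidx : c.relIndex c' ∣ p) : FineReach F p c' := by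
  obtain ⟨m, C, h0, hm, hmono, hsc, hstep⟩ := h
  refine ⟨m + 1, fun i => if i ≤ m then C i else c', by simp [h0], by simp, ?_, fun i => ?_, ?_⟩
  · intro i j hij
    by_cases hi : i ≤ m <;> by_cases hj : j ≤ m <;> simp only [hi, hj, if_true, if_false]
    · exact hmono hij
    · exact (hm ▸ hmono hi).trans hle
    · omega
    · exact le_rfl
  · by_cases hi : i ≤ m <;> simp [hi, hsc, hc']
  · intro i hi
    have hi' : i ≤ m := by omega
    simp only [hi', if_true]
    by_cases hj : i + 1 ≤ m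
    · simp only [hj, if_true]
      exact hstep i hj
    · simp only [hj, if_false]
      rwa [show i = m by omega, hm]

theorem relIndex_zpowers_succ {Q : Type*} [Group Q] [Finite Q] [Fact p.Prime] {z : Q} {k i : ℕ}
    (hz : orderOf z = p ^ k) (hi : i < k) :
    (Subgroup.zpowers (z ^ p ^ (k - i))).relIndex (Subgroup.zpowers (z ^ p ^ (k - (i + 1)))) = p := by
  have hp : p.Prime := Fact.out
  have hcard : ∀ j ≤ k, Nat.card (Subgroup.zpowers (z ^ p ^ (k - j))) = p ^ j := fun j hj => by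
    rw [Nat.card_zpowers, orderOf_pow' _ (pow_ne_zero _ hp.ne_zero), hz,
      Nat.gcd_eq_right (pow_dvd_pow _ (Nat.sub_le k j)), Nat.pow_div (Nat.sub_le k j) hp.pos]
    congr 1
    omega
  have hle : Subgroup.zpowers (z ^ p ^ (k - i)) ≤ Subgroup.zpowers (z ^ p ^ (k - (i + 1))) := by
    refine Subgroup.zpowers_le.2 ⟨(p : ℤ), ?_⟩
    show (z ^ p ^ (k - (i + 1))) ^ (p : ℤ) = z ^ p ^ (k - i)
    rw [zpow_natCast, ← pow_mul, ← pow_succ]
    congr 2
    omega
  have h1 := Subgroup.relIndex_mul_relIndex ⊥ _ _ bot_le hle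
  rw [Subgroup.relIndex_bot_left, Subgroup.relIndex_bot_left, hcard i hi.le, hcard (i + 1) hi,
    pow_succ] at h1
  exact Nat.eq_of_mul_eq_mul_left (pow_pos hp.pos i) h1

theorem fineReach_adjoin [Finite S] [Fact p.Prime] (hS : IsPGroup p S) {c c' : Subgroup Ω}
    (hc : FineReach F p c) (hcsc : F.StronglyClosed c) (hc'sc : F.StronglyClosed c') {x : Ω}
    (hx : x ∈ S) (he : c' = c ⊔ Subgroup.zpowers x) : FineReach F p c' := by
  have hN : (c.subgroupOf S).Normal := ⟨fun n hn g => conj_mem_stronglyClosed hcsc g.2 hn⟩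
  set q := QuotientGroup.mk' (c.subgroupOf S)
  have hker : ∀ s : S, q s = 1 ↔ (s : Ω) ∈ c := fun s =>
    QuotientGroup.eq_one_iff (N := c.subgroupOf S) s
  obtain ⟨k, hk⟩ := IsPGroup.iff_orderOf.mp (hS.to_quotient (c.subgroupOf S)) (q ⟨x, hx⟩)
  set z := q ⟨x, hx⟩ with hz
  let D : ℕ → Subgroup Ω := fun i =>
    ((Subgroup.zpowers (z ^ p ^ (k - i))).comap q).map S.subtype
  have hD0 : D 0 = c := by
    simp only [D, Nat.sub_zero]
    rw [← hk, pow_orderOf_eq_one, Subgroup.zpowers_one_eq_bot, MonoidHom.comap_bot,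
      QuotientGroup.ker_mk', Subgroup.map_subgroupOf_eq_of_le hcsc.1]
  have hDk : D k = c' := by
    simp only [D, Nat.sub_self, pow_zero, pow_one]
    rw [hz, ← MonoidHom.map_zpowers, Subgroup.comap_map_eq, QuotientGroup.ker_mk',
      Subgroup.map_sup, Subgroup.map_subgroupOf_eq_of_le hcsc.1, MonoidHom.map_zpowers, he,
      sup_comm]
    rfl
  have hsc : ∀ i ≤ k, F.StronglyClosed (D i) := by
    intro i hi
    refine ⟨Subgroup.map_subtype_le _, fun R hR φ hφ y => ?_⟩
    obtain ⟨yS, hyS, hye⟩ := hR y.2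
    have hyc' : (y : Ω) ∈ c' := by
      rw [← hDk]
      refine ⟨yS, ?_, hye⟩
      obtain ⟨b, hb⟩ := hyS
      refine ⟨((p ^ (k - i) : ℕ) : ℤ) * b, ?_⟩
      show (z ^ p ^ (k - k)) ^ _ = _
      rw [← hb, Nat.sub_self, pow_zero, pow_one, zpow_mul, zpow_natCast]
    have hφc' : φ y ∈ c' := apply_mem_stronglyClosed hc'sc hφ hyc'
    have hpow : ((y ^ p ^ i : R) : Ω) ∈ c := by
      rw [SubgroupClass.coe_pow, ← hye]
      refine (hker (yS ^ p ^ i)).1 ?_
      rw [map_pow]
      obtain ⟨b, hb⟩ := hyS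
      rw [← hb, ← zpow_natCast, ← zpow_mul, mul_comm, zpow_mul, zpow_natCast, ← pow_mul, ← pow_add,
        Nat.sub_add_cancel hi, ← hk, pow_orderOf_eq_one, one_zpow]
    have hφpow := apply_mem_stronglyClosed hcsc hφ hpow
    rw [← hDk] at hφc'
    obtain ⟨w, hw, hwe⟩ := hφc'
    refine ⟨w, ?_, hwe⟩
    rw [map_pow, ← hwe] at hφpow
    have hw1 : q (w ^ p ^ i) = 1 := (hker _).2 hφpow
    obtain ⟨b, hb⟩ := hw
    simp only [Nat.sub_self, pow_zero, pow_one] at hb
    rw [map_pow, ← hb, ← zpow_natCast, ← zpow_mul] at hw1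
    have h2 := orderOf_dvd_iff_zpow_eq_one.2 hw1
    rw [hk, Nat.cast_pow, Nat.cast_pow, ← Nat.sub_add_cancel hi, pow_add] at h2
    obtain ⟨e, he'⟩ := Int.dvd_of_mul_dvd_mul_right
      (pow_ne_zero i (by exact_mod_cast (Fact.out : p.Prime).ne_zero)) h2
    refine ⟨e, ?_⟩
    show (z ^ p ^ (k - i)) ^ e = q w
    rw [← hb, he', zpow_mul, ← Nat.cast_pow, zpow_natCast]
  have key : ∀ i ≤ k, FineReach F p (D i) := by
    intro i
    induction i with
    | zero => exact fun _ => hD0 ▸ hc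
    | succ i ih =>
      intro hi
      have hle : Subgroup.zpowers (z ^ p ^ (k - i)) ≤ Subgroup.zpowers (z ^ p ^ (k - (i + 1))) :=
        Subgroup.zpowers_le.2 ⟨(p : ℤ), by
          show (z ^ p ^ (k - (i + 1))) ^ (p : ℤ) = z ^ p ^ (k - i)
          rw [zpow_natCast, ← pow_mul, ← pow_succ]
          congr 2
          omega⟩
      refine (ih (by omega)).step (Subgroup.map_mono (Subgroup.comap_mono hle)) (hsc _ hi) ?_
      simp only [D]
      rw [Subgroup.relIndex_map_map_of_injective _ _ S.subtype_injective, Subgroup.relIndex_comap,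
        Subgroup.map_comap_eq_self_of_surjective (QuotientGroup.mk'_surjective _),
        relIndex_zpowers_succ hk (Nat.lt_of_succ_le hi)]
  exact hDk ▸ key k le_rfl

/-- A chain with cyclic steps refines to one with steps of index dividing `p`. -/
theorem fineReach_of_cyclic [Finite S] [Fact p.Prime] (hS : IsPGroup p S) {m : ℕ}
    {c : Fin (m + 1) → Subgroup Ω} (h0 : c 0 = ⊥) (hsc : ∀ i, F.StronglyClosed (c i))
    (hstep : ∀ i : Fin m, c i.castSucc ≤ c i.succ ∧
      ∃ x ∈ S, c i.succ = c i.castSucc ⊔ Subgroup.zpowers x) : ∀ i, FineReach F p (c i) := by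
  intro i
  induction i using Fin.induction with
  | zero => exact h0 ▸ fineReach_bot F p
  | succ j ih =>
    obtain ⟨-, x, hx, he⟩ := hstep j
    exact fineReach_adjoin hS ih (hsc _) (hsc _) hx he

/-- A fine chain up to `S` makes `S` normal. -/
theorem isNormal_self_of_fine [Finite S] [Fact p.Prime] (hS : IsPGroup p S)
    (hF : F.IsSaturated p) (h : FineReach F p S) : F.IsNormal S := by
  refine isNormal_of_le_essential hS hF ⟨le_rfl, fun R hR φ hφ x => apply_mem hφ x⟩ fun R hR => ?_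
  exfalso
  obtain ⟨m, C, h0, hm, hmono, hsc, hstep⟩ := h
  have := finite_of_le hR.1.1
  refine CfsgLib.FusionEssential.false_of_chain hS hR (fun i => (C (m - i)).subgroupOf R) m
    (by simp only [Nat.sub_zero]; rw [hm]; exact Subgroup.subgroupOf_eq_top.2 hR.1.1)
    (by simp only [Nat.sub_self]; rw [h0, Subgroup.bot_subgroupOf])
    (fun α hα i x hx => (aut_mem_stronglyClosed_iff (hsc _) hR.1.1 hα).2 hx) (fun i hi => ?_)
    (fun i hi => ?_)
  · exact ⟨fun n hn g => conj_mem_stronglyClosed (hsc (m - (i + 1))) (hR.1.1 (g : R).2) hn⟩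
  · have he : m - i = (m - (i + 1)) + 1 := by omega
    rw [he]
    set j := m - (i + 1)
    have hne : (C j).relIndex (C (j + 1)) ≠ 0 := fun h0' => by
      have := hstep j (by omega)
      rw [h0'] at this
      exact (Fact.out : p.Prime).ne_zero (Nat.eq_zero_of_zero_dvd this)
    have hle : ((C j).subgroupOf R).relIndex ((C (j + 1)).subgroupOf R) ≤ p := by
      rw [Subgroup.subgroupOf, Subgroup.relIndex_comap]
      exact (Subgroup.relIndex_le_of_le_right
        (by rw [Subgroup.map_le_iff_le_comap]; exact le_rfl) hne).trans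
        (Nat.le_of_dvd (Fact.out : p.Prime).pos (hstep j (by omega)))
    obtain ⟨e, he'⟩ := ((hS.to_le hR.1.1).to_subgroup ((C (j + 1)).subgroupOf R)).index
      (((C j).subgroupOf R).subgroupOf ((C (j + 1)).subgroupOf R))
    rw [← Subgroup.relIndex] at he'
    rw [he'] at hle ⊢
    have he1 : e ≤ 1 := (Nat.pow_le_pow_iff_right (Fact.out : p.Prime).one_lt).1 (by simpa using hle)
    interval_cases e <;> simp

variable {X : Type*} [Group X]

/-- On a step of index dividing `p` an automorphism is congruent to a power map. -/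
theorem exists_pow_mod [Finite X] [Fact p.Prime] {D B : Subgroup X} (hDB : D ≤ B)
    [(D.subgroupOf B).Normal] (hidx : D.relIndex B ∣ p) {α : MulAut X}
    (hB : ∀ x, α x ∈ B ↔ x ∈ B) (hD : ∀ x, α x ∈ D ↔ x ∈ D) :
    ∃ a : ℕ, a ^ (p - 1) ≡ 1 [MOD p] ∧ (∀ y ∈ B, α y * (y ^ a)⁻¹ ∈ D) ∧ ∀ y ∈ B, y ^ p ∈ D := by
  have hp : p.Prime := Fact.out
  rcases (Nat.dvd_prime hp).1 hidx with h1 | h1
  · have hBD : B ≤ D := Subgroup.relIndex_eq_one.1 h1
    exact ⟨1, by simp [Nat.ModEq], fun y hy =>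
      mul_mem (hBD ((hB y).2 hy)) (inv_mem (pow_mem (hBD hy) _)), fun y hy => pow_mem (hBD hy) p⟩
  let q := QuotientGroup.mk' (D.subgroupOf B)
  have hcard : Nat.card (B ⧸ D.subgroupOf B) = p := by rw [← Subgroup.index_eq_card]; exact h1
  have hker : ∀ y : B, q y = 1 ↔ (y : X) ∈ D := fun y =>
    QuotientGroup.eq_one_iff (N := D.subgroupOf B) y
  obtain ⟨x, hxD⟩ : ∃ x : B, q x ≠ 1 := by
    by_contra h
    push Not at h
    have : Subgroup.zpowers (1 : B ⧸ D.subgroupOf B) = ⊤ := by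
      rw [eq_top_iff]
      intro w _
      obtain ⟨y, rfl⟩ := QuotientGroup.mk'_surjective _ w
      rw [show (QuotientGroup.mk' (D.subgroupOf B)) y = 1 from h y]
      exact one_mem _
    have h2 := congrArg (fun K : Subgroup (B ⧸ D.subgroupOf B) => Nat.card K) this
    simp [hcard] at h2
    exact hp.one_lt.ne h2
  obtain ⟨a, ha⟩ := mem_powers_of_prime_card (g' := q ⟨α x, (hB x).2 x.2⟩) hcard hxD
  have ha' : q ⟨α x, (hB x).2 x.2⟩ = q x ^ a := ha.symm
  refine ⟨a, ?_, fun y hy => ?_, fun y hy => ?_⟩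
  · have hna : ¬ p ∣ a := by
      rintro ⟨b, rfl⟩
      have h3 : q x ^ p = 1 := by rw [← hcard, pow_card_eq_one']
      rw [pow_mul, h3, one_pow] at ha'
      exact hxD ((hker x).2 ((hD x).1 ((hker _).1 ha')))
    have := Nat.ModEq.pow_totient (hp.coprime_iff_not_dvd.2 hna).symm
    rwa [Nat.totient_prime hp] at this
  · obtain ⟨i, hi⟩ := mem_powers_of_prime_card (g' := q ⟨y, hy⟩) hcard hxD
    have hd : ((x ^ i)⁻¹ * ⟨y, hy⟩ : B).1 ∈ D := (hker _).1 (by
      rw [map_mul, map_inv, map_pow, ← hi, inv_mul_cancel])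
    have hαd : α (((x ^ i)⁻¹ * ⟨y, hy⟩ : B) : X) ∈ D := (hD _).2 hd
    have h4 : q ⟨α y, (hB y).2 hy⟩ = q ⟨y, hy⟩ ^ a := by
      have h5 : (⟨α y, (hB y).2 hy⟩ : B) = ⟨α x, (hB x).2 x.2⟩ ^ i *
          ⟨α (((x ^ i)⁻¹ * ⟨y, hy⟩ : B) : X), hDB hαd⟩ :=
        Subtype.ext (by simp)
      rw [h5, map_mul, (hker ⟨_, hDB hαd⟩).2 hαd, mul_one, map_pow, ha', ← hi, ← pow_mul, ← pow_mul, mul_comm]
    have h6 := (hker (⟨α y, (hB y).2 hy⟩ * (⟨y, hy⟩ ^ a)⁻¹)).1 (by
      rw [map_mul, map_inv, map_pow, h4, mul_inv_cancel])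
    simpa using h6
  · exact (hker (⟨y, hy⟩ ^ p)).1 (by rw [map_pow, ← hcard, pow_card_eq_one'])

theorem pow_sub_mem {D : Subgroup X} {y : X} (hy : y ^ p ∈ D) {a b : ℕ} (h : a ≡ b [MOD p]) :
    y ^ a * (y ^ b)⁻¹ ∈ D := by
  rw [← Nat.div_add_mod a p, ← Nat.div_add_mod b p, show a % p = b % p from h, pow_add, pow_add,
    pow_mul, pow_mul]
  have h1 := mul_mem (pow_mem hy (a / p)) (inv_mem (pow_mem hy (b / p)))
  simpa [mul_assoc] using h1

variable [Finite X] [Fact p.Prime] (hX : IsPGroup p X) {C : ℕ → Subgroup X} {m : ℕ}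
  (h0 : C 0 = ⊥) (hm : C m = ⊤) (hmono : Monotone C)
  (hnormal : ∀ i, ((C i).subgroupOf (C (i + 1))).Normal)
  (hstep : ∀ i < m, (C i).relIndex (C (i + 1)) ∣ p)

include hX h0 hm hmono hnormal hstep

theorem pow_sub_one_of_fine {α : MulAut X} (hα : (orderOf α).Coprime p)
    (hinv : ∀ i x, α x ∈ C i ↔ x ∈ C i) : α ^ (p - 1) = 1 := by
  have hst : StabSeries C m (α ^ (p - 1)) := by
    intro i hi y hy
    have := hnormal i
    obtain ⟨a, ha, hay, hyp⟩ :=
      exists_pow_mod (hmono i.le_succ) (hstep i hi) (hinv (i + 1)) (hinv i)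
    have hn : ∀ k, (α ^ k) y ∈ C (i + 1) ∧ (α ^ k) y * (y ^ (a ^ k))⁻¹ ∈ C i := by
      intro k
      induction k with
      | zero => exact ⟨hy, by simp⟩
      | succ k ih =>
        rw [pow_succ', MulAut.mul_apply]
        refine ⟨(hinv _ _).2 ih.1, ?_⟩
        have h1 : α ((α ^ k) y * (y ^ (a ^ k))⁻¹) ∈ C i := (hinv i _).2 ih.2
        have h2 := hay (y ^ (a ^ k)) (pow_mem hy _)
        have h3 := mul_mem h1 h2
        rw [← pow_mul, ← pow_succ] at h3
        simpa [mul_assoc] using h3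
    have h4 := mul_mem (hn (p - 1)).2 (pow_sub_mem (hyp y hy) ha)
    simpa using h4
  refine MulEquiv.ext fun x => fix_of_stab hX h0 hst ?_ m le_rfl x (hm ▸ Subgroup.mem_top x)
  exact hα.coprime_dvd_left (orderOf_pow_dvd _)

theorem commute_of_fine {α β : MulAut X} (hco : (orderOf (α * β * α⁻¹ * β⁻¹)).Coprime p)
    (hαi : ∀ i x, α x ∈ C i ↔ x ∈ C i) (hβi : ∀ i x, β x ∈ C i ↔ x ∈ C i) :
    α * β = β * α := by
  have hst : StabSeries C m (α * β * α⁻¹ * β⁻¹) := by
    intro i hi y hy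
    have := hnormal i
    obtain ⟨a, -, hay, -⟩ :=
      exists_pow_mod (hmono i.le_succ) (hstep i hi) (hαi (i + 1)) (hαi i)
    obtain ⟨b, -, hby, -⟩ :=
      exists_pow_mod (hmono i.le_succ) (hstep i hi) (hβi (i + 1)) (hβi i)
    have key : ∀ w ∈ C (i + 1), α (β w) * (w ^ (a * b))⁻¹ ∈ C i ∧
        β (α w) * (w ^ (a * b))⁻¹ ∈ C i := by
      intro w hw
      constructor
      · have h1 : α (β w * (w ^ b)⁻¹) ∈ C i := (hαi i _).2 (hby w hw)
        have h3 := mul_mem h1 (hay (w ^ b) (pow_mem hw _))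
        rw [← pow_mul, mul_comm b] at h3
        simpa [mul_assoc] using h3
      · have h1 : β (α w * (w ^ a)⁻¹) ∈ C i := (hβi i _).2 (hay w hw)
        have h3 := mul_mem h1 (hby (w ^ a) (pow_mem hw _))
        rw [← pow_mul] at h3
        simpa [mul_assoc] using h3
    obtain ⟨w, rfl⟩ : ∃ w, β (α w) = y := ⟨α⁻¹ (β⁻¹ y), by simp⟩
    have hw : w ∈ C (i + 1) := (hαi _ _).1 ((hβi _ _).1 hy)
    have h5 := mul_mem (key w hw).1 (inv_mem (key w hw).2)
    simpa [mul_assoc] using h5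
  have h : α * β * α⁻¹ * β⁻¹ = 1 :=
    MulEquiv.ext fun x => fix_of_stab hX h0 hst hco m le_rfl x (hm ▸ Subgroup.mem_top x)
  calc α * β = (α * β * α⁻¹ * β⁻¹) * (β * α) := by group
    _ = β * α := by rw [h, one_mul]

end CfsgLib.FusionClosed
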